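import Cfsg.Agent.Lib.KnownB.SLPres.Pair
import Cfsg.Agent.Lib.KnownB.SpPres.Monomial

/-!
# Generating pairs of coprime orders, for products of two special linear groups
-/

set_option autoImplicit false
set_option linter.unusedSectionVars false

open Matrix CfsgLib.Perm.Quad.SL2 CfsgLib.Perm.Quad.SL2Count CfsgLib.SL2Pres CfsgLib.SLPres

namespace CfsgLib.OPlusPres

/-- Commuting elements of coprime exponents are powers of their product. -/
theorem mem_of_coprime_mul {G : Type*} [Group G] {a c : G} (h : Commute a c) {M N : ℕ} (hMN : M.Coprime N)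
    (ha : a ^ M = 1) (hc : c ^ N = 1) {H : Subgroup G} (hac : a * c ∈ H) : a ∈ H ∧ c ∈ H := by
  have key : a ∈ H := by
    obtain ⟨x, y, hxy⟩ : ∃ x y : ℤ, (M : ℤ) * x + N * y = 1 :=
      ⟨Nat.gcdA M N, Nat.gcdB M N, by rw [← Nat.gcd_eq_gcd_ab, hMN.gcd_eq_one, Nat.cast_one]⟩
    have e : (a * c) ^ ((N : ℤ) * y) = a := by
      rw [h.mul_zpow, zpow_mul c, zpow_natCast, hc, _root_.one_zpow, mul_one]
      calc a ^ ((N : ℤ) * y) = a ^ ((M : ℤ) * x) * a ^ ((N : ℤ) * y) := by
            rw [zpow_mul a (M : ℤ), zpow_natCast, ha, _root_.one_zpow, one_mul]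
        _ = a := by rw [← _root_.zpow_add, hxy, zpow_one]
    exact e ▸ H.zpow_mem hac _
  exact ⟨key, by simpa using mul_mem (inv_mem key) hac⟩

variable {F : Type*} [Field F]

/-- Unipotent matrices have characteristic power exponent. -/
theorem exists_pow_char {k : ℕ} (p : ℕ) [CharP F p] [Fact p.Prime] [NeZero k] {u : SpecialLinearGroup (Fin k) F}
    (hu : IsNilpotent ((u : Matrix (Fin k) (Fin k) F) - 1)) : ∃ j : ℕ, u ^ p ^ j = 1 := by
  obtain ⟨e, he⟩ := hu
  refine ⟨e, Subtype.ext ?_⟩
  have h1 := sub_pow_char_pow_of_commute (p := p) (n := e) (Commute.one_right (u : Matrix (Fin k) (Fin k) F))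
  rw [one_pow, show ((u : Matrix (Fin k) (Fin k) F) - 1) ^ p ^ e = 0 from pow_eq_zero_of_le
    (le_of_lt (Nat.lt_pow_self (Fact.out : p.Prime).one_lt)) he, eq_comm, sub_eq_zero] at h1
  simpa using h1

/-- A unipotent element fixing neither point of the split torus. -/
def uElt (a : F) : SL F := ⟨!![1 + a, -(a ^ 2); 1, 1 - a], by simp [Matrix.det_fin_two]; ring⟩

theorem uElt_val (a : F) : (uElt a).1 = !![1 + a, -(a ^ 2); 1, 1 - a] := rfl

theorem uElt_inv_val (a : F) : (uElt a)⁻¹.1 = !![1 - a, a ^ 2; -1, 1 + a] := by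
  rw [Matrix.SpecialLinearGroup.coe_inv, uElt_val, Matrix.adjugate_fin_two]; simp

theorem dSL_inv_val {w : F} (hw : w ≠ 0) : (dSL hw)⁻¹.1 = !![w⁻¹, 0; 0, w] := by
  rw [Matrix.SpecialLinearGroup.coe_inv, dSL_coe, Matrix.adjugate_fin_two]; simp

variable [Fintype F]

theorem eq_top_of_torus_up {H : Subgroup (SL F)} (hT : ∀ s (hs : (s : F) ≠ 0), SLPres.dg s hs ∈ H) {r : F}
    (hr : r ≠ 0) (h : up r ∈ H) {N : SL F} (hN : N ∈ H) (h10 : N.1 1 0 ≠ 0) : H = ⊤ := by
  have hu := ups_all hT hr h
  have hg0 : (up (-(N.1 0 0 / N.1 1 0)) * N).1 0 0 = 0 := by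
    simp [mul_apply2, up_val]
    field_simp
    ring
  exact eq_top_of_up_low hu (low_mem_of_up hu (mul_mem (hu _) hN) hg0)

/-- A torus element and a unipotent element. -/
theorem torus_pair {w : F} (hw : w ≠ 0) (hgen : ∀ x : F, x ≠ 0 → ∃ e : ℕ, w ^ e = x) (h4 : 4 ≤ Fintype.card F) :
    ∃ a : F, a ≠ 0 ∧ ∀ (H : Subgroup (SL F)), dSL hw ∈ H →
      uElt a ∈ H → H = ⊤ := by
  have hT : ∀ H : Subgroup (SL F), dSL hw ∈ H → ∀ s (hs : (s : F) ≠ 0), SLPres.dg s hs ∈ H := by
    intro H hH s hs
    obtain ⟨e, rfl⟩ := hgen s hs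
    rw [← dSL_pow_eq]
    exact pow_mem hH e
  by_cases hq4 : Fintype.card F = 4
  · obtain ⟨h2, -⟩ := pair_four hq4 hw hgen
    have : Fact (Nat.Prime 2) := ⟨Nat.prime_two⟩
    have : CharP F 2 := charP_of_card_eq_prime_pow (f := 2) (by rw [hq4]; norm_num)
    have hp : (2 : F) = 0 := by exact_mod_cast CharP.cast_eq_zero F 2
    refine ⟨w, hw, fun H hd hb => ?_⟩
    set b := uElt w
    have hbv : b.1 = !![1 + w, -(w ^ 2); 1, 1 - w] := uElt_val w
    have hdi := dSL_inv_val hw
    have hi : w⁻¹ = w - 1 := inv_eq_of_mul_eq_one_right (by linear_combination h2)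
    refine eq_top_of_torus_up (hT H hd) (pow_ne_zero 2 hw) (?_ : up (w ^ 2) ∈ H) hb (by rw [hbv]; simp)
    have e : up (w ^ 2) = b * (dSL hw)⁻¹ * b * dSL hw * b := by
      apply ext2 <;> simp [mul_apply2, up_val, hbv, hdi, dSL_coe, hi] <;> grind
    rw [e]
    exact mul_mem (mul_mem (mul_mem (mul_mem hb (inv_mem hd)) hb) hd) hb
  obtain ⟨a, ha0, ha1, ha9⟩ : ∃ a : F, a ≠ 0 ∧ 1 + a ≠ 0 ∧ (Fintype.card F = 9 → a = 1) := by
    by_cases h9 : Fintype.card F = 9
    · have : Fact (Nat.Prime 3) := ⟨Nat.prime_three⟩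
      have : CharP F 3 := charP_of_card_eq_prime_pow (f := 2) (by rw [h9]; norm_num)
      refine ⟨1, one_ne_zero, fun e => ?_, fun _ => rfl⟩
      have h3 : (3 : F) = 0 := by exact_mod_cast CharP.cast_eq_zero F 3
      exact one_ne_zero (show (1 : F) = 0 by linear_combination h3 - e)
    · classical
      obtain ⟨a, -, ha⟩ := Finset.exists_mem_notMem_of_card_lt_card
        (s := ({0, -1} : Finset F)) (t := Finset.univ) (by
          rw [Finset.card_univ]
          exact lt_of_le_of_lt Finset.card_le_two (by omega))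
      simp only [Finset.mem_insert, Finset.mem_singleton, not_or] at ha
      exact ⟨a, ha.1, fun e => ha.2 (by linear_combination e), fun h => absurd h h9⟩
  refine ⟨a, ha0, fun H hd hb => ?_⟩
  set b := uElt a
  have hbv : b.1 = !![1 + a, -(a ^ 2); 1, 1 - a] := uElt_val a
  by_cases h9 : Fintype.card F = 9
  · have : Fact (Nat.Prime 3) := ⟨Nat.prime_three⟩
    have : CharP F 3 := charP_of_card_eq_prime_pow (f := 2) (by rw [h9]; norm_num)
    have h3 : (3 : F) = 0 := by exact_mod_cast CharP.cast_eq_zero F 3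
    have a1 := ha9 h9
    have hbi : b⁻¹.1 = !![1 - a, a ^ 2; -1, 1 + a] := uElt_inv_val a
    refine eq_top_of_torus_up (hT H hd) (r := 1 - w ^ 2) ?_ (?_ : up (1 - w ^ 2) ∈ H) hb (by rw [hbv]; simp)
    · intro e
      have hall : ∀ x : F, x = 0 ∨ x = 1 ∨ x = w := fun x => by
        by_cases hx : x = 0
        · exact Or.inl hx
        obtain ⟨n, rfl⟩ := hgen x hx
        right
        induction n with
        | zero => exact Or.inl (pow_zero w)
        | succ n ih =>
          rcases ih (pow_ne_zero n hw) with h | h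
          · exact Or.inr (by rw [pow_succ, h, one_mul])
          · exact Or.inl (by rw [pow_succ, h]; linear_combination -e)
      classical
      have h := Finset.card_le_card (s := (Finset.univ : Finset F)) (t := {0, 1, w}) fun x _ => by
        simpa using hall x
      have h' := h.trans Finset.card_le_three
      rw [Finset.card_univ, h9] at h'
      omega
    · have e : up (1 - w ^ 2) = dSL hw * b * dSL hw * b⁻¹ := by
        apply ext2 <;> simp [mul_apply2, up_val, hbv, hbi, dSL_coe, a1] <;> grind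
      rw [e]
      exact mul_mem (mul_mem (mul_mem hd hb) hd) (inv_mem hb)
  · exact eq_top_of_torus (hT H hd) (by omega) h9 hb (by simp [tr, hbv]; ring) (by simp [hbv])
      (by simp [hbv, ha0]) (by simpa [hbv] using ha1)

/-- Generators of coprime exponents. -/
theorem coprime_pair (p : ℕ) [CharP F p] [Fact p.Prime] :
    ∃ s b : SL F, ∃ M : ℕ, M.Coprime p ∧ s ^ M = 1 ∧ b ^ p = 1 ∧ Subgroup.closure {s, b} = ⊤ ∧
      s.1 1 0 ≠ 0 ∧ b.1 0 1 ≠ 0 := by
  obtain ⟨w, hw, hgen⟩ := exists_generator (F := F)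
  by_cases h4 : 4 ≤ Fintype.card F
  · obtain ⟨a, ha, htop⟩ := torus_pair hw hgen h4
    set b := uElt a
    have hbv : b.1 = !![1 + a, -(a ^ 2); 1, 1 - a] := uElt_val a
    refine ⟨low 1 * dSL hw * (low 1)⁻¹, low 1 * b * (low 1)⁻¹, Fintype.card F - 1, ?_, ?_, ?_, ?_, ?_, ?_⟩
    · refine (Nat.Prime.coprime_iff_not_dvd Fact.out).2 (fun h => ?_) |>.symm
      obtain ⟨n, -, hn⟩ := FiniteField.card F p
      have h2 : p ∣ Fintype.card F := hn ▸ dvd_pow_self p n.ne_zero
      have := Nat.dvd_sub h2 h
      rw [show Fintype.card F - (Fintype.card F - 1) = 1 by omega] at this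
      exact (Fact.out : p.Prime).not_dvd_one this
    · have hp := FiniteField.pow_card_sub_one_eq_one w hw
      rw [conj_pow, dSL_pow_eq, show dg (w ^ (Fintype.card F - 1)) (pow_ne_zero _ hw) = 1 from ?_]
      · group
      · apply ext2 <;> simp [dg_val, hp]
    · rw [conj_pow, show b ^ p = 1 from pow_char_eq_one p (by simp [tr, hbv]; ring)]
      group
    · rw [eq_top_iff]
      intro x _
      have h := htop ((Subgroup.closure {low 1 * dSL hw * (low 1)⁻¹, low 1 * b * (low 1)⁻¹}).comap
        (MulAut.conj (low (1 : F))).toMonoidHom) (Subgroup.subset_closure (Or.inl rfl))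
        (Subgroup.subset_closure (Or.inr rfl))
      have := h.ge (Subgroup.mem_top ((low 1)⁻¹ * x * low 1))
      simpa [Subgroup.mem_comap, mul_assoc] using this
    · rw [low_inv]
      simp [mul_apply2, low_val, dSL_coe]
      intro e
      have h2 : w ^ 2 = 1 := by field_simp at e; linear_combination e
      have hall : ∀ x : F, x = 0 ∨ x = 1 ∨ x = w := fun x => by
        by_cases hx : x = 0
        · exact Or.inl hx
        obtain ⟨n, rfl⟩ := hgen x hx
        right
        induction n with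
        | zero => exact Or.inl (pow_zero w)
        | succ n ih =>
          rcases ih (pow_ne_zero n hw) with h | h
          · exact Or.inr (by rw [pow_succ, h, one_mul])
          · exact Or.inl (by rw [pow_succ, h, ← pow_two, h2])
      classical
      have h := Finset.card_le_card (s := (Finset.univ : Finset F)) (t := {0, 1, w}) fun x _ => by
        simpa using hall x
      have h' := h.trans Finset.card_le_three
      rw [Finset.card_univ] at h'
      omega
    · rw [low_inv]
      simpa [mul_apply2, low_val, hbv] using ha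
  · have hq : Fintype.card F = 2 ∨ Fintype.card F = 3 := by
      have := Fintype.one_lt_card (α := F)
      omega
    have hp : p = Fintype.card F := by
      obtain ⟨n, hp, hn⟩ := FiniteField.card F p
      rcases hq with h | h <;> rw [h] at hn ⊢
      · exact (Nat.prime_dvd_prime_iff_eq hp Nat.prime_two).1 (hn ▸ dvd_pow_self p n.ne_zero)
      · exact (Nat.prime_dvd_prime_iff_eq hp Nat.prime_three).1 (hn ▸ dvd_pow_self p n.ne_zero)
    subst hp
    have hup : ∀ H : Subgroup (SL F), up (1 : F) ∈ H → ∀ g ∈ H, g.1 1 0 ≠ 0 → H = ⊤ := by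
      intro H h1 g hg h10
      have hall : ∀ x : F, ∃ k : ℕ, (k : F) = x := fun x => by
        refine ⟨((ZMod.ringEquivOfPrime F Fact.out rfl).symm x).val, ?_⟩
        rw [← map_natCast (ZMod.ringEquivOfPrime F Fact.out rfl), ZMod.natCast_zmod_val, RingEquiv.apply_symm_apply]
      have hu : ∀ x, up x ∈ H := fun x => by
        obtain ⟨k, rfl⟩ := hall x
        induction k with
        | zero => simp [up_zero]
        | succ k ih => rw [Nat.cast_succ, ← up_add]; exact mul_mem ih h1
      have hg0 : (up (-(g.1 0 0 / g.1 1 0)) * g).1 0 0 = 0 := by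
        simp [mul_apply2, up_val]
        field_simp
        ring
      exact eq_top_of_up_low hu (low_mem_of_up hu (mul_mem (hu _) hg) hg0)
    have hb : (up (1 : F)) ^ Fintype.card F = 1 := pow_char_eq_one _ (by simp [tr, up_val]; ring)
    rcases hq with h | h
    · have hp2 : (2 : F) = 0 := by
        have := CharP.cast_eq_zero F (Fintype.card F)
        simpa [h] using this
      let s : SL F := jSL * up (1 : F)
      have hs : s ^ 3 = 1 := by apply ext2 <;> simp [pow_succ, mul_apply2, s, jSL_coe, up_val] <;> grind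
      exact ⟨s, up 1, 3, by rw [h]; norm_num, hs, hb, hup _ (Subgroup.subset_closure (Or.inr rfl)) s
        (Subgroup.subset_closure (Or.inl rfl)) (by simp [s, mul_apply2, jSL_coe, up_val]), by simp [s, mul_apply2, jSL_coe, up_val], by simp [up_val]⟩
    · have hs : (jSL : SL F) ^ 4 = 1 := by apply ext2 <;> simp [pow_succ, mul_apply2, jSL_coe]
      exact ⟨jSL, up 1, 4, by rw [h]; norm_num, hs, hb, hup _ (Subgroup.subset_closure (Or.inr rfl)) jSL
        (Subgroup.subset_closure (Or.inl rfl)) (by simp [jSL_coe]), by simp [jSL_coe], by simp [up_val]⟩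

end CfsgLib.OPlusPres
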