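import Cfsg.Agent.Lib.KnownB.OPlusPres.ORel

/-!
# Commuting rank one subgroups from two or three relations
-/

set_option autoImplicit false
set_option linter.unusedSectionVars false

open Matrix CfsgLib.Perm.Quad.SL2 CfsgLib.Perm.Quad.SL2Count CfsgLib.SL2Pres CfsgLib.SLPres CfsgLib.Classical
open CfsgLib.SpPres CfsgLib.KnownA.StSL

namespace CfsgLib.OPlusPres

variable {F : Type*} [Field F] {n : ℕ}

theorem emb2_scale {i j a b : Fin n} (h : i ≠ j) (h' : a ≠ b) {x : F} (hx : x ≠ 0) {c : F} (hc : c ≠ 0)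
    (hcoef : (if a = i then x else if a = j then x⁻¹ else 1) / (if b = i then x else if b = j then x⁻¹ else 1) = c)
    (z : SL F) :
    emb2 i j (dSL hx) * emb2 a b z * (emb2 i j (dSL hx))⁻¹ =
      (emb2 a b (scHom hc z) : SpecialLinearGroup (Fin n) F) := by
  have : (MulAut.conj (emb2 i j (dSL hx) : SpecialLinearGroup (Fin n) F)).toMonoidHom.comp (emb2 a b) =
      (emb2 a b).comp (scHom hc) := by
    refine sl2_hom_ext (fun t => ?_) fun t => ?_
    · show emb2 i j (dSL hx) * emb2 a b (up t) * (emb2 i j (dSL hx))⁻¹ = emb2 a b (scHom hc (up t))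
      rw [show scHom hc (up t) = up (c * t) by apply ext2 <;> simp [scHom_val, up_val], emb2_up h', emb2_up h',
        emb2_dSL h, diag2n_scale h hx h', hcoef]
    · show emb2 i j (dSL hx) * emb2 a b (low t) * (emb2 i j (dSL hx))⁻¹ = emb2 a b (scHom hc (low t))
      rw [show scHom hc (low t) = low (c⁻¹ * t) by apply ext2 <;> simp [scHom_val, low_val], emb2_low h',
        emb2_low h', emb2_dSL h, diag2n_scale h hx h'.symm, ← hcoef, inv_div]
  exact DFunLike.congr_fun this z

variable [Fintype F] {P : Type*} [Group P]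

theorem eq_top_of_low_one {H : Subgroup (SL F)} (hl : ∀ t, low t ∈ H) {g : SL F} (hg : g ∈ H)
    (h : g.1 0 1 ≠ 0) : H = ⊤ := by
  have hu : ∀ x, up x ∈ H.comap swHom := fun x => Subgroup.mem_comap.2 (by rw [swHom_up]; exact hl x)
  have hgs : swHom g ∈ H.comap swHom := Subgroup.mem_comap.2 (by rwa [swHom_swHom])
  have hg0 : (up (-((swHom g).1 0 0 / (swHom g).1 1 0)) * swHom g).1 0 0 = 0 := by
    simp [mul_apply2, up_val, swHom_val]
    field_simp
    ring
  have := eq_top_of_up_low hu (low_mem_of_up hu (mul_mem (hu _) hgs) hg0)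
  rw [eq_top_iff]
  intro z _
  have hz := Subgroup.mem_comap.1 (this.ge (Subgroup.mem_top (swHom z)))
  rwa [swHom_swHom] at hz

theorem eq_top_of_up_one {H : Subgroup (SL F)} (hu : ∀ t, up t ∈ H) {g : SL F} (hg : g ∈ H)
    (h : g.1 1 0 ≠ 0) : H = ⊤ := by
  have hg0 : (up (-(g.1 0 0 / g.1 1 0)) * g).1 0 0 = 0 := by
    simp [mul_apply2, up_val]
    field_simp
    ring
  exact eq_top_of_up_low hu (low_mem_of_up hu (mul_mem (hu _) hg) hg0)

/-- The element of two rank one subgroups. -/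
def twoElt (hn : 4 ≤ n) (a b : SL F) : SpecialLinearGroup (Fin n) F :=
  emb2 (ix hn 0) (ix hn 1) a * emb2 (ix hn 2) (ix hn 3) b

theorem twoElt_commute (hn : 4 ≤ n) (a b : SL F) :
    Commute (emb2 (ix hn 0) (ix hn 1) a : SpecialLinearGroup (Fin n) F) (emb2 (ix hn 2) (ix hn 3) b) :=
  emb2_commute (ix_ne hn (by decide)) (ix_ne hn (by decide)) (ix_ne hn (by decide)) (ix_ne hn (by decide))
    (ix_ne hn (by decide)) (ix_ne hn (by decide)) a b

variable {hn : 4 ≤ n} {φ : SpecialLinearGroup (Fin n) F →* P} {d : P}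

/-- The two commutation statements of one element. -/
def Good (hn : 4 ≤ n) (φ : SpecialLinearGroup (Fin n) F →* P) (d : P) (z : SL F) : Prop :=
  ∀ z', Commute (d * φ (emb2 (ix hn 0) (ix hn 1) z) * d) (φ (emb2 (ix hn 0) (ix hn 1) z')) ∧
    Commute (d * φ (emb2 (ix hn 0) (ix hn 1) z) * d) (φ (emb2 (ix hn 2) (ix hn 3) z'))

variable (dd : d * d = 1)
  (cK : ∀ a b, a ≠ b → Out hn a → Out hn b → ∀ t, Commute d (yTr φ a b t))
  (hflip : ∀ z, d * φ (emb2 (ix hn 1) (ix hn 2) z) * d = φ (emb2 (ix hn 1) (ix hn 2) (cj z)))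
include dd

/-- The good elements. -/
def goodSub : Subgroup (SL F) where
  carrier := {z | Good hn φ d z}
  one_mem' z' := by simp [dd]
  mul_mem' := fun {a b} ha hb z' => by
    have e : ∀ x y : P, d * (x * y) * d = (d * x * d) * (d * y * d) := fun x y => by
      rw [show d * x * d * (d * y * d) = d * x * (d * d) * y * d by group, dd, mul_one]
      group
    rw [map_mul, map_mul, e]
    exact ⟨(ha z').1.mul_left (hb z').1, (ha z').2.mul_left (hb z').2⟩
  inv_mem' := fun {a} ha z' => by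
    have e : d * φ (emb2 (ix hn 0) (ix hn 1) a⁻¹) * d = (d * φ (emb2 (ix hn 0) (ix hn 1) a) * d)⁻¹ := by
      rw [map_inv, map_inv, _root_.mul_inv_rev, _root_.mul_inv_rev, inv_eq_of_mul_eq_one_right dd, mul_assoc]
    rw [e]
    exact ⟨(ha z').1.inv_left, (ha z').2.inv_left⟩

/-- One relation with a product of coprime exponents gives two. -/
theorem split_rel {z a b : SL F} {M N : ℕ} (hMN : M.Coprime N) (ha : a ^ M = 1) (hb : b ^ N = 1)
    (h : Commute (d * φ (emb2 (ix hn 0) (ix hn 1) z) * d) (φ (twoElt hn a b))) :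
    Commute (d * φ (emb2 (ix hn 0) (ix hn 1) z) * d) (φ (emb2 (ix hn 0) (ix hn 1) a)) ∧
      Commute (d * φ (emb2 (ix hn 0) (ix hn 1) z) * d) (φ (emb2 (ix hn 2) (ix hn 3) b)) := by
  set g := d * φ (emb2 (ix hn 0) (ix hn 1) z) * d
  rw [twoElt, map_mul] at h
  obtain ⟨h1, h2⟩ := mem_of_coprime_mul ((twoElt_commute hn a b).map φ) hMN (by rw [← map_pow, ← map_pow, ha,
    map_one, map_one]) (by rw [← map_pow, ← map_pow, hb, map_one, map_one])
    (Subgroup.mem_centralizer_singleton_iff.2 h.eq.symm : _ ∈ Subgroup.centralizer {g})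
  exact ⟨(Subgroup.mem_centralizer_singleton_iff.1 h1).symm, (Subgroup.mem_centralizer_singleton_iff.1 h2).symm⟩

theorem good_of_pair {z s b : SL F} (hsb : Subgroup.closure {s, b} = ⊤) {M N : ℕ} (hMN : M.Coprime N)
    (hs : s ^ M = 1) (hb : b ^ N = 1)
    (h1 : Commute (d * φ (emb2 (ix hn 0) (ix hn 1) z) * d) (φ (twoElt hn s b)))
    (h2 : Commute (d * φ (emb2 (ix hn 0) (ix hn 1) z) * d) (φ (twoElt hn b s))) : Good hn φ d z := by
  obtain ⟨a1, a2⟩ := split_rel dd hMN hs hb h1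
  obtain ⟨b1, b2⟩ := split_rel dd hMN.symm hb hs h2
  set g := d * φ (emb2 (ix hn 0) (ix hn 1) z) * d
  have key : ∀ f : SL F →* P, Commute g (f s) → Commute g (f b) → ∀ z', Commute g (f z') := fun f e1 e2 z' => by
    have : Subgroup.closure {s, b} ≤ (Subgroup.centralizer {g}).comap f := (Subgroup.closure_le _).2 (by
      rintro _ (rfl | rfl)
      exacts [Subgroup.mem_centralizer_singleton_iff.2 e1.eq.symm,
        Subgroup.mem_centralizer_singleton_iff.2 e2.eq.symm])
    exact (Subgroup.mem_centralizer_singleton_iff.1 (this (hsb.ge (Subgroup.mem_top z')))).symm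
  exact fun z' => ⟨key (φ.comp (emb2 _ _)) a1 b1 z', key (φ.comp (emb2 _ _)) b2 a2 z'⟩

include hflip

theorem good_scale {x : F} (hx : x ≠ 0) {z : SL F} (h : Good hn φ d z) : Good hn φ d (scHom hx z) := by
  have h01 := ix_ne hn (show (0 : Fin 4) ≠ 1 by decide)
  have h12 := ix_ne hn (show (1 : Fin 4) ≠ 2 by decide)
  have h23 := ix_ne hn (show (2 : Fin 4) ≠ 3 by decide)
  have h02 := ix_ne hn (show (0 : Fin 4) ≠ 2 by decide)
  have h13 := ix_ne hn (show (1 : Fin 4) ≠ 3 by decide)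
  set g := φ (emb2 (ix hn 1) (ix hn 2) (dSL hx))
  have hgd : d * g * d = g⁻¹ := by rw [hflip, cj_dSL, map_inv, map_inv]
  have hgd' : d * g⁻¹ * d = g := by rw [← hgd]; rw [show d * (d * g * d) * d = d * d * g * (d * d) by group, dd]; group
  have s1 : ∀ w : SL F, (emb2 (ix hn 1) (ix hn 2) (dSL (inv_ne_zero hx))) * emb2 (ix hn 0) (ix hn 1) w *
      (emb2 (ix hn 1) (ix hn 2) (dSL (inv_ne_zero hx)))⁻¹ =
      (emb2 (ix hn 0) (ix hn 1) (scHom hx w) : SpecialLinearGroup (Fin n) F) := fun w =>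
    emb2_scale h12 h01 _ hx (by simp [h01, h02]) w
  have s1' : ∀ w : SL F, (emb2 (ix hn 1) (ix hn 2) (dSL hx)) * emb2 (ix hn 0) (ix hn 1) w *
      (emb2 (ix hn 1) (ix hn 2) (dSL hx))⁻¹ =
      (emb2 (ix hn 0) (ix hn 1) (scHom (inv_ne_zero hx) w) : SpecialLinearGroup (Fin n) F) := fun w =>
    emb2_scale h12 h01 _ _ (by simp [h01, h02]) w
  have s2 : ∀ w : SL F, (emb2 (ix hn 1) (ix hn 2) (dSL hx)) * emb2 (ix hn 2) (ix hn 3) w *
      (emb2 (ix hn 1) (ix hn 2) (dSL hx))⁻¹ =
      (emb2 (ix hn 2) (ix hn 3) (scHom (inv_ne_zero hx) w) : SpecialLinearGroup (Fin n) F) := fun w =>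
    emb2_scale h12 h23 _ _ (by simp [h12.symm, h13.symm, h23.symm]) w
  have eA : g * (d * φ (emb2 (ix hn 0) (ix hn 1) z) * d) * g⁻¹ =
      d * φ (emb2 (ix hn 0) (ix hn 1) (scHom hx z)) * d := by
    have hg' : g⁻¹ = φ (emb2 (ix hn 1) (ix hn 2) (dSL (inv_ne_zero hx))) := by
      show (φ _)⁻¹ = _
      rw [← map_inv, ← map_inv, dSL_inv]
    have hm : φ (emb2 (ix hn 0) (ix hn 1) (scHom hx z)) = g⁻¹ * φ (emb2 (ix hn 0) (ix hn 1) z) * g := by
      rw [← s1, map_mul, map_mul, map_inv, ← hg', inv_inv]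
    rw [hm]
    conv_lhs => arg 2; rw [← hgd]
    conv_lhs => arg 1; arg 1; rw [← hgd']
    rw [show d * g⁻¹ * d * (d * φ (emb2 (ix hn 0) (ix hn 1) z) * d) * (d * g * d) =
      d * g⁻¹ * (d * d) * φ (emb2 (ix hn 0) (ix hn 1) z) * (d * d) * g * d by group, dd]
    group
  intro z'
  rw [← eA]
  have hsurj : ∀ w : SL F, scHom (inv_ne_zero hx) (scHom hx w) = w := fun w => by
    apply ext2 <;> simp [scHom_val] <;> field_simp
  refine ⟨?_, ?_⟩
  · have := (h (scHom hx z')).1.map (MulAut.conj g)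
    simp only [MulAut.conj_apply] at this
    convert this using 1
    rw [← map_inv, ← map_mul, ← map_mul, s1', hsurj]
  · have := (h (scHom hx z')).2.map (MulAut.conj g)
    simp only [MulAut.conj_apply] at this
    convert this using 1
    rw [← map_inv, ← map_mul, ← map_mul, s2, hsurj]

/-- The odd case. -/
theorem good_all_odd (h2 : (2 : F) ≠ 0) (h : Good hn φ d (uElt (1 : F))) : ∀ z, Good hn φ d z := by
  set C := goodSub (hn := hn) (φ := φ) dd
  set m : SL F := scHom (neg_ne_zero.2 (one_ne_zero (α := F))) (uElt 1) * (uElt 1)⁻¹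
  have hm : m ∈ C := mul_mem (good_scale dd hflip _ h) (inv_mem (show uElt (1 : F) ∈ C from h))
  have e : m * m = up (-8 : F) := by
    have hv : m.1 = !![-1, 4; 0, -1] := by
      show (scHom _ (uElt 1)).1 * (uElt 1)⁻¹.1 = _
      rw [scHom_val, uElt_inv_val, uElt_val]
      ext i j; fin_cases i <;> fin_cases j <;> simp [Matrix.mul_apply, Fin.sum_univ_two] <;> ring
    apply ext2 <;> simp [mul_apply2, hv, up_val] <;> ring
  have h8 : (-8 : F) ≠ 0 := by
    rw [show (-8 : F) = -(2 ^ 3) by norm_num]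
    exact neg_ne_zero.2 (pow_ne_zero 3 h2)
  have hu : ∀ t, up t ∈ C := fun t => by
    by_cases ht : t = 0
    · rw [ht, up_zero]; exact one_mem _
    have hc : t / (-8) ≠ 0 := div_ne_zero ht h8
    have h8' : up (-8 : F) ∈ C := e ▸ mul_mem hm hm
    have := good_scale dd hflip hc h8'
    rw [show scHom hc (up (-8 : F)) = up t by
      apply ext2 <;> simp only [scHom_val, up_val] <;> simp [div_mul_cancel₀ t h8]] at this
    exact this
  have := eq_top_of_up_one hu (show uElt (1 : F) ∈ C from h) (by simp [uElt_val])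
  exact fun z => this.ge (Subgroup.mem_top z)

include cK

/-- The even case. -/
theorem good_all_even {s b : SL F} {M N : ℕ} (hMN : M.Coprime N)
    (hs : s ^ M = 1) (hb : b ^ N = 1) (hs10 : s.1 1 0 ≠ 0) (hb01 : b.1 0 1 ≠ 0) (h : Good hn φ d (up (1 : F)))
    (h6 : Commute (d * φ (emb2 (ix hn 0) (ix hn 1) (low (1 : F))) * d) (φ (twoElt hn s b))) :
    ∀ z, Good hn φ d z := by
  have h01 := ix_ne hn (show (0 : Fin 4) ≠ 1 by decide)
  have h12 := ix_ne hn (show (1 : Fin 4) ≠ 2 by decide)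
  have h03 := ix_ne hn (show (0 : Fin 4) ≠ 3 by decide)
  have h23 := ix_ne hn (show (2 : Fin 4) ≠ 3 by decide)
  have h02 := ix_ne hn (show (0 : Fin 4) ≠ 2 by decide)
  have h13 := ix_ne hn (show (1 : Fin 4) ≠ 3 by decide)
  set C := goodSub (hn := hn) (φ := φ) dd
  have hu : ∀ t, up t ∈ C := fun t => by
    by_cases ht : t = 0
    · rw [ht, up_zero]; exact one_mem _
    have := good_scale dd hflip ht h
    rwa [show scHom ht (up (1 : F)) = up t by apply ext2 <;> simp [scHom_val, up_val]] at this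
  have dc : ∀ x y : P, Commute (d * x * d) y → Commute x (d * y * d) := fun x y h => by
    have hi : d⁻¹ = d := inv_eq_of_mul_eq_one_right dd
    have := h.map (MulAut.conj d)
    simp only [MulAut.conj_apply, hi] at this
    rwa [show d * (d * x * d) * d = d * d * x * (d * d) by group, dd, one_mul, mul_one] at this
  obtain ⟨a1, a2⟩ := split_rel dd hMN hs hb h6
  set g := d * φ (emb2 (ix hn 0) (ix hn 1) (low (1 : F))) * d
  have key : ∀ f : SL F →* P, ∀ x, x ∈ (Subgroup.centralizer {g}).comap f ↔ Commute g (f x) := fun f x =>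
    ⟨fun e => (Subgroup.mem_centralizer_singleton_iff.1 e).symm,
      fun e => Subgroup.mem_centralizer_singleton_iff.2 e.eq.symm⟩
  -- the first pair
  have t1 : (Subgroup.centralizer {g}).comap (φ.comp (emb2 (ix hn 0) (ix hn 1))) = ⊤ :=
    eq_top_of_up_one (fun t => (key _ _).2 (dc _ _ ((hu t) (low 1)).1).symm) ((key _ _).2 a1) hs10
  -- the second pair
  have hlow : ∀ t, Commute g (φ (emb2 (ix hn 2) (ix hn 3) (low t))) := by
    intro t
    set W : SpecialLinearGroup (Fin n) F := emb2 (ix hn 0) (ix hn 3) jSL * emb2 (ix hn 1) (ix hn 2) jSL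
    have hdW : Commute d (φ W) := by
      have e := hflip jSL
      rw [cj_jSL, ← (show d⁻¹ = d from inv_eq_of_mul_eq_one_right dd)] at e
      have hd2 : Commute d (φ (emb2 (ix hn 1) (ix hn 2) jSL)) := by
        have hi : d⁻¹ = d := inv_eq_of_mul_eq_one_right dd
        conv at e => lhs; arg 1; arg 1; rw [hi]
        exact mul_inv_eq_iff_eq_mul.1 e
      have hd0 : Commute d (φ (emb2 (ix hn 0) (ix hn 3) jSL)) := by
        rw [emb2_jSL h03, map_mul, map_mul, ← yTr_eq φ, ← yTr_eq φ]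
        exact ((cK _ _ h03 (out_zero hn) (out_three hn) _).mul_right
          (cK _ _ h03.symm (out_three hn) (out_zero hn) _)).mul_right (cK _ _ h03 (out_zero hn) (out_three hn) _)
      rw [map_mul]; exact hd0.mul_right hd2
    obtain ⟨e1, e1ne, he1⟩ : ∃ e : F, e ≠ 0 ∧ ∀ u, φ W * φ (SpecialLinearGroup.transvection h01 u) * (φ W)⁻¹ =
        yTr φ (ix hn 3) (ix hn 2) (e * u) := by
      refine ⟨wSgn (ix hn 0) (ix hn 0) * wSgn (ix hn 0) (ix hn 2) * (wSgn (ix hn 1) (ix hn 0) * wSgn (ix hn 1) (ix hn 1)),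
        by simp [wSgn, h01, h01.symm, h02.symm], fun u => ?_⟩
      rw [← map_inv, ← map_mul, ← map_mul, yTr_eq φ h23.symm]
      congr 1
      rw [show W * SpecialLinearGroup.transvection h01 u * W⁻¹ = emb2 (ix hn 0) (ix hn 3) jSL *
        (emb2 (ix hn 1) (ix hn 2) jSL * SpecialLinearGroup.transvection h01 u *
          (emb2 (ix hn 1) (ix hn 2) jSL)⁻¹) * (emb2 (ix hn 0) (ix hn 3) jSL)⁻¹ by simp only [W]; group,
        conj_transvection_jSL h12 h01, conj_transvection_jSL h03]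
      apply Subtype.ext
      show Matrix.transvection _ _ _ = Matrix.transvection _ _ _
      simp [Equiv.swap_apply_of_ne_of_ne h01 h02, Equiv.swap_apply_of_ne_of_ne h02.symm h23, mul_assoc]
    obtain ⟨e2, e2ne, he2⟩ : ∃ e : F, e ≠ 0 ∧ ∀ u, φ W * φ (SpecialLinearGroup.transvection h23 u) * (φ W)⁻¹ =
        yTr φ (ix hn 1) (ix hn 0) (e * u) := by
      refine ⟨wSgn (ix hn 0) (ix hn 1) * wSgn (ix hn 0) (ix hn 3) * (wSgn (ix hn 1) (ix hn 2) * wSgn (ix hn 1) (ix hn 3)),
        by simp [wSgn, h01.symm, h03.symm, h12.symm, h13.symm], fun u => ?_⟩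
      rw [← map_inv, ← map_mul, ← map_mul, yTr_eq φ h01.symm]
      congr 1
      rw [show W * SpecialLinearGroup.transvection h23 u * W⁻¹ = emb2 (ix hn 0) (ix hn 3) jSL *
        (emb2 (ix hn 1) (ix hn 2) jSL * SpecialLinearGroup.transvection h23 u *
          (emb2 (ix hn 1) (ix hn 2) jSL)⁻¹) * (emb2 (ix hn 0) (ix hn 3) jSL)⁻¹ by simp only [W]; group,
        conj_transvection_jSL h12 h23, conj_transvection_jSL h03]
      apply Subtype.ext
      show Matrix.transvection _ _ _ = Matrix.transvection _ _ _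
      simp [Equiv.swap_apply_of_ne_of_ne h13.symm h23.symm, Equiv.swap_apply_of_ne_of_ne h01.symm h13, mul_assoc]
    have hq := ((hu (t / e1) (up (1 / e2))).2).map (MulAut.conj (φ W))
    simp only [MulAut.conj_apply] at hq
    rw [emb2_up h01, emb2_up h23, he2, mul_one_div_cancel e2ne,
      show φ W * (d * φ (SpecialLinearGroup.transvection h01 (t / e1)) * d) * (φ W)⁻¹ =
        d * (φ W * φ (SpecialLinearGroup.transvection h01 (t / e1)) * (φ W)⁻¹) * d by
        rw [← mul_assoc, ← mul_assoc, ← hdW.eq]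
        simp only [mul_assoc]
        rw [(hdW.inv_right).eq],
      he1, mul_div_cancel₀ t e1ne] at hq
    have hfin := (dc _ _ hq).symm
    rw [yTr_eq φ h23.symm, ← emb2_low h23, yTr_eq φ h01.symm, ← emb2_low h01] at hfin
    exact hfin
  have t2 : (Subgroup.centralizer {g}).comap (φ.comp (emb2 (ix hn 2) (ix hn 3))) = ⊤ :=
    eq_top_of_low_one (fun t => (key _ _).2 (hlow t)) ((key _ _).2 a2) hb01
  have hlC : low (1 : F) ∈ C := fun z' => ⟨(key (φ.comp (emb2 _ _)) z').1 (t1.ge (Subgroup.mem_top _)),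
    (key (φ.comp (emb2 _ _)) z').1 (t2.ge (Subgroup.mem_top _))⟩
  have := eq_top_of_up_one hu hlC (by simp [low_val])
  exact fun z => this.ge (Subgroup.mem_top z)

end CfsgLib.OPlusPres
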