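import Cfsg.Agent.Lib.KnownB.OPlusPres.Cols
import Cfsg.Agent.Lib.KnownB.SpPres.Target
import Cfsg.Agent.Lib.Chevalley.SingleBond.OmegaRange

/-!
# The Levi subgroup and the double exchange inside the plus type isometry group
-/

set_option autoImplicit false
set_option linter.unusedSectionVars false

open Matrix CfsgLib.Perm.Quad.SL2 CfsgLib.SL2Pres CfsgLib.SLPres CfsgLib.Classical CfsgLib.SpPres
open CfsgLib.Chevalley.SingleBond
open scoped commutatorElement

namespace CfsgLib.OPlusPres

variable {F : Type*} [Field F] {n : ℕ}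

/-- The alternating matrix of a pair. -/
def altM (i j : Fin n) (t : F) : Matrix (Fin n) (Fin n) F := Matrix.single i j t - Matrix.single j i t

theorem altM_apply (i j a b : Fin n) (t : F) :
    altM i j t a b = (if i = a ∧ j = b then t else 0) - if j = a ∧ i = b then t else 0 := by
  simp [altM, Matrix.single_apply]

theorem congr'_sub (A M N : Matrix (Fin n) (Fin n) F) : congr' A (M - N) = congr' A M - congr' A N := by
  simp only [congr', Matrix.mul_sub, Matrix.sub_mul]

theorem congr'_col {A : Matrix (Fin n) (Fin n) F} {i j i' j' : Fin n} {c c' : F} (hi : Col A i i' c)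
    (hj : Col A j j' c') (t : F) : congr' A (Matrix.single i j t) = Matrix.single i' j' (c * c' * t) := by
  ext x y
  rw [congr', Matrix.mul_apply, Finset.sum_eq_single j]
  · rw [Matrix.mul_apply, Finset.sum_eq_single i]
    · rw [Matrix.transpose_apply, Matrix.single_apply, if_pos ⟨rfl, rfl⟩, hi, hj, Matrix.single_apply]
      by_cases hx : x = i'
      · by_cases hy : y = j'
        · rw [if_pos hx, if_pos hy, if_pos ⟨hx.symm, hy.symm⟩]; ring
        · rw [if_neg hy, if_neg (fun e : i' = x ∧ j' = y => hy e.2.symm), mul_zero]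
      · rw [if_neg hx, if_neg (fun e : i' = x ∧ j' = y => hx e.1.symm), zero_mul, zero_mul]
    · intro z _ hz; rw [Matrix.single_apply, if_neg (fun e => hz e.1.symm), mul_zero]
    · simp
  · intro z _ hz
    rw [Matrix.mul_apply, Finset.sum_eq_zero, zero_mul]
    intro w _
    rw [Matrix.single_apply, if_neg (fun e => hz e.2.symm), mul_zero]
  · simp

theorem congr'_altM {A : Matrix (Fin n) (Fin n) F} {i j i' j' : Fin n} {c c' : F} (hi : Col A i i' c)
    (hj : Col A j j' c') (t : F) : congr' A (altM i j t) = altM i' j' (c * c' * t) := by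
  rw [altM, congr'_sub, congr'_col hi hj, congr'_col hj hi, mul_comm c', altM]

theorem el_up {i j : Fin n} (t : F) : Plus.el (Sum.inl i) (Sum.inr j) t = upBlk (altM i j t) := by
  ext a b
  rcases a with a | a <;> rcases b with b | b <;>
    simp [Plus.el, upBlk, altM, Matrix.single_apply, Matrix.one_apply]

theorem el_low {i j : Fin n} (t : F) : Plus.el (Sum.inr i) (Sum.inl j) t = lowBlk (altM i j t) := by
  ext a b
  rcases a with a | a <;> rcases b with b | b <;>
    simp [Plus.el, lowBlk, altM, Matrix.single_apply, Matrix.one_apply]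

theorem lev_conj_upBlk (A : SpecialLinearGroup (Fin n) F) {g : ↥(Plus.O n F)} {X : Matrix (Fin n) (Fin n) F}
    (hg : Plus.mat g = upBlk X) :
    Plus.mat (Plus.lev n A * g * (Plus.lev n A)⁻¹) = upBlk (congr' A.1 X) := by
  rw [← map_inv, Plus.mat_mul, Plus.mat_mul, hg, Plus.mat_lev, Plus.mat_lev, inv_inv, upBlk, upBlk,
    fromBlocks_multiply, fromBlocks_multiply]
  simp only [Matrix.mul_zero, Matrix.zero_mul, add_zero, zero_add, Matrix.mul_one, congr']
  rw [sl_mul_inv_val, ← Matrix.transpose_mul, sl_mul_inv_val, Matrix.transpose_one]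

theorem lev_conj_lowBlk (A : SpecialLinearGroup (Fin n) F) {g : ↥(Plus.O n F)} {X : Matrix (Fin n) (Fin n) F}
    (hg : Plus.mat g = lowBlk X) :
    Plus.mat (Plus.lev n A * g * (Plus.lev n A)⁻¹) = lowBlk (congr' (invT A).1 X) := by
  rw [← map_inv, Plus.mat_mul, Plus.mat_mul, hg, Plus.mat_lev, Plus.mat_lev, inv_inv, lowBlk, lowBlk,
    fromBlocks_multiply, fromBlocks_multiply]
  simp only [Matrix.mul_zero, Matrix.zero_mul, add_zero, zero_add, Matrix.mul_one, congr', invT_val,
    Matrix.transpose_transpose]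
  rw [sl_mul_inv_val, ← Matrix.transpose_mul, sl_mul_inv_val, Matrix.transpose_one]

/-- The double exchange. -/
def dEl (hn : 4 ≤ n) : ↥(Plus.O n F) := Plus.flipEl (ix hn 1) * Plus.flipEl (ix hn 2)

theorem flip_commute (i j : Fin n) : Commute (Plus.flipEl (F := F) i) (Plus.flipEl j) := by
  refine Plus.mat_injective ?_
  rw [Plus.mat_mul, Plus.mat_mul, Plus.mat_flip, Plus.mat_flip, Plus.perm_mul, Plus.perm_mul,
    Matrix.submatrix_submatrix, Matrix.submatrix_submatrix]
  congr 1
  funext x
  show Plus.flipPerm j (Plus.flipPerm i x) = Plus.flipPerm i (Plus.flipPerm j x)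
  by_cases h : i = j
  · subst h; rfl
  rcases x with x | x <;> by_cases hi : x = i <;> by_cases hj : x = j <;>
    simp [Plus.flipPerm, Equiv.swap_apply_def, hi, hj, h, Ne.symm h] at * <;> grind

theorem dEl_sq (hn : 4 ≤ n) : dEl (F := F) hn * dEl hn = 1 := by
  rw [dEl, (flip_commute _ _).mul_mul_mul_comm, Plus.flip_sq, Plus.flip_sq, one_mul]

theorem dEl_inv (hn : 4 ≤ n) : (dEl (F := F) hn)⁻¹ = dEl hn := inv_eq_of_mul_eq_one_right (dEl_sq hn)

theorem mat_dEl_conj (hn : 4 ≤ n) (g : ↥(Plus.O n F)) :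
    Plus.mat (dEl hn * g * dEl hn) =
      ((Plus.mat g).submatrix (Plus.flipPerm (ix hn 2)) (Plus.flipPerm (ix hn 2))).submatrix
        (Plus.flipPerm (ix hn 1)) (Plus.flipPerm (ix hn 1)) := by
  rw [← Plus.mat_flip_conj, ← Plus.mat_flip_conj, Plus.flip_inv, Plus.flip_inv]
  congr 1
  have hc := (flip_commute (F := F) (ix hn 1) (ix hn 2)).eq
  calc dEl hn * g * dEl hn = Plus.flipEl (ix hn 1) * Plus.flipEl (ix hn 2) * g *
      (Plus.flipEl (ix hn 2) * Plus.flipEl (ix hn 1)) := by rw [dEl]; conv_lhs => arg 2; rw [hc]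
    _ = _ := by simp only [mul_assoc]

theorem dEl_conj_el (hn : 4 ≤ n) {g : ↥(Plus.O n F)} {a b : Fin n ⊕ Fin n} {t : F}
    (hg : Plus.mat g = Plus.el a b t) : Plus.mat (dEl hn * g * dEl hn) =
      Plus.el (Plus.flipPerm (ix hn 1) (Plus.flipPerm (ix hn 2) a))
        (Plus.flipPerm (ix hn 1) (Plus.flipPerm (ix hn 2) b)) t := by
  rw [mat_dEl_conj, hg, Plus.el_submatrix _ (Plus.flipPerm_swap _), Plus.el_submatrix _ (Plus.flipPerm_swap _),
    Plus.flipPerm_symm, Plus.flipPerm_symm]

theorem dEl_mem_commutator (hn : 4 ≤ n) : dEl (F := F) hn ∈ commutator ↥(Plus.O n F) := by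
  set W := Plus.levG n (Plus.permGL (F := F) (Equiv.swap (ix hn 1) (ix hn 2)))
  have hWi : W⁻¹ = W := by
    show (Plus.levG n _)⁻¹ = _
    rw [← map_inv]
    congr 1
  have e : Plus.flipEl (ix hn 1) = W * Plus.flipEl (ix hn 2) * W := by
    refine Plus.mat_injective ?_
    rw [mul_assoc W, Plus.mat_mul, Plus.mat_mul, Plus.mat_permGL, Plus.mat_flip, Plus.mat_flip, Plus.perm_mul, Plus.perm_mul,
      Matrix.submatrix_submatrix, Matrix.submatrix_submatrix]
    congr 1
    funext x
    have h12 := ix_ne hn (show (1 : Fin 4) ≠ 2 by decide)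
    rcases x with x | x <;> by_cases hi : x = ix hn 1 <;> by_cases hj : x = ix hn 2 <;>
      simp [Plus.flipPerm, Equiv.swap_apply_def, hi, hj, h12, h12.symm] at * <;> grind
  have : dEl (F := F) hn = ⁅W, Plus.flipEl (ix hn 2)⁆ := by
    rw [commutatorElement_def, hWi, Plus.flip_inv, dEl, e]
  rw [this]
  exact Subgroup.commutator_mem_commutator (Subgroup.mem_top _) (Subgroup.mem_top _)

theorem lev_mem_commutator (hn : 3 ≤ n) [Finite F] (A : SpecialLinearGroup (Fin n) F) :
    Plus.lev n A ∈ commutator ↥(Plus.O n F) := by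
  have hperf := CfsgLib.Classical.sl_perfect (F := F) (n := Fin n) (by simp; omega)
  have h := Subgroup.mem_map_of_mem (Plus.lev n) (show A ∈ commutator (SpecialLinearGroup (Fin n) F) by
    rw [hperf]; exact Subgroup.mem_top A)
  rw [commutator_def, Subgroup.map_commutator] at h
  exact Subgroup.commutator_mono le_top le_top h

end CfsgLib.OPlusPres
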