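import Cfsg.Agent.Lib.KnownB.OPlusPres.ORel
import Cfsg.Agent.Lib.KnownB.OPlusPres.Target
import Cfsg.Agent.Lib.KnownB.OPlusPres.Spread

/-!
# The relations of the double exchange hold among the isometries
-/

set_option autoImplicit false
set_option linter.unusedSectionVars false

open Matrix CfsgLib.Perm.Quad.SL2 CfsgLib.SL2Pres CfsgLib.SLPres CfsgLib.Classical CfsgLib.SpPres
open CfsgLib.KnownA.StSL CfsgLib.Chevalley.SingleBond

namespace CfsgLib.OPlusPres

variable {F : Type*} [Field F] {n : ℕ} {hn : 4 ≤ n}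

theorem commute_of_up_low {G : Type*} [Group G] {f g : SL F →* G}
    (huu : ∀ t s, Commute (f (up t)) (g (up s))) (hul : ∀ t s, Commute (f (up t)) (g (low s)))
    (hlu : ∀ t s, Commute (f (low t)) (g (up s))) (hll : ∀ t s, Commute (f (low t)) (g (low s))) (x y : SL F) :
    Commute (f x) (g y) := by
  have key : ∀ a, (∀ s, Commute (f a) (g (up s))) → (∀ s, Commute (f a) (g (low s))) → ∀ y, Commute (f a) (g y) :=
    fun a h1 h2 y => (Subgroup.mem_centralizer_singleton_iff.1 (Subgroup.mem_comap.1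
      ((eq_top_of_up_low (H := (Subgroup.centralizer {f a}).comap g)
        (fun s => Subgroup.mem_comap.2 (Subgroup.mem_centralizer_singleton_iff.2 (h1 s).eq.symm))
        (fun s => Subgroup.mem_comap.2 (Subgroup.mem_centralizer_singleton_iff.2 (h2 s).eq.symm))).ge
          (Subgroup.mem_top y)))).symm
  exact Subgroup.mem_centralizer_singleton_iff.1 (Subgroup.mem_comap.1
    ((eq_top_of_up_low (H := (Subgroup.centralizer {g y}).comap f)
      (fun t => Subgroup.mem_comap.2 (Subgroup.mem_centralizer_singleton_iff.2 (key _ (huu t) (hul t) y).eq))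
      (fun t => Subgroup.mem_comap.2 (Subgroup.mem_centralizer_singleton_iff.2 (key _ (hlu t) (hll t) y).eq))).ge
        (Subgroup.mem_top x)))

theorem dEl_out {a b : Fin n} (h : a ≠ b) (ha : Out hn a) (hb : Out hn b) (t : F) :
    Commute (dEl hn) (Plus.lev n (SpecialLinearGroup.transvection h t)) := by
  refine (mul_inv_eq_iff_eq_mul.1 ?_)
  rw [dEl_inv]
  refine Plus.mat_injective ?_
  rw [dEl_conj_el hn (Plus.mat_lev_tv h t), Plus.mat_lev_tv]
  simp [Plus.flipPerm, Equiv.swap_apply_def, ha.1, ha.2, hb.1, hb.2]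

theorem dEl_flip (z : SL F) :
    dEl hn * Plus.lev n (emb2 (ix hn 1) (ix hn 2) z) * dEl hn =
      Plus.lev n (emb2 (ix hn 1) (ix hn 2) (cj z)) := by
  have h12 := ix_ne hn (show (1 : Fin 4) ≠ 2 by decide)
  have : (MulAut.conj (dEl (F := F) hn)).toMonoidHom.comp ((Plus.lev n).comp (emb2 (ix hn 1) (ix hn 2))) =
      ((Plus.lev n).comp (emb2 (ix hn 1) (ix hn 2))).comp cj := by
    refine sl2_hom_ext (fun t => ?_) fun t => ?_
    · show dEl hn * Plus.lev n (emb2 _ _ (up t)) * (dEl hn)⁻¹ = Plus.lev n (emb2 _ _ (cj (up t)))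
      rw [dEl_inv, cj_up, emb2_up h12, emb2_low h12]
      refine Plus.mat_injective ?_
      rw [dEl_conj_el hn (Plus.mat_lev_tv h12 t), Plus.mat_lev_tv, Plus.el_swap]
      simp [Plus.flipPerm, Equiv.swap_apply_def, h12, h12.symm]
    · show dEl hn * Plus.lev n (emb2 _ _ (low t)) * (dEl hn)⁻¹ = Plus.lev n (emb2 _ _ (cj (low t)))
      rw [dEl_inv, cj_low, emb2_low h12, emb2_up h12]
      refine Plus.mat_injective ?_
      rw [dEl_conj_el hn (Plus.mat_lev_tv h12.symm t), Plus.mat_lev_tv, Plus.el_swap]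
      simp [Plus.flipPerm, Equiv.swap_apply_def, h12, h12.symm]
  have e := DFunLike.congr_fun this z
  simp only [MonoidHom.comp_apply, MulEquiv.coe_toMonoidHom, MulAut.conj_apply, dEl_inv] at e
  exact e

theorem mat_dEl_up (t : F) :
    Plus.mat (dEl hn * Plus.lev n (emb2 (ix hn 0) (ix hn 1) (up t)) * dEl hn) =
      upBlk (altM (ix hn 0) (ix hn 1) t) := by
  have h01 := ix_ne hn (show (0 : Fin 4) ≠ 1 by decide)
  have h02 := ix_ne hn (show (0 : Fin 4) ≠ 2 by decide)
  have h12 := ix_ne hn (show (1 : Fin 4) ≠ 2 by decide)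
  rw [emb2_up h01, dEl_conj_el hn (Plus.mat_lev_tv h01 t), ← el_up]
  simp [Plus.flipPerm, Equiv.swap_apply_def, h01, h02, h12]

theorem mat_dEl_low (t : F) :
    Plus.mat (dEl hn * Plus.lev n (emb2 (ix hn 0) (ix hn 1) (low t)) * dEl hn) =
      lowBlk (altM (ix hn 1) (ix hn 0) t) := by
  have h01 := ix_ne hn (show (0 : Fin 4) ≠ 1 by decide)
  have h02 := ix_ne hn (show (0 : Fin 4) ≠ 2 by decide)
  have h12 := ix_ne hn (show (1 : Fin 4) ≠ 2 by decide)
  rw [emb2_low h01, dEl_conj_el hn (Plus.mat_lev_tv h01.symm t), ← el_low]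
  simp [Plus.flipPerm, Equiv.swap_apply_def, h01, h02, h12]

theorem altM_swap (i j : Fin n) (t : F) : altM j i t = altM i j (-t) := by
  ext a b
  simp only [altM_apply]
  split_ifs <;> ring

theorem congr'_altM_self {i j : Fin n} (h : i ≠ j) (s t : F) :
    congr' (Matrix.transvection i j s) (altM i j t) = altM i j t := by
  rw [altM, congr'_sub, congr'_single, congr'_single]
  simp [h, h.symm, mul_comm]

theorem dEl_A_commute {k l : Fin n} (h : k ≠ l)
    (hkl : ∀ s t : F, congr' (Matrix.transvection k l s) (altM (ix hn 0) (ix hn 1) t) = altM (ix hn 0) (ix hn 1) t)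
    (hlk : ∀ s t : F, congr' (Matrix.transvection l k s) (altM (ix hn 0) (ix hn 1) t) = altM (ix hn 0) (ix hn 1) t)
    (z z' : SL F) :
    Commute (dEl hn * Plus.lev n (emb2 (ix hn 0) (ix hn 1) z) * dEl hn) (Plus.lev n (emb2 k l z')) := by
  have hu : ∀ (A : SpecialLinearGroup (Fin n) F) t, congr' A.1 (altM (ix hn 0) (ix hn 1) t) =
      altM (ix hn 0) (ix hn 1) t →
      Commute (dEl hn * Plus.lev n (emb2 (ix hn 0) (ix hn 1) (up t)) * dEl hn) (Plus.lev n A) := fun A t e => by
    refine (mul_inv_eq_iff_eq_mul.1 (Plus.mat_injective ?_) : Commute _ _).symm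
    rw [lev_conj_upBlk A (mat_dEl_up t), e, mat_dEl_up]
  have hl : ∀ (A : SpecialLinearGroup (Fin n) F) t, congr' (invT A).1 (altM (ix hn 1) (ix hn 0) t) =
      altM (ix hn 1) (ix hn 0) t →
      Commute (dEl hn * Plus.lev n (emb2 (ix hn 0) (ix hn 1) (low t)) * dEl hn) (Plus.lev n A) := fun A t e => by
    refine (mul_inv_eq_iff_eq_mul.1 (Plus.mat_injective ?_) : Commute _ _).symm
    rw [lev_conj_lowBlk A (mat_dEl_low t), e, mat_dEl_low]
  have := commute_of_up_low
    (f := (MulAut.conj (dEl (F := F) hn)).toMonoidHom.comp ((Plus.lev n).comp (emb2 (ix hn 0) (ix hn 1))))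
    (g := (Plus.lev n).comp (emb2 k l)) (fun t s => ?_) (fun t s => ?_) (fun t s => ?_) (fun t s => ?_) z z'
  · simpa [dEl_inv] using this
  all_goals simp only [MonoidHom.comp_apply, MulEquiv.coe_toMonoidHom, MulAut.conj_apply, dEl_inv]
  · refine hu _ t ?_
    rw [emb2_up h]; exact hkl s t
  · refine hu _ t ?_
    rw [emb2_low h]; exact hlk s t
  · refine hl _ t ?_
    rw [emb2_up h, invT_transvection, altM_swap]; exact hlk _ _
  · refine hl _ t ?_
    rw [emb2_low h, invT_transvection, altM_swap]; exact hkl _ _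

theorem dEl_good (z : SL F) : Good hn (Plus.lev n) (dEl (F := F) hn) z := by
  have h01 := ix_ne hn (show (0 : Fin 4) ≠ 1 by decide)
  have h23 := ix_ne hn (show (2 : Fin 4) ≠ 3 by decide)
  refine fun z' => ⟨dEl_A_commute h01 (congr'_altM_self h01) (fun s t => ?_) z z',
    dEl_A_commute h23 (fun s t => ?_) (fun s t => ?_) z z'⟩
  · rw [altM_swap (ix hn 1)]
    exact congr'_altM_self h01.symm s _
  · have := congr'_altM (col_transvection (ix_ne hn (show (0 : Fin 4) ≠ 3 by decide)) h23 s)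
      (col_transvection (ix_ne hn (show (1 : Fin 4) ≠ 3 by decide)) h23 s) t
    rw [one_mul, one_mul] at this
    exact this
  · have := congr'_altM (col_transvection (ix_ne hn (show (0 : Fin 4) ≠ 2 by decide)) h23.symm s)
      (col_transvection (ix_ne hn (show (1 : Fin 4) ≠ 2 by decide)) h23.symm s) t
    rw [one_mul, one_mul] at this
    exact this

theorem altM_one_mul {i j : Fin n} (h : i ≠ j) :
    altM i j (1 : F) * altM i j 1 = -(Matrix.single i i 1 + Matrix.single j j 1) := by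
  simp [altM, Matrix.sub_mul, Matrix.mul_sub, h, h.symm]
  abel

theorem unip_triple {i j : Fin n} (h : i ≠ j) :
    upBlk (altM i j (1 : F)) * lowBlk (altM i j 1) * upBlk (altM i j 1) =
      fromBlocks (1 - (Matrix.single i i 1 + Matrix.single j j 1)) (altM i j 1) (altM i j 1)
        (1 - (Matrix.single i i 1 + Matrix.single j j 1)) := by
  have e3 : (Matrix.single i i (1 : F) + Matrix.single j j 1) * altM i j 1 = altM i j 1 := by
    simp [altM, Matrix.add_mul, Matrix.mul_sub, h, h.symm]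
  simp only [upBlk, lowBlk, fromBlocks_multiply, Matrix.mul_one, Matrix.one_mul, Matrix.mul_zero, Matrix.zero_mul,
    add_zero, zero_add, altM_one_mul h, Matrix.add_mul, Matrix.neg_mul, e3]
  congr 1 <;> abel

theorem perm_blocks {i j : Fin n} (h12 : i ≠ j) {J : Matrix (Fin n) (Fin n) F}
    (hc : ∀ a, Col J a (Equiv.swap i j a) (wSgn i a)) :
    (fromBlocks J 0 0 J).submatrix (id ∘ id) (⇑(Plus.flipPerm i) ∘ ⇑(Plus.flipPerm j)) =
      fromBlocks (1 - (Matrix.single i i 1 + Matrix.single j j 1)) (altM i j 1) (altM i j 1)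
        (1 - (Matrix.single i i 1 + Matrix.single j j 1)) := by
  ext a b
  simp only [Matrix.submatrix_apply, Function.comp_apply, id]
  rcases b with b | b
  all_goals rcases (show b = i ∨ b = j ∨ (b ≠ i ∧ b ≠ j) by tauto) with rfl | rfl | ⟨hb1, hb2⟩
  all_goals rcases a with a | a
  all_goals simp [Plus.flipPerm, Equiv.swap_apply_def, altM_apply, Matrix.single_apply, Matrix.one_apply, hc _ _,
    wSgn, h12.symm, *]
  all_goals grind

theorem dEl_par :
    Plus.lev n (emb2 (ix hn 1) (ix hn 2) jSL) * dEl (F := F) hn = Plus.lev n (shiftW hn) *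
      (dEl hn * Plus.lev n (emb2 (ix hn 0) (ix hn 1) jSL) * dEl hn) * (Plus.lev n (shiftW hn))⁻¹ := by
  have h12 := ix_ne hn (show (1 : Fin 4) ≠ 2 by decide)
  obtain ⟨hσ0, hσ1⟩ := (exists_perm_two hn h12).choose_spec
  set σ := (exists_perm_two hn h12).choose
  have c0 : Col (shiftW (F := F) hn).1 (ix hn 0) (ix hn 1) 1 := by
    have := col_monSL (F := F) hn σ (ix hn 0)
    rwa [hσ0, monSgn_ix hn σ (by decide)] at this
  have c1 : Col (shiftW (F := F) hn).1 (ix hn 1) (ix hn 2) 1 := by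
    have := col_monSL (F := F) hn σ (ix hn 1)
    rwa [hσ1, monSgn_ix hn σ (by decide)] at this
  set W := Plus.lev n (shiftW (F := F) hn) with hW
  set U := dEl hn * Plus.lev n (emb2 (ix hn 0) (ix hn 1) (up (1 : F))) * dEl hn with hU
  set L := dEl hn * Plus.lev n (emb2 (ix hn 0) (ix hn 1) (low (-1 : F))) * dEl hn with hL
  have eR : W * (dEl hn * Plus.lev n (emb2 (ix hn 0) (ix hn 1) jSL) * dEl hn) * W⁻¹ =
      (W * U * W⁻¹) * (W * L * W⁻¹) * (W * U * W⁻¹) := by
    have ej : (jSL : SL F) = up 1 * low (-1) * up 1 := by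
      apply ext2 <;> simp [mul_apply2, jSL_coe, up_val, low_val]
    rw [ej, map_mul, map_mul, map_mul, map_mul, hU, hL]
    simp only [mul_assoc, inv_mul_cancel_left]
    congr 2
    conv_rhs => rw [← mul_assoc (dEl hn) (dEl hn), dEl_sq, one_mul, ← mul_assoc (dEl hn) (dEl hn), dEl_sq, one_mul]
  have eU : Plus.mat (W * U * W⁻¹) = upBlk (altM (ix hn 1) (ix hn 2) 1) := by
    rw [hW, lev_conj_upBlk _ (mat_dEl_up 1), congr'_altM c0 c1]; norm_num
  have eL : Plus.mat (W * L * W⁻¹) = lowBlk (altM (ix hn 1) (ix hn 2) 1) := by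
    rw [hW, lev_conj_lowBlk _ (mat_dEl_low (-1)), invT_shiftW, congr'_altM c1 c0, altM_swap]; norm_num
  refine Plus.mat_injective ?_
  rw [eR, Plus.mat_mul (W * U * W⁻¹ * (W * L * W⁻¹)), Plus.mat_mul (W * U * W⁻¹), eU, eL, unip_triple h12,
    dEl, ← mul_assoc, Plus.mat_mul, Plus.mat_mul, Plus.mat_lev, Plus.mat_flip, Plus.mat_flip, ← invT_val,
    invT_emb2 h12, cj_jSL, Plus.mul_perm, Plus.mul_perm, Matrix.submatrix_submatrix, Plus.flipPerm_symm,
    Plus.flipPerm_symm]
  have hc := col_jSL (F := F) h12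
  exact perm_blocks h12 (col_jSL (F := F) h12)

end CfsgLib.OPlusPres
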