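import Cfsg.Agent.Lib.KnownB.OPlusPres.Simple
import Cfsg.Agent.Lib.KnownB.OPlusPres.Target
import Cfsg.Agent.Lib.KnownB.SpPres.Recog

/-!
# A group on a Levi subgroup and a double exchange mapping to the plus type isometries
-/

set_option autoImplicit false
set_option linter.unusedSectionVars false

open Matrix CfsgLib.Perm.Quad.SL2 CfsgLib.SL2Pres CfsgLib.SLPres CfsgLib.Classical CfsgLib.SpPres CfsgLib.KnownA.StSL
open CfsgLib.Chevalley.SingleBond
open scoped commutatorElement

namespace CfsgLib.OPlusPres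

variable {F : Type*} [Field F] {n : ℕ} {P : Type*} [Group P]
variable {hn : 4 ≤ n} {φ : SpecialLinearGroup (Fin n) F →* P} {d : P}
  (π : P →* ↥(Plus.O n F)) (hφ : ∀ A, π (φ A) = Plus.lev n A) (hd : π d = dEl hn) (R : ORel hn φ d)

/-- Elements of the second radical. -/
def radP (hn : 4 ≤ n) (φ : SpecialLinearGroup (Fin n) F →* P) (d : P) : Subgroup P :=
  Subgroup.closure {z | ∃ i j, i ≠ j ∧ ∃ t, z = pRad hn φ d i j t}

/-- Lower unitriangular elements. -/
def lTri (F : Type*) [Field F] (n : ℕ) : Subgroup (SpecialLinearGroup (Fin n) F) := (uTri F n).comap invT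

theorem lTri_entries {A : SpecialLinearGroup (Fin n) F} (hA : A ∈ lTri F n) :
    (∀ x y, x < y → A.1 x y = 0) ∧ (∀ x, A.1 x x = 1) ∧ ∀ x y, x < y → A⁻¹.1 x y = 0 := by
  obtain ⟨⟨h1, -⟩, h2, h3⟩ := (Subgroup.mem_comap.1 hA : invT A ∈ uTri F n)
  rw [← map_inv, invT_val, inv_inv] at h2 h3
  exact ⟨fun x y h => h2 y x h, h3, fun x y h => h1 y x h⟩

include π hφ

theorem pi_T {i j : Fin n} (h : i ≠ j) (t : F) :
    Plus.mat (π (yTr φ i j t)) = Plus.el (Sum.inl i) (Sum.inl j) t := by
  rw [yTr_eq φ h, hφ, Plus.mat_lev_tv]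

include hd

theorem pi_base (t : F) :
    Plus.mat (π (pBase hn φ d t)) = Plus.el (Sum.inl (ix hn 0)) (Sum.inr (ix hn 1)) t := by
  have h01 := ix_ne hn (show (0 : Fin 4) ≠ 1 by decide)
  have h02 := ix_ne hn (show (0 : Fin 4) ≠ 2 by decide)
  have h12 := ix_ne hn (show (1 : Fin 4) ≠ 2 by decide)
  rw [pBase, map_mul, map_mul, hd, dEl_conj_el hn (pi_T π hφ h01 t)]
  simp [Plus.flipPerm, Equiv.swap_apply_def, h01, h02, h12]

theorem pi_pRad {i j : Fin n} (h : i ≠ j) (t : F) :
    Plus.mat (π (pRad hn φ d i j t)) = upBlk (altM i j t) := by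
  rw [pRad, dif_pos h]
  obtain ⟨hσ0, hσ1⟩ := (exists_perm_two hn h).choose_spec
  set σ := (exists_perm_two hn h).choose
  rw [map_mul, map_mul, map_inv, hφ, lev_conj_upBlk _ ((pi_base π hφ hd t).trans (el_up t)),
    congr'_altM (col_monSL hn σ _) (col_monSL hn σ _), monSgn_ix hn σ (by decide), monSgn_ix hn σ (by decide),
    hσ0, hσ1, one_mul, one_mul]

theorem pi_mRad {i j : Fin n} (h : i ≠ j) (t : F) :
    Plus.mat (π (pRad hn (φ.comp invT) d i j t)) = lowBlk (altM i j t) := by
  have h01 := ix_ne hn (show (0 : Fin 4) ≠ 1 by decide)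
  have h02 := ix_ne hn (show (0 : Fin 4) ≠ 2 by decide)
  have h12 := ix_ne hn (show (1 : Fin 4) ≠ 2 by decide)
  rw [pRad, dif_pos h]
  obtain ⟨hσ0, hσ1⟩ := (exists_perm_two hn h).choose_spec
  set σ := (exists_perm_two hn h).choose
  have hb : Plus.mat (π (pBase hn (φ.comp invT) d t)) = lowBlk (altM (ix hn 0) (ix hn 1) t) := by
    rw [pBase, yTr_invT, map_mul, map_mul, hd, dEl_conj_el hn (pi_T π hφ h01.symm (-t)), Plus.el_swap, neg_neg]
    rw [← el_low]
    simp [Plus.flipPerm, Equiv.swap_apply_def, h01, h01.symm, h02, h12]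
  rw [map_mul, map_mul, map_inv, MonoidHom.comp_apply, hφ, lev_conj_lowBlk _ hb, invT_invT,
    congr'_altM (col_monSL hn σ _) (col_monSL hn σ _), monSgn_ix hn σ (by decide), monSgn_ix hn σ (by decide),
    hσ0, hσ1, one_mul, one_mul]

theorem pi_ry {a b : Sgn n} (h : a.1 ≠ b.1) (t : F) :
    Plus.mat (π (ry hn φ d a b t)) = Plus.el (sgnIdx a) (sgnIdx (flipB b)) t := by
  obtain ⟨i, x⟩ := a
  obtain ⟨j, y⟩ := b
  cases x <;> cases y <;> simp only [ry, sgnIdx, flipB, Bool.not_true, Bool.not_false]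
  · rw [pi_mRad π hφ hd h, el_low]
  · rw [pi_T π hφ (Ne.symm h), Plus.el_swap, neg_neg]
    rfl
  · exact pi_T π hφ h t
  · rw [pi_pRad π hφ hd h, el_up]

include R

theorem ORel.inj_L (k : Fin n) : Function.Injective fun z => π (R.oL k z) := by
  have hlev : Function.Injective (Plus.lev (F := F) n) := fun A B e => by
    have := congrArg (fun g => (Plus.mat g).toBlocks₁₁) e
    simp only [Plus.mat_lev, Matrix.toBlocks_fromBlocks₁₁] at this
    exact Subtype.ext this
  intro a b e
  unfold ORel.oL at e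
  split_ifs at e with h
  · simp only [MonoidHom.comp_apply, hφ] at e
    exact emb2_injective (succ_ne h) (hlev e)
  · simp only [R.topA_apply, map_mul, hφ, hd] at e
    have e' := mul_left_cancel (mul_right_cancel e)
    have := emb2_injective (ix_ne hn (show (0 : Fin 4) ≠ 1 by decide)) (hlev e')
    apply ext2
    · simpa [negHom, scHom_val] using congrFun (congrFun (congrArg Subtype.val this) 0) 0
    · simpa [negHom, scHom_val] using congrFun (congrFun (congrArg Subtype.val this) 0) 1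
    · simpa [negHom, scHom_val] using congrFun (congrFun (congrArg Subtype.val this) 1) 0
    · simpa [negHom, scHom_val] using congrFun (congrFun (congrArg Subtype.val this) 1) 1

theorem ORel.conj_radP (A : SpecialLinearGroup (Fin n) F) :
    ∀ q ∈ radP hn φ d, φ A * q * (φ A)⁻¹ ∈ radP hn φ d := by
  let H : Subgroup (SpecialLinearGroup (Fin n) F) :=
    { carrier := {A | (∀ q ∈ radP hn φ d, φ A * q * (φ A)⁻¹ ∈ radP hn φ d) ∧
        ∀ q ∈ radP hn φ d, (φ A)⁻¹ * q * φ A ∈ radP hn φ d}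
      one_mem' := ⟨fun q hq => by simpa using hq, fun q hq => by simpa using hq⟩
      mul_mem' := fun {A B} hA hB => ⟨fun q hq => by
          have := hA.1 _ (hB.1 q hq); rw [map_mul]; simpa [mul_assoc] using this,
        fun q hq => by have := hB.2 _ (hA.2 q hq); rw [map_mul]; simpa [mul_assoc] using this⟩
      inv_mem' := fun {A} hA => ⟨fun q hq => by rw [map_inv, inv_inv]; exact hA.2 q hq,
        fun q hq => by rw [map_inv, inv_inv]; exact hA.1 q hq⟩ }
  have hgen : ∀ a b (h : a ≠ b) (t : F), ∀ q ∈ radP hn φ d,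
      yTr φ a b t * q * (yTr φ a b t)⁻¹ ∈ radP hn φ d := by
    intro a b hab t
    refine conj_closure_le ?_
    rintro _ ⟨i, j, hij, v, rfl⟩
    have mem : ∀ i j, i ≠ j → ∀ v, pRad hn φ d i j v ∈ radP hn φ d := fun i j h v =>
      Subgroup.subset_closure ⟨i, j, h, v, rfl⟩
    wlog hbj : b ≠ j generalizing i j v
    · rw [R.p_anti hij.symm]
      exact this j i hij.symm _ (fun e => hij (e.symm.trans (not_not.1 hbj)))
    by_cases hbi : b = i
    · subst hbi
      by_cases haj : a = j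
      · subst haj
        rw [R.p_anti hij.symm, mul_inv_eq_iff_eq_mul.2 (R.p_T_self hab t (-v)).eq]
        exact mem _ _ hij.symm _
      rw [R.conj_formula hab hij haj t v]
      exact mul_mem (mem _ _ haj _) (mem _ _ hij _)
    rw [mul_inv_eq_iff_eq_mul.2 (R.p_T_away hij hab (Ne.symm hbi) (Ne.symm hbj) t v).eq]
    exact mem _ _ hij _
  have : H = ⊤ := CfsgLib.Classical.sl_subgroup_eq_top _ fun i j h t =>
    ⟨fun q hq => by rw [← yTr_eq φ h]; exact hgen i j h t q hq, fun q hq => by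
      have e : (φ (SpecialLinearGroup.transvection h t))⁻¹ = yTr φ i j (-t) := by
        rw [← yTr_eq φ h]
        exact inv_eq_of_mul_eq_one_right (by
          rw [(yTr_preSt φ).add i j t (-t) h, add_neg_cancel, (yTr_preSt φ).y_zero h])
      rw [show φ (SpecialLinearGroup.transvection h t) = (yTr φ i j (-t))⁻¹ by rw [← e, inv_inv]]
      simpa using hgen i j h (-t) q hq⟩
  exact (this.ge (Subgroup.mem_top A)).1

theorem ORel.U_form {u : P} (hu : u ∈ Subgroup.closure {z | ∃ r t, oPos r ∧ z = ox hn φ d r t}) :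
    ∃ q ∈ radP hn φ d, ∃ A ∈ lTri F n, u = q * φ A := by
  induction hu using Subgroup.closure_induction with
  | mem z hz =>
    obtain ⟨r, t, hr, rfl⟩ := hz
    obtain ⟨⟨i, x⟩, ⟨j, y⟩, h, rfl⟩ := r.exists_mk
    obtain ⟨s, -, es⟩ := R.ox_mk h t
    rw [es]
    rw [oPos_mk] at hr
    have hTl : ∀ p q : Fin n, q < p → ∀ v : F, ∀ hpq : p ≠ q,
        SpecialLinearGroup.transvection hpq v ∈ lTri F n := fun p q hlt v hpq => by
      show invT _ ∈ uTri F n
      rw [invT_transvection]
      exact transvection_mem_uTri hlt _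
    have hi := i.2
    have hj := j.2
    cases x <;> cases y <;> simp [ohgt] at hr <;> simp only [ry]
    · omega
    · exact ⟨1, one_mem _, _, hTl j i (by omega) (-s) (Ne.symm h), by rw [one_mul, yTr_eq φ (Ne.symm h)]⟩
    · exact ⟨1, one_mem _, _, hTl i j (by omega) s h, by rw [one_mul, yTr_eq φ (show i ≠ j from h)]⟩
    · exact ⟨_, Subgroup.subset_closure ⟨i, j, h, s, rfl⟩, 1, one_mem _, by rw [map_one, mul_one]⟩
  | one => exact ⟨1, one_mem _, 1, one_mem _, by rw [map_one, mul_one]⟩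
  | mul a b _ _ ha hb =>
    obtain ⟨q, hq, A, hA, rfl⟩ := ha
    obtain ⟨q', hq', B, hB, rfl⟩ := hb
    exact ⟨q * (φ A * q' * (φ A)⁻¹), mul_mem hq (R.conj_radP π hφ hd A q' hq'), A * B, mul_mem hA hB, by
      rw [map_mul]; group⟩
  | inv a _ ha =>
    obtain ⟨q, hq, A, hA, rfl⟩ := ha
    exact ⟨φ A⁻¹ * q⁻¹ * (φ A⁻¹)⁻¹, R.conj_radP π hφ hd A⁻¹ _ (inv_mem hq), A⁻¹, inv_mem hA, by
      rw [map_inv]; group⟩

open scoped IsMulCommutative in
theorem ORel.radP_form {q : P} (hq : q ∈ radP hn φ d) :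
    ∃ S, Plus.mat (π q) = upBlk S ∧ (S = 0 → q = 1) := by
  classical
  let I := {p : Fin n × Fin n // p.1 < p.2}
  let hom : I → (Multiplicative F →* P) := fun p =>
    MonoidHom.mk' (fun t => pRad hn φ d p.1.1 p.1.2 t.toAdd) fun a b => R.p_add p.2.ne _ _
  have hcomm : Pairwise fun a b : I => ∀ s t, Commute (hom a s) (hom b t) :=
    fun a b _ s t => R.p_comm a.2.ne b.2.ne _ _
  let Ψ := MonoidHom.noncommPiCoprod hom hcomm
  let Smat : (I → Multiplicative F) → Matrix (Fin n) (Fin n) F := fun v =>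
    Matrix.of fun i j => if h : i < j then (v ⟨(i, j), h⟩).toAdd
      else if h : j < i then -(v ⟨(j, i), h⟩).toAdd else 0
  have hS : ∀ v, Plus.mat (π (Ψ v)) = upBlk (Smat v) := by
    intro v
    rw [← Finset.univ_prod_mulSingle v]
    refine Finset.prod_induction _ (fun v => Plus.mat (π (Ψ v)) = upBlk (Smat v)) (fun a b ha hb => ?_) ?_
      fun p _ => ?_
    · rw [map_mul, map_mul, Plus.mat_mul, ha, hb, ← upBlk_add]
      congr 1
      ext i j
      simp only [Smat, Matrix.of_apply, Matrix.add_apply, Pi.mul_apply]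
      split_ifs <;> simp [add_comm]
    · rw [map_one, map_one, Plus.mat_one]
      have : Smat (1 : I → Multiplicative F) = 0 := by ext i j; simp [Smat]
      rw [this, upBlk, fromBlocks_one]
    · rw [MonoidHom.noncommPiCoprod_mulSingle]
      show Plus.mat (π (pRad hn φ d p.1.1 p.1.2 (v p).toAdd)) = _
      rw [pi_pRad π hφ hd p.2.ne]
      congr 1
      obtain ⟨⟨a, b⟩, hab⟩ := p
      ext i j
      simp only [Smat, Matrix.of_apply, altM_apply]
      by_cases hij : i < j
      · rw [dif_pos hij, if_neg (fun e : b = i ∧ a = j => hij.not_gt (e.1 ▸ e.2 ▸ hab)), sub_zero]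
        by_cases e : a = i ∧ b = j
        · obtain ⟨rfl, rfl⟩ := e; simp
        · rw [if_neg e, Pi.mulSingle_eq_of_ne]
          · rfl
          · exact fun h => e ⟨(congrArg (fun z => z.1.1) h).symm, (congrArg (fun z => z.1.2) h).symm⟩
      · rw [dif_neg hij]
        by_cases hji : j < i
        · rw [dif_pos hji, if_neg (fun e : a = i ∧ b = j => hij (e.1 ▸ e.2 ▸ hab)), zero_sub]
          by_cases e : b = i ∧ a = j
          · obtain ⟨rfl, rfl⟩ := e; simp
          · rw [if_neg e, Pi.mulSingle_eq_of_ne]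
            · rfl
            · exact fun h => e ⟨(congrArg (fun z => z.1.2) h).symm, (congrArg (fun z => z.1.1) h).symm⟩
        · obtain rfl : i = j := le_antisymm (not_lt.1 hji) (not_lt.1 hij)
          rw [dif_neg hji, if_neg (fun e : a = i ∧ b = i => hab.ne (e.1.trans e.2.symm)),
            if_neg (fun e : b = i ∧ a = i => hab.ne (e.2.trans e.1.symm)), sub_zero]
  have hle : radP hn φ d ≤ Ψ.range := by
    refine (Subgroup.closure_le _).2 ?_
    rintro _ ⟨i, j, hij, t, rfl⟩
    have mem : ∀ i j (h : i < j) t, pRad hn φ d i j t ∈ Ψ.range := fun i j h t =>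
      ⟨Pi.mulSingle (⟨(i, j), h⟩ : I) (Multiplicative.ofAdd t), MonoidHom.noncommPiCoprod_mulSingle hom _ _⟩
    rcases hij.lt_or_gt with h | h
    · exact mem i j h t
    · rw [R.p_anti hij.symm]; exact mem j i h _
  obtain ⟨v, rfl⟩ := hle hq
  refine ⟨Smat v, hS v, fun h0 => ?_⟩
  have : v = 1 := funext fun p => by
    have h1 := congrFun (congrFun h0 p.1.1) p.1.2
    simp only [Smat, Matrix.of_apply, dif_pos p.2, Matrix.zero_apply] at h1
    exact h1
  rw [this, map_one]

omit R in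
theorem mat_hPlus {c : F} (hc : c ≠ 0) :
    Plus.mat (π (hPlus hn φ d hc)) =
      fromBlocks (diagonal fun i => if i = ix hn 0 ∨ i = ix hn 1 then c else 1) 0 0
        (diagonal fun i => if i = ix hn 0 ∨ i = ix hn 1 then c⁻¹ else 1) := by
  have h01 := ix_ne hn (show (0 : Fin 4) ≠ 1 by decide)
  have h02 := ix_ne hn (show (0 : Fin 4) ≠ 2 by decide)
  have h12 := ix_ne hn (show (1 : Fin 4) ≠ 2 by decide)
  rw [hPlus, map_mul, map_mul, hd, hφ, mat_dEl_conj, Plus.mat_lev, ← map_inv, dSL_inv, emb2_dSL h01, emb2_dSL h01,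
    SpecialLinearGroup.diag2n_coe, SpecialLinearGroup.diag2n_coe, diagonal_transpose, fromBlocks_diagonal,
    submatrix_diagonal_equiv, submatrix_diagonal_equiv, fromBlocks_diagonal]
  congr 1
  funext x
  rcases x with i | i <;> by_cases h0 : i = ix hn 0 <;> by_cases h1 : i = ix hn 1 <;> by_cases h2 : i = ix hn 2 <;>
    simp_all [Plus.flipPerm, Equiv.swap_apply_def]

theorem ORel.tor_form {τ : P} (hτ : τ ∈ oTor hn φ d) : ∃ A ∈ diagGen F n, ∃ (c : F) (hc : c ≠ 0),
    τ = φ A * hPlus hn φ d hc := by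
  have hone : hPlus hn φ d (one_ne_zero (α := F)) = 1 := by
    rw [hPlus, show dSL (one_ne_zero (α := F)) = 1 by apply ext2 <;> simp [dSL_coe], map_one, map_one, mul_one, R.dd]
  have hmul : ∀ {a b : F} (ha : a ≠ 0) (hb : b ≠ 0),
      hPlus hn φ d ha * hPlus hn φ d hb = hPlus hn φ d (mul_ne_zero ha hb) := fun {a b} ha hb => by
    have : dSL ha * dSL hb = dSL (mul_ne_zero ha hb) := by
      apply ext2 <;> simp [dSL_coe, mul_apply2, mul_comm]
    simp only [hPlus, R.conj_d, ← map_mul, this]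
  let H : Subgroup P :=
    { carrier := {τ | ∃ A ∈ diagGen F n, ∃ (c : F) (hc : c ≠ 0), τ = φ A * hPlus hn φ d hc}
      one_mem' := ⟨1, one_mem _, 1, one_ne_zero, by rw [hone, map_one, mul_one]⟩
      mul_mem' := by
        rintro _ _ ⟨A, hA, a, ha, rfl⟩ ⟨B, hB, b, hb, rfl⟩
        refine ⟨A * B, mul_mem hA hB, _, mul_ne_zero ha hb, ?_⟩
        rw [map_mul, ← hmul ha hb, mul_assoc (φ A), ← mul_assoc (hPlus hn φ d ha), (R.hPlus_comm ha hB).eq]
        group
      inv_mem' := by
        rintro _ ⟨A, hA, a, ha, rfl⟩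
        refine ⟨A⁻¹, inv_mem hA, a⁻¹, inv_ne_zero ha, ?_⟩
        have e : hPlus hn φ d (inv_ne_zero ha) = (hPlus hn φ d ha)⁻¹ := eq_inv_of_mul_eq_one_right (by
          rw [hmul, ← hone]; simp only [mul_inv_cancel₀ ha])
        rw [e, map_inv, _root_.mul_inv_rev]
        exact ((R.hPlus_comm ha hA).inv_inv).eq }
  refine oTor_le (H := H) (fun k l h c hc => ?_) (fun c hc => ⟨1, one_mem _, c, hc, by rw [map_one, one_mul]⟩) hτ
  exact ⟨_, Subgroup.subset_closure ⟨k, l, h, c, hc, rfl⟩, 1, one_ne_zero, by rw [hone, mul_one]⟩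

theorem ORel.inj_B (u : P) (hu : u ∈ Subgroup.closure {z | ∃ r t, oPos r ∧ z = ox hn φ d r t}) (τ : P)
    (hτ : τ ∈ oTor hn φ d) (h : π (u * τ) = 1) : u = 1 ∧ τ = 1 := by
  have h01 := ix_ne hn (show (0 : Fin 4) ≠ 1 by decide)
  obtain ⟨q, hq, A, hA, rfl⟩ := R.U_form π hφ hd hu
  obtain ⟨Δ, hΔ, c, hc, rfl⟩ := R.tor_form π hφ hd hτ
  obtain ⟨S, hS, hS0⟩ := R.radP_form π hφ hd hq
  obtain ⟨f, hf, hf'⟩ : ∃ f : Fin n → F, Δ.1 = diagonal f ∧ Δ⁻¹.1 = diagonal (fun i => (f i)⁻¹) := by
    clear h hτ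
    induction hΔ using Subgroup.closure_induction with
    | mem g hg =>
      obtain ⟨k, l, hkl, e, he, rfl⟩ := hg
      refine ⟨fun i => if i = k then e else if i = l then e⁻¹ else 1, ?_, ?_⟩
      · rw [emb2_dSL hkl, SpecialLinearGroup.diag2n_coe]
      · rw [← map_inv, dSL_inv, emb2_dSL hkl, SpecialLinearGroup.diag2n_coe]
        congr 1; funext i
        by_cases h1 : i = k <;> by_cases h2 : i = l <;> simp [h1, h2, hkl, hkl.symm, inv_inv]
    | one => exact ⟨1, by simp, by simp⟩
    | mul a b _ _ ha hb =>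
      obtain ⟨f, hf, hf'⟩ := ha
      obtain ⟨g, hg, hg'⟩ := hb
      refine ⟨f * g, ?_, ?_⟩
      · show a.1 * b.1 = _; rw [hf, hg, diagonal_mul_diagonal]; rfl
      · rw [_root_.mul_inv_rev]; show b⁻¹.1 * a⁻¹.1 = _
        rw [hf', hg', diagonal_mul_diagonal]
        congr 1; funext i; simp [mul_comm]
    | inv a _ ha =>
      obtain ⟨f, hf, hf'⟩ := ha
      exact ⟨fun i => (f i)⁻¹, hf', by rw [inv_inv, hf]; simp⟩
  set D : Fin n → F := fun i => if i = ix hn 0 ∨ i = ix hn 1 then c else 1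
  have hD : ∀ i, D i ≠ 0 := fun i => by simp only [D]; split_ifs <;> simp [hc]
  set D' : Fin n → F := fun i => if i = ix hn 0 ∨ i = ix hn 1 then c⁻¹ else 1
  have h' : Plus.mat (π q) * Plus.mat (π (φ A)) * (Plus.mat (π (φ Δ)) * Plus.mat (π (hPlus hn φ d hc))) = 1 := by
    rw [← Plus.mat_mul, ← Plus.mat_mul, ← Plus.mat_mul, ← map_mul, ← map_mul, ← map_mul, h, Plus.mat_one]
  rw [hS, hφ, hφ, mat_hPlus π hφ hd hc, Plus.mat_lev, Plus.mat_lev, hf, hf', upBlk, diagonal_transpose,
    fromBlocks_multiply, fromBlocks_multiply, fromBlocks_multiply, ← fromBlocks_one, fromBlocks_inj] at h'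
  simp only [Matrix.mul_zero, Matrix.zero_mul, add_zero, zero_add, Matrix.one_mul, diagonal_mul_diagonal,
    Matrix.mul_assoc] at h'
  obtain ⟨e11, e12, -, e22⟩ := h'
  rw [e22, Matrix.mul_one] at e12
  have hq1 := hS0 e12
  subst hq1
  obtain ⟨l0, l1, -⟩ := lTri_entries hA
  have hfD : ∀ i, f i * D i = 1 := fun i => by
    have := congrFun (congrFun e11 i) i
    rwa [Matrix.mul_diagonal, l1, one_mul, Matrix.one_apply_eq] at this
  have hA1 : A = 1 := Subtype.ext (Matrix.ext fun i j => by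
    have := congrFun (congrFun e11 i) j
    rw [Matrix.mul_diagonal, hfD, mul_one] at this
    exact this)
  subst hA1
  have hdet : ∏ i, f i = 1 := by
    have := Δ.2
    rwa [hf, det_diagonal] at this
  have hcc : c * c = 1 := by
    have h1 : ∏ i, D i = 1 := by
      have := Finset.prod_congr rfl (fun i (_ : i ∈ (Finset.univ : Finset (Fin n))) => hfD i)
      rwa [Finset.prod_mul_distrib, hdet, one_mul, Finset.prod_const_one] at this
    rw [Finset.prod_eq_mul (ix hn 0) (ix hn 1) h01 (fun i _ hi => by simp [D, hi.1, hi.2]) (by simp) (by simp)] at h1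
    simpa [D] using h1
  refine ⟨by rw [map_one, mul_one], ?_⟩
  have hfi : ∀ i, f i = (D i)⁻¹ := fun i => eq_inv_of_mul_eq_one_left (hfD i)
  rcases mul_self_eq_one_iff.1 hcc with rfl | rfl
  · have : Δ = 1 := Subtype.ext (by
      rw [hf, show ((1 : SpecialLinearGroup (Fin n) F)).1 = diagonal 1 from diagonal_one.symm]; congr 1; funext i
      rw [hfi]; simp [D])
    subst this
    rw [map_one, one_mul, hPlus, show dSL hc = 1 by apply ext2 <;> simp [dSL_coe], map_one, map_one, mul_one, R.dd]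
  · have : Δ = emb2 (ix hn 0) (ix hn 1) (dSL hc) := Subtype.ext (by
      rw [hf, emb2_dSL h01, SpecialLinearGroup.diag2n_coe]; congr 1; funext i
      rw [hfi]
      by_cases h0 : i = ix hn 0 <;> by_cases h1 : i = ix hn 1 <;> simp [D, h0, h1, h01, h01.symm, inv_neg])
    subst this
    rw [hPlus, (R.zc hc).eq, mul_assoc (φ _), R.dd, mul_one, ← map_mul, ← map_mul,
      show dSL hc * dSL hc = 1 by apply ext2 <;> simp [dSL_coe, mul_apply2], map_one, map_one]

theorem ORel.toBN (hP : Subgroup.closure ((φ.range : Set P) ∪ {d}) = ⊤) :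
    BN π oNeg oPos (oSimple hn) (oRefl hn) (ox hn φ d) R.oL (oTor hn φ d) where
  neg_neg := oNeg_oNeg
  pos_neg := oPos_neg
  pos_simple := oSimple_pos hn
  s_simple := oRefl_simple hn
  s_pos := oRefl_pos hn
  s_neg := oRefl_neg hn
  s_s := oRefl_self hn
  add := R.ox_add
  L_up := R.L_up
  L_low := R.L_low
  n_conj := R.n_conj
  T_conj := R.T_conj
  T_n := R.T_n
  T_dg := R.T_dg
  simple_conj := R.simple_conj
  inj_L := R.inj_L π hφ hd
  inj_B := R.inj_B π hφ hd
  sep r r' hne t t' h := by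
    obtain ⟨a, b, hab, rfl⟩ := r.exists_mk
    obtain ⟨a', b', hab', rfl⟩ := r'.exists_mk
    obtain ⟨s, hs, es⟩ := R.ox_mk hab t
    obtain ⟨s', -, es'⟩ := R.ox_mk hab' t'
    rw [es, es'] at h
    have hm := congrFun (congrFun (congrArg Plus.mat h) (sgnIdx a)) (sgnIdx (flipB b))
    rw [pi_ry π hφ hd hab, pi_ry π hφ hd hab'] at hm
    have hne1 : sgnIdx a ≠ sgnIdx (flipB b) := sgnIdx_injective.ne fun e => hab (congrArg Prod.fst e :)
    have hsw : ∀ c : Sgn n, (sgnIdx c).swap = sgnIdx (flipB c) := by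
      rintro ⟨i, x⟩; cases x <;> rfl
    simp only [Plus.el, hsw, flipB_flipB, Matrix.sub_apply, Matrix.add_apply, Matrix.one_apply_ne hne1,
      Matrix.single_apply, sgnIdx_injective.eq_iff, flipB_injective.eq_iff] at hm
    rw [if_neg (fun e : b = a ∧ a = b => hab (congrArg Prod.fst e.2 :)),
      if_neg (fun e : a' = a ∧ b' = b => hne (Subtype.ext (show s(a, b) = s(a', b') by rw [e.1, e.2]))),
      if_neg (fun e : b' = a ∧ a' = b => hne (Subtype.ext (by
        show s(a, b) = s(a', b')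
        rw [← e.1, ← e.2]; exact Sym2.eq_swap)))] at hm
    simp at hm
    rcases hs with rfl | rfl
    · exact hm
    · exact neg_eq_zero.1 hm
  sep_neg r t hr hmem := by
    obtain ⟨a, b, hab, rfl⟩ := r.exists_mk
    obtain ⟨s, hs, es⟩ := R.ox_mk hab t
    obtain ⟨u, hu, hπu⟩ := hmem
    rw [es] at hπu
    obtain ⟨q, hq, A, hA, rfl⟩ := R.U_form π hφ hd hu
    obtain ⟨S, hS, -⟩ := R.radP_form π hφ hd hq
    have hm := congrFun (congrFun (congrArg Plus.mat hπu) (sgnIdx a)) (sgnIdx (flipB b))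
    rw [map_mul, Plus.mat_mul, hS, hφ, Plus.mat_lev, pi_ry π hφ hd hab, upBlk, fromBlocks_multiply] at hm
    simp only [Matrix.mul_zero, Matrix.zero_mul, add_zero, zero_add, Matrix.one_mul] at hm
    have hsw : ∀ c : Sgn n, (sgnIdx c).swap = sgnIdx (flipB c) := by
      rintro ⟨i, x⟩; cases x <;> rfl
    have hne1 : sgnIdx a ≠ sgnIdx (flipB b) := sgnIdx_injective.ne fun e => hab (congrArg Prod.fst e :)
    simp only [Plus.el, hsw, flipB_flipB, Matrix.sub_apply, Matrix.add_apply, Matrix.one_apply_ne hne1,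
      Matrix.single_apply, sgnIdx_injective.eq_iff, flipB_injective.eq_iff, and_self, if_true] at hm
    rw [if_neg (fun e : b = a ∧ a = b => hab (congrArg Prod.fst e.2 :))] at hm
    obtain ⟨l0, -, l2⟩ := lTri_entries hA
    rw [oPos_mk] at hr
    suffices s = 0 by
      rcases hs with e | e
      · rw [← e, this]
      · exact neg_eq_zero.1 (e ▸ this)
    obtain ⟨i, x⟩ := a
    obtain ⟨j, y⟩ := b
    have hij : i.val ≠ j.val := fun e => hab (Fin.ext e)
    cases x <;> cases y <;> simp [ohgt] at hr <;> simp [sgnIdx, flipB, -Matrix.SpecialLinearGroup.coe_inv] at hm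
    · exact hm.symm
    · rw [l2 j i (by omega)] at hm; exact hm.symm
    · rw [l0 i j (by omega)] at hm; exact hm.symm
    · omega
  gen := by
    set H := Subgroup.closure ({z | ∃ k t, z = ox hn φ d (oSimple hn k) t ∨
      z = ox hn φ d (oNeg (oSimple hn k)) t} ∪ (oTor hn φ d : Set P))
    have hL : ∀ k z, R.oL k z ∈ H := fun k z => by
      have : H.comap (R.oL k) = ⊤ := eq_top_of_up_low
        (fun t => Subgroup.mem_comap.2 (by
          rw [R.L_up]; exact Subgroup.subset_closure (Or.inl ⟨k, t, Or.inl rfl⟩)))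
        fun t => Subgroup.mem_comap.2 (by
          rw [R.L_low]; exact Subgroup.subset_closure (Or.inl ⟨k, t, Or.inr rfl⟩))
      exact this.ge (Subgroup.mem_top z)
    have hadj : ∀ k : Fin n, ∀ h : k.val + 1 < n, ∀ z, φ (emb2 (⟨k.val + 1, h⟩ : Fin n) k z) ∈ H := fun k h z => by
      have := hL k z
      rwa [ORel.oL, dif_pos h] at this
    have hy : ∀ e, ∀ i j : Fin n, (j.val = i.val + e ∨ i.val = j.val + e) → i ≠ j → ∀ t, yTr φ i j t ∈ H := by
      intro e
      induction e with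
      | zero => intro i j h hne; exact absurd (Fin.ext (by omega)) hne
      | succ e ih =>
        intro i j h hne t
        rcases h with h | h
        · -- above the diagonal
          obtain ⟨k, hk⟩ : ∃ k : Fin n, k.val = i.val + 1 := ⟨⟨i.val + 1, by omega⟩, rfl⟩
          have hi1 : i.val + 1 < n := by omega
          have hk' : k = ⟨i.val + 1, hi1⟩ := Fin.ext hk
          have m1 : ∀ v, yTr φ i k v ∈ H := fun v => by
            have := hadj i hi1 (low v)
            rwa [emb2_low (succ_ne hi1), ← yTr_eq φ, ← hk'] at this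
          by_cases he : j = k
          · subst he; exact m1 t
          have hik : i ≠ k := fun e => by subst e; omega
          rw [show yTr φ i j t = ⁅yTr φ i k t, yTr φ k j 1⁆ by
            rw [(yTr_preSt φ).mix i k j t 1 hik (Ne.symm he) hne, mul_one], commutatorElement_def]
          have m2 : yTr φ k j 1 ∈ H := ih k j (Or.inl (by omega)) (Ne.symm he) 1
          exact mul_mem (mul_mem (mul_mem (m1 t) m2) (inv_mem (m1 t))) (inv_mem m2)
        · -- below the diagonal
          obtain ⟨k, hk⟩ : ∃ k : Fin n, k.val = j.val + 1 := ⟨⟨j.val + 1, by omega⟩, rfl⟩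
          have hj1 : j.val + 1 < n := by omega
          have hk' : k = ⟨j.val + 1, hj1⟩ := Fin.ext hk
          have m1 : ∀ v, yTr φ k j v ∈ H := fun v => by
            have := hadj j hj1 (up v)
            rwa [emb2_up (succ_ne hj1), ← yTr_eq φ, ← hk'] at this
          by_cases he : i = k
          · subst he; exact m1 t
          have hkj : k ≠ j := fun e => by subst e; omega
          rw [show yTr φ i j t = ⁅yTr φ i k t, yTr φ k j 1⁆ by
            rw [(yTr_preSt φ).mix i k j t 1 he hkj hne, mul_one], commutatorElement_def]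
          have m2 : yTr φ i k t ∈ H := ih i k (Or.inr (by omega)) he t
          exact mul_mem (mul_mem (mul_mem m2 (m1 1)) (inv_mem m2)) (inv_mem (m1 1))
    have hφH : φ.range ≤ H := by
      rintro _ ⟨A, rfl⟩
      have : H.comap φ = ⊤ := CfsgLib.Classical.sl_subgroup_eq_top _ fun i j h t => Subgroup.mem_comap.2 (by
        rw [← yTr_eq φ h]
        rcases le_total i.val j.val with h' | h'
        · exact hy (j.val - i.val) i j (Or.inl (by omega)) h t
        · exact hy (i.val - j.val) i j (Or.inr (by omega)) h t)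
      exact this.ge (Subgroup.mem_top A)
    have hA' : d * φ (emb2 (ix hn 0) (ix hn 1) jSL) * d ∈ H := by
      have hlast : ¬ (⟨n - 1, by omega⟩ : Fin n).val + 1 < n := by simp; omega
      have := hL ⟨n - 1, by omega⟩ (jSL : SL F)⁻¹
      rw [ORel.oL, dif_neg hlast, R.topA_apply, map_inv, negHom_jSL, inv_inv] at this
      exact this
    have hdH : d ∈ H := by
      have e := R.par
      rw [← eq_inv_mul_iff_mul_eq] at e
      rw [e]
      exact mul_mem (inv_mem (hφH ⟨_, rfl⟩)) (mul_mem (mul_mem (hφH ⟨_, rfl⟩) hA') (inv_mem (hφH ⟨_, rfl⟩)))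
    rw [eq_top_iff, ← hP, Subgroup.closure_le]
    rintro g (hg | rfl)
    · exact hφH hg
    · exact hdH

/-- The recognition theorem. -/
theorem ORel.injective (hP : Subgroup.closure ((φ.range : Set P) ∪ {d}) = ⊤) : Function.Injective π :=
  (R.toBN π hφ hd hP).injective

omit R in
/-- The image is the commutator subgroup. -/
theorem range_eq_commutator [Finite F] (hP : Subgroup.closure ((φ.range : Set P) ∪ {d}) = ⊤) :
    π.range = commutator ↥(Plus.O n F) := by
  refine le_antisymm ?_ ?_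
  · rw [MonoidHom.range_eq_map, ← hP, MonoidHom.map_closure, Subgroup.closure_le]
    rintro _ ⟨g, ⟨A, rfl⟩ | rfl, rfl⟩
    · rw [hφ]; exact lev_mem_commutator (by omega) A
    · rw [hd]; exact dEl_mem_commutator hn
  obtain ⟨p, rfl⟩ : ∃ p, n = p + 3 := ⟨n - 3, by omega⟩
  rw [← Plus.nodeGroup_eq (show 1 ≤ p by omega)]
  refine iSup_le fun k => ?_
  rintro _ ⟨g, rfl⟩
  by_cases h : k.val < p + 2
  · rw [Plus.node, famOf_lt h, Plus.rho, dif_pos (by omega), MonoidHom.comp_apply]
    exact ⟨φ _, hφ _⟩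
  rw [Plus.node, famOf_last h]
  set a : Fin (p + 3) := ⟨p + 1, by omega⟩
  set b : Fin (p + 3) := Fin.last (p + 2)
  have hab : a ≠ b := by simp [a, b, Fin.ext_iff]
  have hup : ∀ t, Plus.mat (π (pRad hn φ d a b t)) = Plus.el (Sum.inl a) (Sum.inr b) t := fun t => by
    rw [pi_pRad π hφ hd hab, el_up]
  have hlow : ∀ t, Plus.mat (π (pRad hn (φ.comp invT) d b a t)) = Plus.el (Sum.inr b) (Sum.inl a) t := fun t => by
    rw [pi_mRad π hφ hd hab.symm, el_low]
  exact CfsgLib.Chevalley.SingleBond.mem_of_root_mem (K := π.range.comap (Plus.rhoB p))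
    (fun t => ⟨_, Plus.mat_injective ((hup t).trans (Plus.rhoB_ux t).symm)⟩)
    (fun t => ⟨_, Plus.mat_injective ((hlow t).trans (Plus.rhoB_lx t).symm)⟩) g

end CfsgLib.OPlusPres
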