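import Cfsg.Agent.Lib.KnownB.OPlusPres.GenPair
import Cfsg.Agent.Lib.KnownB.OPlusPres.TargetRels

/-!
# Six words give the relations of the double exchange
-/

set_option autoImplicit false
set_option linter.unusedSectionVars false

open Matrix CfsgLib.Perm.Quad.SL2 CfsgLib.SL2Pres CfsgLib.SLPres CfsgLib.Classical CfsgLib.SpPres
open CfsgLib.KnownA.StSL CfsgLib.Chevalley.SingleBond
open scoped commutatorElement

namespace CfsgLib.OPlusPres

variable {F : Type*} [Field F] {n : ℕ}

/-- The letters. -/
abbrev OLett (F : Type*) [Field F] (n : ℕ) := FreeGroup (SpecialLinearGroup (Fin n) F ⊕ Unit)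

/-- The letter of the double exchange. -/
def lD : OLett F n := FreeGroup.of (Sum.inr ())

/-- The letter of a Levi element. -/
def lY (A : SpecialLinearGroup (Fin n) F) : OLett F n := FreeGroup.of (Sum.inl A)

/-- The exchanged first rank one subgroup. -/
def lA (hn : 4 ≤ n) (z : SL F) : OLett F n := lD * lY (emb2 (ix hn 0) (ix hn 1) z) * lD

/-- The word tying the exchange to the Levi subgroup. -/
noncomputable def tieWord (hn : 4 ≤ n) : OLett F n :=
  lY (emb2 (ix hn 1) (ix hn 2) (jSL : SL F)) * (lD : OLett F n) *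
    (lY (shiftW hn) * ((lD : OLett F n)⁻¹ * lY (emb2 (ix hn 0) (ix hn 1) (jSL : SL F)) * (lD : OLett F n)) *
      (lY (shiftW hn))⁻¹)⁻¹

/-- The word of a fixed element of the twisted exchange. -/
def fixWord (hn : 4 ≤ n) (x : SpecialLinearGroup (Fin n) F) : OLett F n :=
  ⁅(lD : OLett F n) * lY (emb2 (ix hn 1) (ix hn 2) (jSL : SL F)), lY x⁆

/-- The word of two commuting rank one subgroups. -/
def commWord (hn : 4 ≤ n) (z a b : SL F) : OLett F n := ⁅lA hn z, lY (twoElt hn a b)⁆

variable {P : Type*} [Group P] (φ : SpecialLinearGroup (Fin n) F →* P) (d : P)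

/-- The value of a word. -/
def val : OLett F n →* P := FreeGroup.lift (Sum.elim (⇑φ) fun _ => d)

theorem val_D : val φ d lD = d := by simp [val, lD]

theorem val_Y (A : SpecialLinearGroup (Fin n) F) : val φ d (lY A) = φ A := by simp [val, lY]

variable {φ d} {hn : 4 ≤ n}

theorem val_fix {x : SpecialLinearGroup (Fin n) F} :
    val φ d (fixWord hn x) = 1 ↔ Commute (d * φ (emb2 (ix hn 1) (ix hn 2) jSL)) (φ x) := by
  rw [fixWord, map_commutatorElement, map_mul, val_D, val_Y, val_Y, commutatorElement_eq_one_iff_commute]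

theorem val_comm {z a b : SL F} :
    val φ d (commWord hn z a b) = 1 ↔
      Commute (d * φ (emb2 (ix hn 0) (ix hn 1) z) * d) (φ (twoElt hn a b)) := by
  rw [commWord, lA, map_commutatorElement, map_mul, map_mul, val_D, val_Y, val_Y,
    commutatorElement_eq_one_iff_commute]

theorem val_tie :
    val φ d (tieWord hn) = 1 ↔ φ (emb2 (ix hn 1) (ix hn 2) jSL) * d =
      φ (shiftW hn) * (d⁻¹ * φ (emb2 (ix hn 0) (ix hn 1) jSL) * d) * (φ (shiftW hn))⁻¹ := by
  simp only [tieWord, map_mul, map_inv, val_D, val_Y, mul_inv_eq_one]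

theorem out_jSL {a b : Fin n} (h : a ≠ b) (ha : Out hn a) (hb : Out hn b) (t : F) :
    Commute (emb2 (ix hn 1) (ix hn 2) (jSL : SL F)) (SpecialLinearGroup.transvection h t) := by
  have h12 := ix_ne hn (show (1 : Fin 4) ≠ 2 by decide)
  rw [emb2_jSL h12]
  exact ((transvection_commute h12 h (Ne.symm hb.1) (Ne.symm ha.2) 1 t).mul_left
    (transvection_commute h12.symm h (Ne.symm hb.2) (Ne.symm ha.1) (-1) t)).mul_left
      (transvection_commute h12 h (Ne.symm hb.1) (Ne.symm ha.2) 1 t)

theorem e12_jSL (z : SL F) :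
    (emb2 (ix hn 1) (ix hn 2) jSL : SpecialLinearGroup (Fin n) F) * emb2 (ix hn 1) (ix hn 2) z =
      emb2 (ix hn 1) (ix hn 2) (cj z) * emb2 (ix hn 1) (ix hn 2) jSL := by
  rw [← map_mul, ← map_mul]
  congr 1
  exact (inv_mul_cancel_right _ jSL).symm

/-- The twisted exchange fixes its subgroup. -/
theorem fixed_commute (cK : ∀ a b, a ≠ b → Out hn a → Out hn b → ∀ t, Commute d (yTr φ a b t))
    (flip : ∀ z, d * φ (emb2 (ix hn 1) (ix hn 2) z) = φ (emb2 (ix hn 1) (ix hn 2) (cj z)) * d)
    {g : SpecialLinearGroup (Fin n) F} (hg : g ∈ Subgroup.closure (fixedGen hn)) :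
    Commute (d * φ (emb2 (ix hn 1) (ix hn 2) jSL)) (φ g) := by
  induction hg using Subgroup.closure_induction with
  | mem g hg =>
    rcases hg with ⟨a, b, h, a1, a2, b1, b2, t, rfl⟩ | ⟨z, rfl⟩
    · have hd := cK a b h ⟨a1, a2⟩ ⟨b1, b2⟩ t
      rw [yTr_eq φ h] at hd
      exact hd.mul_left ((out_jSL h ⟨a1, a2⟩ ⟨b1, b2⟩ t).map φ)
    · show d * φ _ * φ _ = φ _ * (d * φ _)
      rw [mul_assoc, ← map_mul, e12_jSL, map_mul, ← mul_assoc, flip, cj_cj, mul_assoc]
  | one => rw [map_one]; exact Commute.one_right _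
  | mul x y _ _ hx hy => rw [map_mul]; exact hx.mul_right hy
  | inv x _ hx => rw [map_inv]; exact hx.inv_right

theorem orel_of_good (dd : d * d = 1)
    (cK : ∀ a b, a ≠ b → Out hn a → Out hn b → ∀ t, Commute d (yTr φ a b t))
    (flip : ∀ z, d * φ (emb2 (ix hn 1) (ix hn 2) z) * d = φ (emb2 (ix hn 1) (ix hn 2) (cj z)))
    (par : φ (emb2 (ix hn 1) (ix hn 2) jSL) * d =
      φ (shiftW hn) * (d * φ (emb2 (ix hn 0) (ix hn 1) jSL) * d) * (φ (shiftW hn))⁻¹)
    (good : ∀ z, Good hn φ d z) : ORel hn φ d where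
  dd := dd
  cK := cK
  flip := flip
  par := par
  aA z z' := (good z z').1
  aL z a b h ha hb t := by
    have h01 := ix_ne hn (show (0 : Fin 4) ≠ 1 by decide)
    have h23 := ix_ne hn (show (2 : Fin 4) ≠ 3 by decide)
    set g := d * φ (emb2 (ix hn 0) (ix hn 1) z) * d
    have far : ∀ a b, a ≠ b → 3 ≤ a.val → 3 ≤ b.val → ∀ t, Commute g (yTr φ a b t) := by
      intro a b h ha hb t
      have hlt : ∀ c : Fin n, 3 ≤ c.val → ∀ k : Fin 4, k.val < 3 → c ≠ ix hn k := fun c hc k hk e => by
        have : c.val = k.val := congrArg Fin.val e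
        omega
      have hd := cK a b h ⟨hlt a ha 1 (by decide), hlt a ha 2 (by decide)⟩
        ⟨hlt b hb 1 (by decide), hlt b hb 2 (by decide)⟩ t
      rw [yTr_eq φ h] at hd ⊢
      have hz : Commute (φ (emb2 (ix hn 0) (ix hn 1) z)) (φ (SpecialLinearGroup.transvection h t)) := by
        refine Commute.map ?_ φ
        exact (Subgroup.mem_centralizer_singleton_iff.1 (Subgroup.mem_comap.1
          ((eq_top_of_up_low
            (H := (Subgroup.centralizer {SpecialLinearGroup.transvection h t}).comap (emb2 (ix hn 0) (ix hn 1)))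
            (fun s => Subgroup.mem_comap.2 (Subgroup.mem_centralizer_singleton_iff.2 (by
              rw [emb2_up h01]
              exact (transvection_commute h01 h (hlt b hb 0 (by decide)).symm (hlt a ha 1 (by decide)).symm s t).eq)))
            (fun s => Subgroup.mem_comap.2 (Subgroup.mem_centralizer_singleton_iff.2 (by
              rw [emb2_low h01]
              exact (transvection_commute h01.symm h (hlt b hb 1 (by decide)).symm (hlt a ha 0 (by decide)).symm
                s t).eq)))).ge (Subgroup.mem_top z))))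
      exact (hd.mul_left hz).mul_left hd
    have up23 : ∀ t, Commute g (yTr φ (ix hn 2) (ix hn 3) t) := fun t => by
      have := (good z (up t)).2
      rwa [emb2_up h23, ← yTr_eq φ h23] at this
    have low23 : ∀ t, Commute g (yTr φ (ix hn 3) (ix hn 2) t) := fun t => by
      have := (good z (low t)).2
      rwa [emb2_low h23, ← yTr_eq φ h23.symm] at this
    have hc : ∀ x y : P, Commute g x → Commute g y → Commute g ⁅x, y⁆ := fun x y hx hy => by
      rw [commutatorElement_def]
      exact ((hx.mul_right hy).mul_right hx.inv_right).mul_right hy.inv_right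
    by_cases ha2 : a = ix hn 2
    · subst ha2
      by_cases hb3 : b = ix hn 3
      · subst hb3; exact up23 t
      have hb' : 3 ≤ b.val := by
        have : b.val ≠ 2 := fun e => h (Fin.ext e.symm)
        omega
      have := (yTr_preSt φ).mix (ix hn 2) (ix hn 3) b t 1 h23 (Ne.symm hb3) h
      rw [mul_one] at this
      rw [← this]
      exact hc _ _ (up23 t) (far _ _ (Ne.symm hb3) le_rfl hb' 1)
    have ha' : 3 ≤ a.val := by
      have : a.val ≠ 2 := fun e => ha2 (Fin.ext e)
      omega
    by_cases hb2 : b = ix hn 2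
    · subst hb2
      by_cases ha3 : a = ix hn 3
      · subst ha3; exact low23 t
      have := (yTr_preSt φ).mix a (ix hn 3) (ix hn 2) t 1 ha3 h23.symm h
      rw [mul_one] at this
      rw [← this]
      exact hc _ _ (far _ _ ha3 ha' le_rfl t) (low23 1)
    exact far a b h ha' (by
      have : b.val ≠ 2 := fun e => hb2 (Fin.ext e)
      omega) t

variable [Fintype F]

/-- The six words. -/
theorem exists_words (hn : 4 ≤ n) :
    ∃ Rw : List (OLett F n), Rw.length = 6 ∧ (∀ x ∈ Rw, val (Plus.lev n) (dEl hn) x = 1) ∧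
      ∀ (P : Type) [Group P] (φ : SpecialLinearGroup (Fin n) F →* P) (d : P),
        (∀ x ∈ Rw, val φ d x = 1) → ORel hn φ d := by
  classical
  obtain ⟨p, _⟩ := CharP.exists F
  have : Fact p.Prime := ⟨CharP.char_is_prime F p⟩
  obtain ⟨s, b, M, hM, hs, hb, hsb, hs10, hb01⟩ := coprime_pair (F := F) p
  obtain ⟨x, y, hx, hy, hxy⟩ := fixed_pair (F := F) hn
  set extra : List (OLett F n) := if (2 : F) = 0 then
    [commWord hn (up 1) s b, commWord hn (up 1) b s, commWord hn (low 1) s b]
    else [lD * lD, commWord hn (uElt 1) s b, commWord hn (uElt 1) b s] with hextra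
  refine ⟨[tieWord hn, fixWord hn x, fixWord hn y] ++ extra, by simp only [hextra]; split_ifs <;> rfl, ?_, ?_⟩
  · have hgood : ∀ z a c : SL F, val (Plus.lev n) (dEl hn) (commWord hn z a c) = 1 := fun z a c => by
      rw [val_comm, twoElt, map_mul]
      exact (dEl_good z a).1.mul_right (dEl_good z c).2
    have hfix : ∀ g ∈ Subgroup.closure (fixedGen hn), val (Plus.lev n) (dEl (F := F) hn) (fixWord hn g) = 1 :=
      fun g hg => val_fix.2 (fixed_commute (fun a c h ha hc t => by rw [yTr_eq _ h]; exact dEl_out h ha hc t)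
        (fun z => by rw [← dEl_flip, mul_assoc, dEl_sq, mul_one]) hg)
    intro r hr
    rcases List.mem_append.1 hr with hr | hr
    · simp only [List.mem_cons, List.not_mem_nil, or_false] at hr
      rcases hr with rfl | rfl | rfl
      · rw [val_tie, dEl_inv, dEl_par]
      · exact hfix x hx
      · exact hfix y hy
    · simp only [hextra] at hr
      split_ifs at hr <;> simp only [List.mem_cons, List.not_mem_nil, or_false] at hr
      · rcases hr with rfl | rfl | rfl <;> exact hgood _ _ _
      · rcases hr with rfl | rfl | rfl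
        · rw [map_mul, val_D, dEl_sq]
        all_goals exact hgood _ _ _
  intro P _ φ d hrel
  have h12 := ix_ne hn (show (1 : Fin 4) ≠ 2 by decide)
  have hE := val_tie.1 (hrel (tieWord hn) (by simp))
  set j := φ (emb2 (ix hn 1) (ix hn 2) jSL)
  have hD : ∀ g ∈ fixedGen hn, Commute (d * j) (φ g) := fun g hg => by
    have : Subgroup.closure {x, y} ≤ (Subgroup.centralizer {d * j}).comap φ := (Subgroup.closure_le _).2 (by
      rintro _ (rfl | rfl)
      exacts [Subgroup.mem_centralizer_singleton_iff.2 (val_fix.1 (hrel (fixWord hn _) (by simp))).eq.symm,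
        Subgroup.mem_centralizer_singleton_iff.2 (val_fix.1 (hrel (fixWord hn _) (by simp))).eq.symm])
    exact (Subgroup.mem_centralizer_singleton_iff.1 (this (hxy hg))).symm
  have cK : ∀ a c, a ≠ c → Out hn a → Out hn c → ∀ t, Commute d (yTr φ a c t) := by
    intro a c h ha hc t
    rw [yTr_eq φ h]
    have := (hD _ (Or.inl ⟨a, c, h, ha.1, ha.2, hc.1, hc.2, t, rfl⟩)).mul_left ((out_jSL h ha hc t).map φ).inv_left
    rwa [mul_inv_cancel_right] at this
  have flip0 : ∀ z, d * φ (emb2 (ix hn 1) (ix hn 2) (cj z)) = φ (emb2 (ix hn 1) (ix hn 2) z) * d := fun z => by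
    have e := (hD _ (Or.inr ⟨z, rfl⟩)).eq
    rw [mul_assoc, ← map_mul, e12_jSL, map_mul, ← mul_assoc, ← mul_assoc] at e
    exact mul_right_cancel e
  have dd : d * d = 1 := by
    by_cases h2 : (2 : F) = 0
    · have hn1 : (-1 : F) = 1 := by linear_combination (-1 : F) * h2
      have hJ : (jSL : SL F) * jSL = 1 := by apply ext2 <;> simp [mul_apply2, jSL_coe, hn1]
      have hjj : j * j = 1 := by rw [← map_mul, ← map_mul, hJ, map_one, map_one]
      have hdj : d * j = j * d := by
        have e := flip0 jSL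
        rwa [cj_jSL] at e
      have e2 : (j * d) * (j * d) = 1 := by
        rw [hE]
        have hA : φ (emb2 (ix hn 0) (ix hn 1) (jSL : SL F)) * φ (emb2 (ix hn 0) (ix hn 1) jSL) = 1 := by
          rw [← map_mul, ← map_mul, hJ, map_one, map_one]
        calc _ = φ (shiftW hn) * (d⁻¹ * (φ (emb2 (ix hn 0) (ix hn 1) jSL) * φ (emb2 (ix hn 0) (ix hn 1) jSL)) * d) *
              (φ (shiftW hn))⁻¹ := by group
          _ = 1 := by rw [hA]; group
      rwa [show j * d * (j * d) = j * (d * j) * d by group, hdj, show j * (j * d) * d = j * j * (d * d) by group,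
        hjj, one_mul] at e2
    · have := hrel (lD * lD) (by simp [hextra, h2])
      rwa [map_mul, val_D] at this
  have flip : ∀ z, d * φ (emb2 (ix hn 1) (ix hn 2) z) * d = φ (emb2 (ix hn 1) (ix hn 2) (cj z)) := fun z => by
    have e := flip0 (cj z)
    rw [cj_cj] at e
    rw [e, mul_assoc, dd, mul_one]
  rw [inv_eq_of_mul_eq_one_right dd] at hE
  refine orel_of_good dd cK flip hE ?_
  by_cases h2 : (2 : F) = 0
  · have w := fun z a c (h : commWord hn z a c ∈ extra) =>
      val_comm.1 (hrel _ (List.mem_append_right _ h))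
    exact good_all_even dd cK flip hM hs hb hs10 hb01
      (good_of_pair dd hsb hM hs hb (w _ _ _ (by simp [hextra, h2])) (w _ _ _ (by simp [hextra, h2])))
      (w _ _ _ (by simp [hextra, h2]))
  · have w := fun z a c (h : commWord hn z a c ∈ extra) =>
      val_comm.1 (hrel _ (List.mem_append_right _ h))
    exact good_all_odd dd flip h2
      (good_of_pair dd hsb hM hs hb (w _ _ _ (by simp [hextra, h2])) (w _ _ _ (by simp [hextra, h2])))

end CfsgLib.OPlusPres
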