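import Cfsg.Prelude.Def_Classical
import Cfsg.Agent.Lib.KnownB.OPlusPres.Recog
import Cfsg.Agent.Lib.KnownB.OPlusPres.Rels
import Cfsg.Agent.Lib.KnownB.SLPres.AltPres

/-!
# Presentations of the plus type groups from one of the special linear group and six words
-/

set_option autoImplicit false
set_option linter.unusedSectionVars false

open Matrix CfsgLib.Perm.Quad.SL2 CfsgLib.SL2Pres CfsgLib.SLPres CfsgLib.Classical CfsgLib.Presentations
open CfsgLib.Chevalley.SingleBond CfsgLib.SpPres

namespace CfsgLib.OPlusPres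

variable {F : Type*} [Field F] [Fintype F] {n : ℕ}

/-- The Levi subgroup inside the commutator subgroup. -/
def levOm (hn : 4 ≤ n) : SpecialLinearGroup (Fin n) F →* ↥(commutator ↥(Plus.O n F)) :=
  (Plus.lev n).codRestrict _ (lev_mem_commutator (by omega))

/-- The double exchange inside the commutator subgroup. -/
def dOm (hn : 4 ≤ n) : ↥(commutator ↥(Plus.O n F)) := ⟨dEl hn, dEl_mem_commutator hn⟩

/-- Six words beside a presentation of the special linear group. -/
theorem pres_oPlus (hn : 4 ≤ n) {g r : ℕ} {t : Fin g → SpecialLinearGroup (Fin n) F} (h : HasPres g r t ⊤) :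
    ∃ s : Fin (g + 1) → ↥(commutator ↥(Plus.O n F)), HasPres (g + 1) (r + 6) s ⊤ := by
  classical
  obtain ⟨Rw, hlen, hhold, hsys⟩ := exists_words (F := F) hn
  obtain ⟨hcl, RX, hRX, πX, hπXi, hπX⟩ := h
  have hπXs : Function.Surjective πX := MonoidHom.range_eq_top.1 ((range_eq_closure πX hπX).trans hcl)
  let eX := MulEquiv.ofBijective πX ⟨hπXi, hπXs⟩
  let s : Fin (g + 1) → ↥(commutator ↥(Plus.O n F)) := Fin.snoc (fun i => levOm hn (t i)) (dOm hn)
  let ι : FreeGroup (Fin g) →* FreeGroup (Fin (g + 1)) := FreeGroup.lift fun i => FreeGroup.of i.castSucc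
  have hsur : ∀ A, ∃ x : FreeGroup (Fin g), eX (PresentedGroup.mk _ x) = A := fun A => by
    obtain ⟨y, hy⟩ := eX.surjective A
    obtain ⟨x, rfl⟩ := PresentedGroup.mk_surjective _ y
    exact ⟨x, hy⟩
  choose w hw using hsur
  let tr : OLett F n →* FreeGroup (Fin (g + 1)) :=
    FreeGroup.lift (Sum.elim (fun A => ι (w A)) fun _ => FreeGroup.of (Fin.last g))
  let L := FreeGroup.lift s
  have hLι : ∀ x, L (ι x) = levOm hn (eX (PresentedGroup.mk _ x)) := by
    have : L.comp ι = (levOm hn).comp (eX.toMonoidHom.comp (PresentedGroup.mk _)) :=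
      FreeGroup.ext_hom _ _ fun i => by
        show L (ι (FreeGroup.of i)) = levOm hn (eX (PresentedGroup.of i))
        rw [show eX (PresentedGroup.of i) = t i from hπX i]
        simp [L, ι, s]
    exact fun x => DFunLike.congr_fun this x
  have hLtr : ∀ x, L (tr x) = val (levOm hn) (dOm hn) x := by
    have : L.comp tr = val (levOm hn) (dOm hn) := FreeGroup.ext_hom _ _ fun a => by
      rcases a with A | u
      · simp only [MonoidHom.comp_apply, tr, val, FreeGroup.lift_apply_of, Sum.elim_inl, hLι, hw]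
      · simp [tr, val, L, s]
    exact fun x => DFunLike.congr_fun this x
  have hholdΩ : ∀ x ∈ Rw, val (levOm hn) (dOm hn) x = 1 := fun x hx => by
    have e : (commutator ↥(Plus.O n F)).subtype.comp (val (levOm hn) (dOm hn)) =
        val (Plus.lev n) (dEl hn) := FreeGroup.ext_hom _ _ fun a => by
      rcases a with A | u <;> simp [val, levOm, dOm]
    exact Subtype.ext ((DFunLike.congr_fun e x).trans (hhold x hx))
  let rels := RX.image ι ∪ (Rw.map tr).toFinset
  have hcard : rels.card ≤ r + 6 := by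
    refine (Finset.card_union_le _ _).trans (Nat.add_le_add (Finset.card_image_le.trans hRX)
      ((List.toFinset_card_le _).trans ?_))
    rw [List.length_map, hlen]
  have hrel : ∀ x ∈ (↑rels : Set (FreeGroup (Fin (g + 1)))), L x = 1 := by
    intro x hx
    simp only [rels, Finset.coe_union, Set.mem_union, Finset.mem_coe, Finset.mem_image, List.mem_toFinset,
      List.mem_map] at hx
    rcases hx with ⟨y, hy, rfl⟩ | ⟨y, hy, rfl⟩
    · rw [hLι, PresentedGroup.one_of_mem (Finset.mem_coe.2 hy), map_one, map_one]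
    · rw [hLtr]; exact hholdΩ y hy
  let π := PresentedGroup.toGroup (rels := (↑rels : Set (FreeGroup (Fin (g + 1))))) (f := s) hrel
  have hπ : ∀ i, π (PresentedGroup.of i) = s i := fun i => PresentedGroup.toGroup.of hrel
  let q : FreeGroup (Fin (g + 1)) →* PresentedGroup (↑rels : Set (FreeGroup (Fin (g + 1)))) := PresentedGroup.mk _
  have hπq : ∀ x, π (q x) = L x := fun x => rfl
  have hq1 : ∀ x ∈ rels, q x = 1 := fun x hx => PresentedGroup.one_of_mem (Finset.mem_coe.2 hx)
  let φX := PresentedGroup.toGroup (rels := (↑RX : Set (FreeGroup (Fin g))))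
    (f := fun i => q (ι (FreeGroup.of i))) fun x hx => by
      rw [show FreeGroup.lift (fun i => q (ι (FreeGroup.of i))) = q.comp ι from
        FreeGroup.ext_hom _ _ fun i => by simp]
      exact hq1 _ (Finset.mem_union_left _ (Finset.mem_image_of_mem _ (Finset.mem_coe.1 hx)))
  let φ : SpecialLinearGroup (Fin n) F →* _ := φX.comp eX.symm.toMonoidHom
  have hφX : ∀ x, φX (PresentedGroup.mk _ x) = q (ι x) := by
    have : φX.comp (PresentedGroup.mk _) = q.comp ι := FreeGroup.ext_hom _ _ fun i => by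
      show φX (PresentedGroup.of i) = _
      exact PresentedGroup.toGroup.of _
    exact fun x => DFunLike.congr_fun this x
  have hφ : ∀ A, φ A = q (ι (w A)) := fun A => by
    show φX (eX.symm A) = _
    rw [← hφX, ← congrArg eX.symm (hw A), eX.symm_apply_apply]
  have hwords : ∀ x ∈ Rw, val φ (q (FreeGroup.of (Fin.last g))) x = 1 := fun x hx => by
    have e : val φ (q (FreeGroup.of (Fin.last g))) = q.comp tr := FreeGroup.ext_hom _ _ fun a => by
      rcases a with A | u
      · simp only [MonoidHom.comp_apply, tr, val, FreeGroup.lift_apply_of, Sum.elim_inl, hφ]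
      · simp [tr, val]
    rw [e]
    exact hq1 _ (Finset.mem_union_right _ (List.mem_toFinset.2 (List.mem_map_of_mem hx)))
  have hgen : Subgroup.closure ((φ.range : Set (PresentedGroup (↑rels : Set (FreeGroup (Fin (g + 1)))))) ∪
      {q (FreeGroup.of (Fin.last g))}) = ⊤ := by
    rw [eq_top_iff, ← PresentedGroup.closure_range_of, Subgroup.closure_le]
    rintro _ ⟨i, rfl⟩
    refine Subgroup.subset_closure ?_
    induction i using Fin.lastCases with
    | last => exact Or.inr rfl
    | cast i =>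
      refine Or.inl ⟨eX (PresentedGroup.of i), ?_⟩
      show φX (eX.symm (eX _)) = _
      rw [eX.symm_apply_apply]
      exact (PresentedGroup.toGroup.of _).trans (by simp [ι]; rfl)
  let π' := (commutator ↥(Plus.O n F)).subtype.comp π
  have hπφ : ∀ A, π' (φ A) = Plus.lev n A := fun A => by
    show (π (φ A)).1 = _
    rw [hφ, hπq, hLι, hw]
    rfl
  have hπd : π' (q (FreeGroup.of (Fin.last g))) = dEl hn := by
    show (π (q _)).1 = _
    rw [hπq]
    simp [L, s, dOm]
  clear_value φ
  have R := hsys _ φ _ hwords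
  have hinj : Function.Injective π := fun a b e => R.injective π' hπφ hπd hgen (congrArg Subtype.val e)
  have hsurj : Function.Surjective π := fun y => by
    have : y.1 ∈ π'.range := by rw [range_eq_commutator π' hπφ hπd hgen]; exact y.2
    obtain ⟨x, hx⟩ := this
    exact ⟨x, Subtype.ext hx⟩
  exact ⟨s, (range_eq_closure π hπ).symm.trans (MonoidHom.range_eq_top.2 hsurj), rels, hcard, π, hinj, hπ⟩

theorem omega_center_scalar (hn : 4 ≤ n) {z : ↥(commutator ↥(Plus.O n F))} (hz : z ∈ Subgroup.center _) :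
    ∃ a : F, a * a = 1 ∧ Plus.mat z.1 = Matrix.diagonal fun _ => a := by
  set M := Plus.mat z.1 with hM
  have hc : ∀ A, M * Plus.mat (Plus.lev n A) = Plus.mat (Plus.lev n A) * M := fun A => by
    have := congrArg (fun w => Plus.mat (Subtype.val w)) (Subgroup.mem_center_iff.1 hz (levOm hn A))
    exact this.symm
  have key : ∀ {i j : Fin n}, i ≠ j → ∀ x y,
      (if y = Sum.inl j then M x (Sum.inl i) else 0) - (if y = Sum.inr i then M x (Sum.inr j) else 0) =
        (if x = Sum.inl i then M (Sum.inl j) y else 0) - (if x = Sum.inr j then M (Sum.inr i) y else 0) := by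
    intro i j h x y
    have e := hc (SpecialLinearGroup.transvection h 1)
    rw [Plus.mat_lev_tv, Plus.el, mul_sub, sub_mul, mul_add, add_mul, mul_one, one_mul, add_sub_assoc, add_sub_assoc,
      add_left_cancel_iff] at e
    have e' := congrFun (congrFun e x) y
    simp only [Matrix.sub_apply, Matrix.mul_apply, Matrix.single_apply, Sum.swap_inl] at e'
    simpa [eq_comm, ite_and] using e'
  have third : ∀ a b : Fin n, ∃ i, i ≠ a ∧ i ≠ b := fun a b => by
    obtain ⟨i, hi⟩ : ∃ i, i ∉ ({a, b} : Finset (Fin n)) := by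
      by_contra hcon
      push Not at hcon
      have := Finset.card_le_card (s := (Finset.univ : Finset (Fin n))) (t := {a, b}) fun x _ => hcon x
      have h2 : ({a, b} : Finset (Fin n)).card ≤ 2 := Finset.card_le_two
      rw [Finset.card_univ, Fintype.card_fin] at this
      omega
    simp only [Finset.mem_insert, Finset.mem_singleton, not_or] at hi
    exact ⟨i, hi⟩
  have offl : ∀ j y, y ≠ Sum.inl j → M (Sum.inl j) y = 0 := fun j y hy => by
    obtain ⟨i, hi, hi'⟩ := third j (Sum.elim id id y)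
    have e := key hi (Sum.inl i) y
    rw [if_neg hy, if_neg (fun e => hi' (by rw [e]; rfl))] at e
    simpa using e.symm
  have offr : ∀ j y, y ≠ Sum.inr j → M (Sum.inr j) y = 0 := fun j y hy => by
    obtain ⟨i, hi, hi'⟩ := third j (Sum.elim id id y)
    have e := key (Ne.symm hi) (Sum.inr i) y
    rw [if_neg hy, if_neg (fun e => hi' (by rw [e]; rfl))] at e
    simpa [eq_comm] using e
  have h12 := ix_ne hn (show (1 : Fin 4) ≠ 2 by decide)
  set a := M (Sum.inl (ix hn 1)) (Sum.inl (ix hn 1)) with ha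
  have ediag : ∀ j, M (Sum.inl j) (Sum.inl j) = a ∧
      M (Sum.inr j) (Sum.inr j) = M (Sum.inr (ix hn 1)) (Sum.inr (ix hn 1)) := fun j => by
    by_cases h : ix hn 1 = j
    · subst h; exact ⟨rfl, rfl⟩
    have e := key h (Sum.inl (ix hn 1)) (Sum.inl j)
    have e' := key (Ne.symm h) (Sum.inr (ix hn 1)) (Sum.inr j)
    simp at e e'
    exact ⟨e.symm, e'.symm⟩
  have hd : M (Sum.inr (ix hn 1)) (Sum.inr (ix hn 1)) = a := by
    have e : dEl hn * z.1 * dEl hn = z.1 := by
      have := congrArg Subtype.val (Subgroup.mem_center_iff.1 hz (dOm hn))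
      change dEl hn * z.1 = z.1 * dEl hn at this
      rw [this, mul_assoc, dEl_sq, mul_one]
    have e' := congrFun (congrFun (congrArg Plus.mat e) (Sum.inl (ix hn 1))) (Sum.inl (ix hn 1))
    rw [mat_dEl_conj, ← hM] at e'
    simpa [Plus.flipPerm, Equiv.swap_apply_def, h12, h12.symm] using e'
  have hdiag : M = Matrix.diagonal fun _ => a := by
    ext x y
    by_cases hxy : x = y
    · subst hxy
      rw [Matrix.diagonal_apply_eq]
      rcases x with x | x
      · exact (ediag x).1
      · exact (ediag x).2.trans hd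
    · rw [Matrix.diagonal_apply_ne _ hxy]
      rcases x with x | x
      · exact offl x y (Ne.symm hxy)
      · exact offr x y (Ne.symm hxy)
  refine ⟨a, ?_, hdiag⟩
  have e := z.1.2 (Sum.elim (fun k => if k = ix hn 1 then 1 else 0) fun k => if k = ix hn 1 then 1 else 0) 0
  change Cfsg.quadFormPlus n F (M *ᵥ _) = Cfsg.quadFormPlus n F _ at e
  rw [hdiag] at e
  simpa [Cfsg.quadFormPlus, Matrix.mulVec_diagonal] using e

theorem exists_omega_center_gen (hn : 4 ≤ n) :
    ∃ z ∈ Subgroup.center ↥(commutator ↥(Plus.O n F)),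
      Subgroup.center ↥(commutator ↥(Plus.O n F)) ≤ Subgroup.zpowers z := by
  have uniq : ∀ x ∈ Subgroup.center ↥(commutator ↥(Plus.O n F)), x = 1 ∨
      Plus.mat x.1 = Matrix.diagonal fun _ => (-1 : F) := fun x hx => by
    obtain ⟨a, ha, e⟩ := omega_center_scalar hn hx
    rcases mul_self_eq_one_iff.1 ha with rfl | rfl
    · exact Or.inl (Subtype.ext (Plus.mat_injective (by rw [e, Matrix.diagonal_one]; rfl)))
    · exact Or.inr e
  by_cases h : ∃ z ∈ Subgroup.center ↥(commutator ↥(Plus.O n F)), z ≠ 1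
  · obtain ⟨z, hz, hne⟩ := h
    refine ⟨z, hz, fun x hx => ?_⟩
    rcases uniq x hx with e | e
    · rw [e]; exact one_mem _
    rcases uniq z hz with e' | e'
    · exact absurd e' hne
    rw [show x = z from Subtype.ext (Plus.mat_injective (e.trans e'.symm))]
    exact Subgroup.mem_zpowers z
  · push Not at h
    exact ⟨1, one_mem _, fun x hx => by rw [h x hx]; exact one_mem _⟩

/-- One more relation presents the projective group. -/
theorem pomega_pres (hn : 4 ≤ n) {g k : ℕ} {s : Fin g → ↥(Cfsg.Omega F (Cfsg.quadFormPlus n F))}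
    (h : HasPres g k s ⊤) : ∃ t : Fin g → Cfsg.POmega F (Cfsg.quadFormPlus n F), HasPres g (k + 1) t ⊤ := by
  obtain ⟨z, hz, hle⟩ := exists_omega_center_gen (F := F) hn
  exact ⟨_, quotient_pres h _ z hz hle⟩

theorem oPlus_counts (hn : 4 ≤ n) :
    ∃ s : Fin 8 → ↥(Cfsg.Omega F (Cfsg.quadFormPlus n F)), HasPres 8 31 s ⊤ := by
  obtain ⟨t, ht⟩ := sl_pres_counts (F := F) hn
  obtain ⟨s, hs⟩ := pres_oPlus hn ht
  exact ⟨s, hs⟩

theorem oPlus_counts_small (hn : n = 4 ∨ n = 5) :
    ∃ s : Fin 8 → ↥(Cfsg.Omega F (Cfsg.quadFormPlus n F)), HasPres 8 28 s ⊤ := by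
  rcases hn with rfl | rfl
  · obtain ⟨t, ht⟩ := alt_pres_four
    obtain ⟨s, hs⟩ := pres_sl (F := F) le_rfl ht
    obtain ⟨s, hs⟩ := pres_oPlus le_rfl hs
    obtain ⟨s, hs⟩ := hasPres_succ hs
    obtain ⟨s, hs⟩ := hasPres_succ hs
    obtain ⟨s, hs⟩ := hasPres_succ hs
    exact ⟨s, hs⟩
  · obtain ⟨t, ht⟩ := alt_pres_five
    obtain ⟨s, hs⟩ := pres_sl (F := F) (by norm_num) ht
    obtain ⟨s, hs⟩ := pres_oPlus (by norm_num) hs
    obtain ⟨s, hs⟩ := hasPres_succ hs
    obtain ⟨s, hs⟩ := hasPres_succ hs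
    obtain ⟨s, hs⟩ := hasPres_succ hs
    exact ⟨s, hs⟩

end CfsgLib.OPlusPres
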