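import Cfsg.Agent.Lib.KnownB.SpPres.Monomial
import Cfsg.Agent.Lib.KnownB.SpPres.Simple

/-!
# Matrices prescribed on the first two columns
-/

set_option autoImplicit false
set_option linter.unusedSectionVars false

open Matrix CfsgLib.Perm.Quad.SL2 CfsgLib.SL2Pres CfsgLib.SLPres CfsgLib.Classical CfsgLib.SpPres

namespace CfsgLib.OPlusPres

variable {F : Type*} [Field F] {n : ℕ}

/-- One of the first four coordinates. -/
abbrev ix (hn : 4 ≤ n) (k : Fin 4) : Fin n := Fin.castLE hn k

theorem ix_inj (hn : 4 ≤ n) {k l : Fin 4} : ix hn k = ix hn l ↔ k = l :=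
  (Fin.castLE_injective hn).eq_iff

theorem ix_ne (hn : 4 ≤ n) {k l : Fin 4} (h : k ≠ l) : ix hn k ≠ ix hn l := (Fin.castLE_injective hn).ne h

theorem exists_perm_ix (hn : 4 ≤ n) {k : ℕ} (f : Fin k → Fin 4) (hf : Function.Injective f) (g : Fin k → Fin n)
    (hg : Function.Injective g) : ∃ σ : Equiv.Perm (Fin n), ∀ a, σ (ix hn (f a)) = g a :=
  Equiv.Perm.exists_extending_pair (fun a => ix hn (f a)) g ((Fin.castLE_injective hn).comp hf) hg

theorem exists_perm_two (hn : 4 ≤ n) {i j : Fin n} (h : i ≠ j) :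
    ∃ σ : Equiv.Perm (Fin n), σ (ix hn 0) = i ∧ σ (ix hn 1) = j := by
  obtain ⟨σ, hσ⟩ := exists_perm_ix hn ![0, 1] (by decide) ![i, j] (by
    intro a b e; fin_cases a <;> fin_cases b <;> simp [h, h.symm] at e ⊢)
  exact ⟨σ, hσ 0, hσ 1⟩

/-- The first two columns are multiples of unit vectors. -/
def Cols (hn : 4 ≤ n) (A : Matrix (Fin n) (Fin n) F) (i j : Fin n) (c c' : F) : Prop :=
  (∀ x, A x (ix hn 0) = if x = i then c else 0) ∧ ∀ x, A x (ix hn 1) = if x = j then c' else 0

/-- A column sent to a multiple of a unit vector. -/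
def Col (A : Matrix (Fin n) (Fin n) F) (a i : Fin n) (c : F) : Prop := ∀ x, A x a = if x = i then c else 0

theorem Col.mul {A B : Matrix (Fin n) (Fin n) F} {a b i : Fin n} {c c' : F} (hB : Col B a b c) (hA : Col A b i c') :
    Col (A * B) a i (c * c') := by
  intro x
  rw [Matrix.mul_apply, Finset.sum_eq_single b]
  · rw [hB, if_pos rfl, hA]
    split_ifs <;> ring
  · intro y _ hy; rw [hB, if_neg hy, mul_zero]
  · simp

theorem col_one (a : Fin n) : Col (1 : Matrix (Fin n) (Fin n) F) a a 1 := fun x => by rw [Matrix.one_apply]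

theorem col_monSL (hn : 4 ≤ n) (σ : Equiv.Perm (Fin n)) (a : Fin n) :
    Col (monSL (F := F) (show 3 ≤ n by omega) σ).1 a (σ a) (monSgn σ a) := fun x => by
  show monMat σ x a = _
  rfl

theorem col_transvection {a b k : Fin n} (hk : k ≠ b) (h : a ≠ b) (t : F) :
    Col (SpecialLinearGroup.transvection h t : SpecialLinearGroup (Fin n) F).1 k k 1 := fun x => by
  simp [SpecialLinearGroup.transvection_coe, Matrix.one_apply, Matrix.single_apply, Ne.symm hk]

theorem col_jSL {k l : Fin n} (h : k ≠ l) (a : Fin n) :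
    Col (emb2 k l (jSL : SL F)).1 a (Equiv.swap k l a) (wSgn k a) := fun x => by
  have e := congrFun (congrFun (emb2_jSL_mul_single (F := F) h a a 1) x) a
  rw [Matrix.mul_apply, Finset.sum_eq_single a] at e
  · simp only [Matrix.single_apply, and_self, and_true, if_true, mul_one] at e
    rw [e]
    simp [eq_comm]
  · intro y _ hy; simp [Matrix.single_apply, Ne.symm hy]
  · simp

/-- The torus element on two coordinates. -/
theorem col_dSL {k l : Fin n} (h : k ≠ l) {c : F} (hc : c ≠ 0) (a : Fin n) :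
    Col (emb2 k l (dSL hc)).1 a a (if a = k then c else if a = l then c⁻¹ else 1) := fun x => by
  rw [emb2_dSL h, SpecialLinearGroup.diag2n_coe, Matrix.diagonal_apply]
  by_cases hx : x = a
  · subst hx; simp
  · simp [hx]

/-- Elements fixing the first two basis vectors are products of transvections into later columns. -/
theorem mem_fix2 (hn : 4 ≤ n) {A : SpecialLinearGroup (Fin n) F}
    (hA : Cols hn A.1 (ix hn 0) (ix hn 1) 1 1) :
    A ∈ Subgroup.closure {g : SpecialLinearGroup (Fin n) F |
      ∃ a b, ∃ h : a ≠ b, ∃ t, 2 ≤ b.val ∧ g = SpecialLinearGroup.transvection h t} := by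
  classical
  obtain ⟨k, rfl⟩ : ∃ k, n = k + 1 + 1 := ⟨n - 2, by omega⟩
  set H := Subgroup.closure {g : SpecialLinearGroup (Fin (k + 1 + 1)) F |
      ∃ a b, ∃ h : a ≠ b, ∃ t, 2 ≤ b.val ∧ g = SpecialLinearGroup.transvection h t}
  set i0 := ix hn 0
  set i1 := ix hn 1
  have e0 : i0 = 0 := rfl
  have e1 : i1 = 1 := Fin.ext (by simp [i1, ix])
  have hv0 : i0.val = 0 := rfl
  have hv1 : i1.val = 1 := rfl
  have h01 : i0 ≠ i1 := ix_ne hn (by decide)
  -- the corner block
  let q : Fin (k + 1 + 1) → Fin (k + 1 + 1) → F := fun a b => if a.val < 2 ∧ 2 ≤ b.val then A.1 a b else 0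
  let M : Matrix (Fin (k + 1 + 1)) (Fin (k + 1 + 1)) F := Matrix.of q
  have hM : ∃ g ∈ H, (g : SpecialLinearGroup (Fin (k + 1 + 1)) F).1 = 1 - M := by
    let good : Matrix (Fin (k + 1 + 1)) (Fin (k + 1 + 1)) F → Prop := fun X =>
      (∀ a b, (2 ≤ a.val ∨ b.val < 2) → X a b = 0) ∧ ∃ g ∈ H, (g : SpecialLinearGroup (Fin (k + 1 + 1)) F).1 = 1 - X
    have hadd : ∀ X Y, good X → good Y → good (X + Y) := by
      rintro X Y ⟨hX, g, hg, eg⟩ ⟨hY, g', hg', eg'⟩
      refine ⟨fun a b h => by rw [Matrix.add_apply, hX a b h, hY a b h, add_zero], g * g', mul_mem hg hg', ?_⟩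
      have hXY : X * Y = 0 := by
        ext a b
        rw [Matrix.mul_apply]
        refine Finset.sum_eq_zero fun c _ => ?_
        rcases Nat.lt_or_ge c.val 2 with h | h
        · rw [hX a c (Or.inr h), zero_mul]
        · rw [hY c b (Or.inl h), mul_zero]
      show g.1 * g'.1 = _
      rw [eg, eg', sub_mul, one_mul, mul_sub, mul_one, hXY]
      abel
    have hz : good 0 := ⟨fun _ _ _ => rfl, 1, one_mem _, by simp⟩
    have hq : ∀ a b, good (Matrix.single a b (q a b)) := fun a b => by
      by_cases h : a.val < 2 ∧ 2 ≤ b.val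
      · refine ⟨fun x y hxy => ?_, SpecialLinearGroup.transvection (fun e : a = b => by subst e; omega) (-q a b),
          Subgroup.subset_closure ⟨a, b, _, _, h.2, rfl⟩, ?_⟩
        · rw [Matrix.single_apply, if_neg]
          rintro ⟨rfl, rfl⟩
          omega
        · rw [SpecialLinearGroup.transvection_coe, sub_eq_add_neg, Matrix.single_neg]
      · rw [show q a b = 0 from if_neg h, Matrix.single_zero]
        exact hz
    have : good M := by
      rw [Matrix.matrix_eq_sum_single M]
      exact Finset.sum_induction _ good hadd hz fun a _ => Finset.sum_induction _ good hadd hz fun b _ => hq a b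
    exact this.2
  obtain ⟨g, hg, eg⟩ := hM
  have hMz : ∀ a b, (2 ≤ a.val ∨ b.val < 2) → M a b = 0 := fun a b h => if_neg fun h' => by omega
  have hMq : ∀ a b, a.val < 2 → 2 ≤ b.val → M a b = A.1 a b := fun a b ha hb => if_pos ⟨ha, hb⟩
  have hAg : ∀ x y, (A * g).1 x y = A.1 x y - M x y := by
    intro x y
    show (A.1 * g.1) x y = _
    rw [eg, mul_sub, mul_one, Matrix.sub_apply]
    congr 1
    rw [Matrix.mul_apply]
    by_cases hy : 2 ≤ y.val
    · rw [Finset.sum_eq_add i0 i1 (ix_ne hn (by decide))]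
      · rw [hA.1, hA.2]
        have hx : x = i0 ∨ x = i1 ∨ 2 ≤ x.val := by
          rw [Fin.ext_iff, Fin.ext_iff, hv0, hv1]; omega
        rcases hx with rfl | rfl | hx
        · rw [if_pos rfl, if_neg h01, one_mul, zero_mul, add_zero]
        · rw [if_pos rfl, if_neg h01.symm, one_mul, zero_mul, zero_add]
        · have h0 : x ≠ i0 := fun e => by subst e; omega
          have h1 : x ≠ i1 := fun e => by subst e; omega
          rw [if_neg h0, if_neg h1]
          rw [hMz x y (Or.inl hx), zero_mul, zero_mul, add_zero]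
      · intro c _ hc
        have : 2 ≤ c.val := by
          obtain ⟨h0, h1⟩ := hc
          rw [ne_eq, Fin.ext_iff] at h0 h1
          omega
        rw [hMz c y (Or.inl this), mul_zero]
      · simp
      · simp
    · rw [Finset.sum_eq_zero fun c _ => by rw [hMz c y (Or.inr (by omega)), mul_zero], hMz x y (Or.inr (by omega))]
  have hS : Sends (A * g).1 0 0 := by
    refine ⟨fun x => ?_, fun y => ?_⟩
    · rw [hAg, ← e0, hA.1, hMz x i0 (Or.inr (by omega)), sub_zero]
    · rw [hAg]
      by_cases h0 : y = 0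
      · subst h0; rw [if_pos rfl, ← e0, hA.1, if_pos rfl, hMz i0 i0 (Or.inr (by omega)), sub_zero]
      rw [if_neg h0, ← e0]
      by_cases h1 : y = i1
      · subst h1; rw [hA.2, if_neg h01, hMz i0 i1 (Or.inr (by omega)), sub_zero]
      · have : 2 ≤ y.val := by
          rw [Fin.ext_iff] at h0 h1
          rw [Fin.val_zero] at h0
          omega
        rw [hMq i0 y (by omega) this, sub_self]
  obtain ⟨B, hB⟩ := exists_stabEmb _ hS
  have hsucc : ∀ x y, B.1 x y = (A * g).1 x.succ y.succ := fun x y => by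
    rw [← hB, stabEmb_val, dif_neg (Fin.succ_ne_zero x), dif_neg (Fin.succ_ne_zero y)]; simp
  have hS' : Sends B.1 0 0 := by
    have e1' : (0 : Fin (k + 1)).succ = i1 := by rw [e1]; rfl
    refine ⟨fun x => ?_, fun y => ?_⟩
    · rw [hsucc, hAg, e1', hA.2, hMz x.succ i1 (Or.inr (by omega)), sub_zero]
      simp only [← e1', Fin.succ_inj]
    · rw [hsucc, hAg, e1']
      by_cases h0 : y = 0
      · subst h0; rw [if_pos rfl, e1', hA.2, if_pos rfl, hMz i1 i1 (Or.inr (by omega)), sub_zero]
      · rw [if_neg h0]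
        have : 2 ≤ y.succ.val := by
          rw [Fin.ext_iff, Fin.val_zero] at h0
          rw [Fin.val_succ]; omega
        rw [hMq i1 y.succ (by omega) this, sub_self]
  obtain ⟨C, rfl⟩ := exists_stabEmb _ hS'
  have hC : stabEmb (k + 1) (stabEmb k C) ∈ H := by
    have : H.comap ((stabEmb (F := F) (k + 1)).comp (stabEmb k)) = ⊤ :=
      CfsgLib.Classical.sl_subgroup_eq_top _ fun a b h c => Subgroup.mem_comap.2 (Subgroup.subset_closure
        ⟨a.succ.succ, b.succ.succ, fun e => h (Fin.succ_injective _ (Fin.succ_injective _ e)), c, by simp, by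
          apply Subtype.ext
          simp only [MonoidHom.comp_apply, stabEmb, slEmbed_coe, SpecialLinearGroup.transvection_coe,
            add_sub_cancel_left, incMat_mul_single_mul]⟩)
    exact this.ge (Subgroup.mem_top C)
  rw [hB] at hC
  have := mul_mem hC (inv_mem hg)
  rwa [mul_inv_cancel_right] at this

/-- Conjugation by the reflection. -/
def cj : SL F →* SL F := (MulAut.conj (jSL : SL F)).toMonoidHom

theorem cj_up (t : F) : cj (up t) = low (-t) := jSL_up t

theorem cj_low (t : F) : cj (low t) = up (-t) := jSL_low t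

theorem cj_cj (z : SL F) : cj (cj z) = z := by
  have : (cj (F := F)).comp cj = MonoidHom.id _ := sl2_hom_ext (fun t => by simp [cj_up, cj_low]) fun t => by
    simp [cj_up, cj_low]
  exact DFunLike.congr_fun this z

theorem invT_emb2 {i j : Fin n} (h : i ≠ j) (z : SL F) : invT (emb2 i j z) = emb2 i j (cj z) := by
  have : (invT (F := F)).comp (emb2 i j) = (emb2 i j).comp cj := by
    refine sl2_hom_ext (fun t => ?_) fun t => ?_
    · simp only [MonoidHom.comp_apply, cj_up, emb2_up h, emb2_low h, invT_transvection]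
    · simp only [MonoidHom.comp_apply, cj_low, emb2_up h, emb2_low h, invT_transvection]
  exact DFunLike.congr_fun this z

end CfsgLib.OPlusPres
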