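import Cfsg.Agent.Lib.KnownB.OPlusPres.Cols
import Cfsg.Agent.Lib.KnownB.OPlusPres.SL2Pair
import Cfsg.Agent.Lib.Classical.SLBasic

/-!
# Two elements generating two products of smaller special linear groups
-/

set_option autoImplicit false
set_option linter.unusedSectionVars false

open scoped commutatorElement
open Matrix CfsgLib.Perm.Quad.SL2 CfsgLib.SL2Pres CfsgLib.SLPres CfsgLib.Classical CfsgLib.SpPres

namespace CfsgLib.OPlusPres

variable {F : Type*} [Field F] {n : ℕ}

/-- The enumeration of the coordinates which are not exchanged. -/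
def outFun (hn : 4 ≤ n) (a : Fin (n - 2)) : Fin n :=
  if a.val = 0 then ⟨0, by omega⟩ else ⟨a.val + 2, by omega⟩

theorem outFun_injective (hn : 4 ≤ n) : Function.Injective (outFun hn) := by
  intro a b h
  unfold outFun at h
  apply Fin.ext
  split_ifs at h with h1 h2 <;> simp [Fin.ext_iff] at h <;> omega

theorem exists_outFun (hn : 4 ≤ n) {x : Fin n} (h1 : x ≠ ix hn 1) (h2 : x ≠ ix hn 2) :
    ∃ a, outFun hn a = x := by
  have v1 : (ix hn 1).val = 1 := rfl
  have v2 : (ix hn 2).val = 2 := rfl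
  rw [ne_eq, Fin.ext_iff] at h1 h2
  by_cases hx : x.val = 0
  · exact ⟨⟨0, by omega⟩, by rw [outFun, if_pos rfl]; exact Fin.ext hx.symm⟩
  · exact ⟨⟨x.val - 2, by omega⟩, by rw [outFun, if_neg (by simp; omega)]; exact Fin.ext (by simp; omega)⟩

theorem outFun_ne (hn : 4 ≤ n) (a : Fin (n - 2)) : outFun hn a ≠ ix hn 1 ∧ outFun hn a ≠ ix hn 2 := by
  have v1 : (ix hn 1).val = 1 := rfl
  have v2 : (ix hn 2).val = 2 := rfl
  unfold outFun
  split_ifs <;> simp [Fin.ext_iff] <;> omega

theorem slEmbed_tvec {k : ℕ} (f : Fin k → Fin n) (hf : Function.Injective f) {a b : Fin k} (h : a ≠ b) (t : F) :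
    slEmbed f hf (SpecialLinearGroup.transvection h t) = SpecialLinearGroup.transvection (hf.ne h) t := by
  apply Subtype.ext
  rw [slEmbed_coe, SpecialLinearGroup.transvection_coe, SpecialLinearGroup.transvection_coe,
    add_sub_cancel_left, incMat_mul_single_mul]

/-- The product subgroup of the coordinates not exchanged and of the exchanged ones. -/
def fixedGen (hn : 4 ≤ n) : Set (SpecialLinearGroup (Fin n) F) :=
  {g | ∃ a b, ∃ h : a ≠ b, a ≠ ix hn 1 ∧ a ≠ ix hn 2 ∧ b ≠ ix hn 1 ∧ b ≠ ix hn 2 ∧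
      ∃ t, g = SpecialLinearGroup.transvection h t} ∪ Set.range (emb2 (ix hn 1) (ix hn 2))

theorem out_mem (hn : 4 ≤ n) (A : SpecialLinearGroup (Fin (n - 2)) F) :
    slEmbed (outFun hn) (outFun_injective hn) A ∈ Subgroup.closure (fixedGen hn) := by
  have : (Subgroup.closure (fixedGen (F := F) hn)).comap (slEmbed (outFun hn) (outFun_injective hn)) = ⊤ :=
    CfsgLib.Classical.sl_subgroup_eq_top _ fun a b h t => Subgroup.mem_comap.2 (Subgroup.subset_closure
      (Or.inl ⟨_, _, (outFun_injective hn).ne h, (outFun_ne hn a).1, (outFun_ne hn a).2, (outFun_ne hn b).1,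
        (outFun_ne hn b).2, t, slEmbed_tvec _ _ h t⟩))
  exact this.ge (Subgroup.mem_top A)

theorem out_commute (hn : 4 ≤ n) (A : SpecialLinearGroup (Fin (n - 2)) F) (z : SL F) :
    Commute (slEmbed (outFun hn) (outFun_injective hn) A) (emb2 (ix hn 1) (ix hn 2) z) := by
  have h12 := ix_ne hn (show (1 : Fin 4) ≠ 2 by decide)
  have hA : ∀ (a b : Fin (n - 2)) (h : a ≠ b) (t : F),
      Commute (SpecialLinearGroup.transvection ((outFun_injective hn).ne h) t) (emb2 (ix hn 1) (ix hn 2) z) := by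
    intro a b h t
    obtain ⟨a1, a2⟩ := outFun_ne hn a
    obtain ⟨b1, b2⟩ := outFun_ne hn b
    have : (Subgroup.centralizer {SpecialLinearGroup.transvection ((outFun_injective hn).ne h) t}).comap
        (emb2 (F := F) (ix hn 1) (ix hn 2)) = ⊤ := eq_top_of_up_low
      (fun s => Subgroup.mem_comap.2 (Subgroup.mem_centralizer_singleton_iff.2 (by
        rw [emb2_up h12]; exact (transvection_commute h12 _ (Ne.symm b1) (Ne.symm a2) s t).eq)))
      fun s => Subgroup.mem_comap.2 (Subgroup.mem_centralizer_singleton_iff.2 (by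
        rw [emb2_low h12]; exact (transvection_commute h12.symm _ (Ne.symm b2) (Ne.symm a1) s t).eq))
    exact (Subgroup.mem_centralizer_singleton_iff.1 (Subgroup.mem_comap.1 (this.ge (Subgroup.mem_top z)))).symm
  have : (Subgroup.centralizer {emb2 (ix hn 1) (ix hn 2) z}).comap
      (slEmbed (R := F) (outFun hn) (outFun_injective hn)) = ⊤ :=
    CfsgLib.Classical.sl_subgroup_eq_top _ fun a b h t =>
      Subgroup.mem_comap.2 (Subgroup.mem_centralizer_singleton_iff.2 (by rw [slEmbed_tvec]; exact (hA a b h t).eq))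
  exact Subgroup.mem_centralizer_singleton_iff.1 (Subgroup.mem_comap.1 (this.ge (Subgroup.mem_top A)))

variable [Fintype F]

/-- Two elements generating the fixed subgroup of a twisted exchange. -/
theorem fixed_pair (hn : 4 ≤ n) :
    ∃ x y : SpecialLinearGroup (Fin n) F, x ∈ Subgroup.closure (fixedGen hn) ∧ y ∈ Subgroup.closure (fixedGen hn) ∧
      fixedGen hn ⊆ (Subgroup.closure {x, y} : Set (SpecialLinearGroup (Fin n) F)) := by
  obtain ⟨p, _⟩ := CharP.exists F
  have : Fact p.Prime := ⟨CharP.char_is_prime F p⟩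
  obtain ⟨s, b, M, hM, hs, hb, hsb, -, -⟩ := coprime_pair (F := F) p
  let κ := slEmbed (R := F) (outFun hn) (outFun_injective hn)
  let e := emb2 (F := F) (ix hn 1) (ix hn 2)
  have hmem : ∀ A z, κ A * e z ∈ Subgroup.closure (fixedGen hn) := fun A z =>
    mul_mem (out_mem hn A) (Subgroup.subset_closure (Or.inr ⟨z, rfl⟩))
  have finish : ∀ H : Subgroup (SpecialLinearGroup (Fin n) F), (∀ A, κ A ∈ H) → (∀ z, e z ∈ H) →
      fixedGen hn ⊆ (H : Set (SpecialLinearGroup (Fin n) F)) := by
    rintro H hκ he g (⟨a, c, h, a1, a2, c1, c2, t, rfl⟩ | ⟨z, rfl⟩)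
    · obtain ⟨a', rfl⟩ := exists_outFun hn a1 a2
      obtain ⟨c', rfl⟩ := exists_outFun hn c1 c2
      have := hκ (SpecialLinearGroup.transvection (fun e' : a' = c' => h (by rw [e'])) t)
      simp only [κ, slEmbed_tvec] at this
      exact this
    · exact he z
  by_cases hn4 : n = 4
  · subst hn4
    have sb : ∀ (G : Type _) [Group G] (H : Subgroup G) (f : SL F →* G), f s ∈ H → f b ∈ H → ∀ z, f z ∈ H :=
      fun G _ H f h1 h2 z => Subgroup.mem_comap.1 ((Subgroup.closure_le (H.comap f)).2 (by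
        rintro _ (rfl | rfl)
        exacts [h1, h2]) (hsb.ge (Subgroup.mem_top z)))
    refine ⟨κ b * e s, κ s * e b, hmem _ _, hmem _ _, ?_⟩
    set H := Subgroup.closure {κ b * e s, κ s * e b}
    have h1 := mem_of_coprime_mul (out_commute hn b s) (Nat.Coprime.symm hM) (by rw [← map_pow, hb, map_one])
      (by rw [← map_pow, hs, map_one]) (Subgroup.subset_closure (Or.inl rfl) : κ b * e s ∈ H)
    have h2 := mem_of_coprime_mul (out_commute hn s b) hM (by rw [← map_pow, hs, map_one])
      (by rw [← map_pow, hb, map_one]) (Subgroup.subset_closure (Or.inr rfl) : κ s * e b ∈ H)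
    exact finish H (sb _ H κ h2.1 h1.1) (sb _ H e h1.2 h2.2)
  have hk : 3 ≤ n - 2 := by omega
  have : NeZero (n - 2) := ⟨by omega⟩
  obtain ⟨u, v, huv, hu⟩ : ∃ u v : SpecialLinearGroup (Fin (n - 2)) F, Subgroup.closure {u, v} = ⊤ ∧
      IsNilpotent ((u : Matrix (Fin (n - 2)) (Fin (n - 2)) F) - 1) := by
    generalize n - 2 = k at hk
    rcases (show k = 3 ∨ 4 ≤ k by omega) with rfl | h4
    · obtain ⟨u, g, hu, -, hug⟩ := Cfsg.Agent.S2278.result (F := F)
      exact ⟨u, _, hug, hu⟩
    · obtain ⟨⟨u, v, hu, -, huv⟩, -⟩ := Cfsg.Agent.S2279.result (F := F) k h4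
      exact ⟨u, v, huv, hu.1⟩
  obtain ⟨j, hj⟩ := exists_pow_char p hu
  refine ⟨κ u * e s, κ v * e b, hmem _ _, hmem _ _, ?_⟩
  set H := Subgroup.closure {κ u * e s, κ v * e b}
  have hy : κ v * e b ∈ H := Subgroup.subset_closure (Or.inr rfl)
  obtain ⟨hu', hs'⟩ := mem_of_coprime_mul (out_commute hn u s) (M := p ^ j) (N := M)
    ((Nat.Coprime.symm hM).pow_left j) (by rw [← map_pow, hj, map_one]) (by rw [← map_pow, hs, map_one])
    (Subgroup.subset_closure (Or.inl rfl) : κ u * e s ∈ H)
  set N := H.comap κ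
  have hvv : v ∈ Subgroup.normalizer (N : Set (SpecialLinearGroup (Fin (n - 2)) F)) := by
    rw [Subgroup.mem_normalizer_iff]
    intro g
    show κ g ∈ H ↔ κ (v * g * v⁻¹) ∈ H
    have e1 : κ (v * g * v⁻¹) = (κ v * e b) * κ g * (κ v * e b)⁻¹ := by
      rw [show κ v * e b * κ g * (κ v * e b)⁻¹ = κ v * (e b * κ g * (e b)⁻¹) * (κ v)⁻¹ by group,
        (out_commute hn g b).symm.eq, mul_inv_cancel_right, map_mul, map_mul, map_inv]
    rw [e1]
    refine ⟨fun h => mul_mem (mul_mem hy h) (inv_mem hy), fun h => ?_⟩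
    have := mul_mem (mul_mem (inv_mem hy) h) hy
    simpa [mul_assoc] using this
  have hN : N.Normal := by
    rw [← Subgroup.normalizer_eq_top_iff, eq_top_iff, ← huv, Subgroup.closure_le]
    rintro _ (rfl | rfl)
    · exact Subgroup.le_normalizer (show κ _ ∈ H from hu')
    · exact hvv
  have hNtop : N = ⊤ := by
    have hperf := CfsgLib.Classical.sl_perfect (F := F) (n := Fin (n - 2)) (by simp; omega)
    rw [eq_top_iff, ← hperf, commutator_def, Subgroup.commutator_le]
    intro a _ c _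
    let q := QuotientGroup.mk' N
    have hqu : q u = 1 := (QuotientGroup.eq_one_iff u).2 hu'
    have hz : ∀ a, q a ∈ Subgroup.zpowers (q v) := fun a => by
      have : Subgroup.closure {u, v} ≤ (Subgroup.zpowers (q v)).comap q := (Subgroup.closure_le _).2 (by
        intro z hz
        show q z ∈ Subgroup.zpowers (q v)
        rcases hz with hz | hz
        · rw [hz, hqu]; exact one_mem _
        · rw [Set.mem_singleton_iff.1 hz]; exact Subgroup.mem_zpowers _)
      exact this (huv.ge (Subgroup.mem_top a))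
    obtain ⟨i, hi⟩ := Subgroup.mem_zpowers_iff.1 (hz a)
    obtain ⟨l, hl⟩ := Subgroup.mem_zpowers_iff.1 (hz c)
    rw [← QuotientGroup.eq_one_iff]
    show q ⁅a, c⁆ = 1
    rw [map_commutatorElement, commutatorElement_eq_one_iff_commute, ← hi, ← hl]
    exact (Commute.refl _).zpow_zpow i l
  have hK : ∀ A, κ A ∈ H := fun A => hNtop.ge (Subgroup.mem_top A)
  have hbH : e b ∈ H := by simpa using mul_mem (inv_mem (hK v)) hy
  refine finish H hK fun z => Subgroup.mem_comap.1 ((Subgroup.closure_le (H.comap e)).2 (by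
    rintro _ (rfl | rfl)
    exacts [hs', hbH]) (hsb.ge (Subgroup.mem_top z)))

end CfsgLib.OPlusPres
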