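import Cfsg.Agent.Lib.KnownB.OPlusPres.Cols
import Cfsg.Agent.Lib.KnownB.OPlusPres.SL2Pair

/-!
# A group generated by a Levi subgroup and a double exchange: the second radical
-/

set_option autoImplicit false
set_option linter.unusedSectionVars false

open Matrix CfsgLib.Perm.Quad.SL2 CfsgLib.SL2Pres CfsgLib.SLPres CfsgLib.Classical CfsgLib.SpPres CfsgLib.KnownA.StSL
open scoped commutatorElement

namespace CfsgLib.OPlusPres

variable {F : Type*} [Field F] {n : ℕ} {P : Type*} [Group P]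

/-- A coordinate not exchanged. -/
def Out (hn : 4 ≤ n) (a : Fin n) : Prop := a ≠ ix hn 1 ∧ a ≠ ix hn 2

theorem out_zero (hn : 4 ≤ n) : Out hn (ix hn 0) := ⟨ix_ne hn (by decide), ix_ne hn (by decide)⟩

theorem out_three (hn : 4 ≤ n) : Out hn (ix hn 3) := ⟨ix_ne hn (by decide), ix_ne hn (by decide)⟩

/-- The monomial element moving the first pair to the exchanged pair. -/
noncomputable def shiftW (hn : 4 ≤ n) : SpecialLinearGroup (Fin n) F :=
  monSL (show 3 ≤ n by omega) (exists_perm_two hn (ix_ne hn (show (1 : Fin 4) ≠ 2 by decide))).choose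

theorem invT_shiftW (hn : 4 ≤ n) : invT (shiftW (F := F) hn) = shiftW hn := monSL_invT _ _

theorem cj_jSL : cj (jSL : SL F) = jSL := mul_inv_cancel_right _ _

/-- The hypotheses on a Levi homomorphism and a double exchange. -/
structure ORel (hn : 4 ≤ n) (φ : SpecialLinearGroup (Fin n) F →* P) (d : P) : Prop where
  dd : d * d = 1
  cK : ∀ a b, a ≠ b → Out hn a → Out hn b → ∀ t, Commute d (yTr φ a b t)
  flip : ∀ z, d * φ (emb2 (ix hn 1) (ix hn 2) z) * d = φ (emb2 (ix hn 1) (ix hn 2) (cj z))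
  par : φ (emb2 (ix hn 1) (ix hn 2) jSL) * d =
    φ (shiftW hn) * (d * φ (emb2 (ix hn 0) (ix hn 1) jSL) * d) * (φ (shiftW hn))⁻¹
  aA : ∀ z z', Commute (d * φ (emb2 (ix hn 0) (ix hn 1) z) * d) (φ (emb2 (ix hn 0) (ix hn 1) z'))
  aL : ∀ z a b, a ≠ b → 2 ≤ a.val → 2 ≤ b.val → ∀ t,
    Commute (d * φ (emb2 (ix hn 0) (ix hn 1) z) * d) (yTr φ a b t)

/-- The root element exchanged with the first one. -/
def pBase (hn : 4 ≤ n) (φ : SpecialLinearGroup (Fin n) F →* P) (d : P) (t : F) : P :=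
  d * yTr φ (ix hn 0) (ix hn 1) t * d

open Classical in
/-- The root elements of the second radical. -/
noncomputable def pRad (hn : 4 ≤ n) (φ : SpecialLinearGroup (Fin n) F →* P) (d : P) (i j : Fin n) (t : F) : P :=
  if h : i ≠ j then
    φ (monSL (show 3 ≤ n by omega) (exists_perm_two hn h).choose) * pBase hn φ d t *
      (φ (monSL (show 3 ≤ n by omega) (exists_perm_two hn h).choose))⁻¹
  else 1

theorem monSgn_ix (hn : 4 ≤ n) (σ : Equiv.Perm (Fin n)) {k : Fin 4} (hk : k ≠ 2) :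
    (monSgn σ (ix hn k) : F) = 1 := by
  rw [monSgn, if_neg]
  intro e
  exact hk (Fin.ext e)

theorem cj_dSL {c : F} (hc : c ≠ 0) : cj (dSL hc) = (dSL hc)⁻¹ := dSL_conj_jSL hc

theorem dSL_inv {c : F} (hc : c ≠ 0) : (dSL hc)⁻¹ = dSL (inv_ne_zero hc) := by
  apply ext2 <;> simp [dSL_inv_val, dSL_coe]

theorem shiftW_conj_emb2 (hn : 4 ≤ n) (z : SL F) :
    shiftW hn * emb2 (ix hn 0) (ix hn 1) z * (shiftW hn)⁻¹ = emb2 (ix hn 1) (ix hn 2) z := by
  have h01 := ix_ne hn (show (0 : Fin 4) ≠ 1 by decide)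
  have h12 := ix_ne hn (show (1 : Fin 4) ≠ 2 by decide)
  obtain ⟨hσ0, hσ1⟩ := (exists_perm_two hn h12).choose_spec
  have : (MulAut.conj (shiftW (F := F) hn)).toMonoidHom.comp (emb2 (ix hn 0) (ix hn 1)) =
      emb2 (ix hn 1) (ix hn 2) := by
    refine sl2_hom_ext (fun t => ?_) fun t => ?_
    · show shiftW hn * emb2 _ _ (up t) * (shiftW hn)⁻¹ = _
      rw [emb2_up h01, emb2_up h12, shiftW, monSL_conj_transvection]
      apply Subtype.ext
      show Matrix.transvection _ _ _ = Matrix.transvection _ _ _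
      rw [hσ0, hσ1, monSgn_ix hn _ (by decide), monSgn_ix hn _ (by decide), one_mul, one_mul]
    · show shiftW hn * emb2 _ _ (low t) * (shiftW hn)⁻¹ = _
      rw [emb2_low h01, emb2_low h12, shiftW, monSL_conj_transvection]
      apply Subtype.ext
      show Matrix.transvection _ _ _ = Matrix.transvection _ _ _
      rw [hσ0, hσ1, monSgn_ix hn _ (by decide), monSgn_ix hn _ (by decide), one_mul, one_mul]
  exact DFunLike.congr_fun this z

variable {hn : 4 ≤ n} {φ : SpecialLinearGroup (Fin n) F →* P} {d : P} (R : ORel hn φ d)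
include R

theorem ORel.conj_d (x : P) : d * x * d = MulAut.conj d x := by
  rw [MulAut.conj_apply, inv_eq_of_mul_eq_one_right R.dd]

theorem ORel.d_cancel (x : P) : d * (d * x * d) * d = x := by
  calc _ = (d * d) * x * (d * d) := by group
    _ = x := by rw [R.dd, one_mul, mul_one]

theorem ORel.twist : ORel hn (φ.comp invT) d where
  dd := R.dd
  cK a b h ha hb t := by rw [yTr_invT]; exact R.cK b a h.symm hb ha _
  flip z := by
    simp only [MonoidHom.comp_apply, invT_emb2 (ix_ne hn (show (1 : Fin 4) ≠ 2 by decide))]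
    exact R.flip (cj z)
  par := by
    simp only [MonoidHom.comp_apply, invT_shiftW, invT_emb2 (ix_ne hn (show (0 : Fin 4) ≠ 1 by decide)),
      invT_emb2 (ix_ne hn (show (1 : Fin 4) ≠ 2 by decide)), cj_jSL]
    exact R.par
  aA z z' := by
    simp only [MonoidHom.comp_apply, invT_emb2 (ix_ne hn (show (0 : Fin 4) ≠ 1 by decide))]
    exact R.aA _ _
  aL z a b h ha hb t := by
    simp only [MonoidHom.comp_apply, invT_emb2 (ix_ne hn (show (0 : Fin 4) ≠ 1 by decide)), yTr_invT]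
    exact R.aL _ b a h.symm hb ha _

theorem ORel.base_add (t u : F) : pBase hn φ d (t + u) = pBase hn φ d t * pBase hn φ d u := by
  simp only [pBase, R.conj_d, ← map_mul]
  rw [← (yTr_preSt φ).add _ _ t u (ix_ne hn (show (0 : Fin 4) ≠ 1 by decide))]

theorem ORel.base_A01 (z : SL F) (t : F) :
    Commute (φ (emb2 (ix hn 0) (ix hn 1) z)) (pBase hn φ d t) := by
  have h := R.aA (up t) z
  rw [emb2_up (ix_ne hn (show (0 : Fin 4) ≠ 1 by decide)), ← yTr_eq φ] at h
  exact h.symm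

theorem ORel.base_fix {A : SpecialLinearGroup (Fin n) F} (hA : Cols hn A.1 (ix hn 0) (ix hn 1) 1 1) (t : F) :
    Commute (φ A) (pBase hn φ d t) := by
  have h01 := ix_ne hn (show (0 : Fin 4) ≠ 1 by decide)
  have h12 := ix_ne hn (show (1 : Fin 4) ≠ 2 by decide)
  have hge : ∀ a b, a ≠ b → 2 ≤ a.val → 2 ≤ b.val → ∀ s, Commute (yTr φ a b s) (pBase hn φ d t) := by
    intro a b h ha hb s
    have h' := R.aL (up t) a b h ha hb s
    rw [emb2_up h01, ← yTr_eq φ] at h'
    exact h'.symm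
  have h12' : ∀ s, Commute (yTr φ (ix hn 1) (ix hn 2) s) (pBase hn φ d t) := by
    intro s
    have h := R.flip (low (-s))
    rw [cj_low, neg_neg, emb2_low h12, emb2_up h12, ← yTr_eq φ, ← yTr_eq φ] at h
    rw [← h, pBase, R.conj_d, R.conj_d]
    exact ((yTr_preSt φ).comm _ _ _ _ _ _ h12.symm h01 h12.symm h01.symm).map _
  have h1b : ∀ b : Fin n, 2 ≤ b.val → ∀ s, Commute (yTr φ (ix hn 1) b s) (pBase hn φ d t) := by
    intro b hb s
    by_cases hb2 : b = ix hn 2
    · subst hb2; exact h12' s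
    have hne : ix hn 1 ≠ b := fun e => by subst e; simp [ix] at hb
    have e := (yTr_preSt φ).mix (ix hn 1) (ix hn 2) b s 1 h12 (Ne.symm hb2) hne
    rw [mul_one] at e
    rw [← e]
    have c1 := h12' s
    have c2 := hge (ix hn 2) b (Ne.symm hb2) (le_refl _) hb 1
    exact ((c1.mul_left c2).mul_left c1.inv_left).mul_left c2.inv_left
  have h0b : ∀ b : Fin n, 2 ≤ b.val → ∀ s, Commute (yTr φ (ix hn 0) b s) (pBase hn φ d t) := by
    intro b hb s
    have hne : ix hn 1 ≠ b := fun e => by subst e; simp [ix] at hb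
    have hne0 : ix hn 0 ≠ b := fun e => by subst e; simp [ix] at hb
    have e := conj_transvection_jSL (F := F) h01 hne s
    simp only [Equiv.swap_apply_right, Equiv.swap_apply_of_ne_of_ne hne0.symm hne.symm, wSgn, if_neg h01.symm,
      if_neg hne0.symm, one_mul] at e
    rw [yTr_eq φ hne0, ← e, map_mul, map_mul, map_inv, ← yTr_eq φ]
    exact ((R.base_A01 jSL t).mul_left (h1b b hb s)).mul_left (R.base_A01 jSL t).inv_left
  have hmem := mem_fix2 hn hA
  clear hA
  induction hmem using Subgroup.closure_induction with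
  | mem g hg =>
    obtain ⟨a, b, hab, s, hb, rfl⟩ := hg
    rw [← yTr_eq φ hab]
    rcases (show a.val = 0 ∨ a.val = 1 ∨ 2 ≤ a.val by omega) with ha | ha | ha
    · obtain rfl : a = ix hn 0 := Fin.ext ha
      exact h0b b hb s
    · obtain rfl : a = ix hn 1 := Fin.ext ha
      exact h1b b hb s
    · exact hge a b hab ha hb s
  | one => rw [map_one]; exact Commute.one_left _
  | mul x y _ _ hx hy => rw [map_mul]; exact hx.mul_left hy
  | inv x _ hx => rw [map_inv]; exact hx.inv_left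

theorem ORel.base_scale {x : F} (hx : x ≠ 0) (t : F) :
    φ (emb2 (ix hn 1) (ix hn 2) (dSL hx)) * pBase hn φ d t * (φ (emb2 (ix hn 1) (ix hn 2) (dSL hx)))⁻¹ =
      pBase hn φ d (x * t) := by
  have h01 := ix_ne hn (show (0 : Fin 4) ≠ 1 by decide)
  have h12 := ix_ne hn (show (1 : Fin 4) ≠ 2 by decide)
  have h02 := ix_ne hn (show (0 : Fin 4) ≠ 2 by decide)
  set g := φ (emb2 (ix hn 1) (ix hn 2) (dSL hx))
  have hg : d * g * d = g⁻¹ := by rw [R.flip, cj_dSL, map_inv, map_inv]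
  have hg' : g⁻¹ = φ (emb2 (ix hn 1) (ix hn 2) (dSL (inv_ne_zero hx))) := by
    show (φ _)⁻¹ = _
    rw [← map_inv, ← map_inv, dSL_inv]
  have e : g⁻¹ * yTr φ (ix hn 0) (ix hn 1) t * g⁻¹⁻¹ = yTr φ (ix hn 0) (ix hn 1) (x * t) := by
    rw [yTr_eq φ h01, yTr_eq φ h01, hg', ← map_inv, ← map_mul, ← map_mul, emb2_dSL h12,
      diag2n_scale h12 (inv_ne_zero hx) h01]
    simp [h01, h02]
  have hd : MulAut.conj d g = g⁻¹ := by rw [← R.conj_d, hg]
  rw [pBase, pBase, ← e, R.conj_d, R.conj_d, map_mul, map_mul]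
  simp only [map_inv, hd, inv_inv]

theorem ORel.p_move {A : SpecialLinearGroup (Fin n) F} {i j : Fin n} {c c' : F}
    (h0 : Col A.1 (ix hn 0) i c) (h1 : Col A.1 (ix hn 1) j c') (h : i ≠ j) (hc : c ≠ 0) (hc' : c' ≠ 0) (t : F) :
    φ A * pBase hn φ d t * (φ A)⁻¹ = pRad hn φ d i j (c * c' * t) := by
  have h01 := ix_ne hn (show (0 : Fin 4) ≠ 1 by decide)
  have h12 := ix_ne hn (show (1 : Fin 4) ≠ 2 by decide)
  have h02 := ix_ne hn (show (0 : Fin 4) ≠ 2 by decide)
  have hm : 3 ≤ n := by omega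
  rw [pRad, dif_pos h]
  obtain ⟨hσ0, hσ1⟩ := (exists_perm_two hn h).choose_spec
  set σ := (exists_perm_two hn h).choose
  set W := monSL (F := F) hm σ
  set hx : c * c' ≠ 0 := mul_ne_zero hc hc'
  set D := (emb2 (ix hn 1) (ix hn 2) (dSL (inv_ne_zero hx)) : SpecialLinearGroup (Fin n) F) *
    emb2 (ix hn 0) (ix hn 1) (dSL (inv_ne_zero hc))
  have hW : ∀ a, a = ix hn 0 ∨ a = ix hn 1 → Col (W⁻¹).1 (σ a) a 1 := fun a ha x => by
    have hs : (monSgn σ a : F) = 1 := by rcases ha with rfl | rfl <;> exact monSgn_ix hn σ (by decide)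
    rw [monSL_inv, Matrix.transpose_apply]
    show (if σ a = σ x then monSgn σ x else 0) = _
    by_cases hxa : x = a
    · subst hxa; rw [if_pos rfl, if_pos rfl, hs]
    · rw [if_neg (σ.injective.ne (Ne.symm hxa)), if_neg hxa]
  set B := D * (W⁻¹ * A) with hB
  have hD : ∀ a, Col D.1 a a ((if a = ix hn 0 then c⁻¹ else if a = ix hn 1 then c else 1) *
      (if a = ix hn 1 then (c * c')⁻¹ else if a = ix hn 2 then c * c' else 1)) := fun a => by
    have := (col_dSL h01 (inv_ne_zero hc) a).mul (col_dSL h12 (inv_ne_zero hx) a)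
    rw [inv_inv, inv_inv] at this
    exact this
  have hfix : Cols hn B.1 (ix hn 0) (ix hn 1) 1 1 := by
    refine ⟨?_, ?_⟩
    · have hW0 := hW _ (Or.inl rfl)
      rw [hσ0] at hW0
      have := (h0.mul hW0).mul (hD _)
      simp only [if_pos, if_neg h01, if_neg h02, mul_one, mul_inv_cancel₀ hc] at this
      exact this
    · have hW1 := hW _ (Or.inr rfl)
      rw [hσ1] at hW1
      have := (h1.mul hW1).mul (hD _)
      simp only [if_pos, if_neg h01.symm, mul_one] at this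
      rwa [show c' * (c * (c * c')⁻¹) = (1 : F) by field_simp] at this
  have eA : A = W * ((emb2 (ix hn 0) (ix hn 1) (dSL hc)) * (emb2 (ix hn 1) (ix hn 2) (dSL hx)) * B) := by
    rw [hB, show D = (emb2 (ix hn 1) (ix hn 2) (dSL hx))⁻¹ * (emb2 (ix hn 0) (ix hn 1) (dSL hc))⁻¹ by
      rw [← map_inv (emb2 (ix hn 1) (ix hn 2)), ← map_inv (emb2 (ix hn 0) (ix hn 1)), dSL_inv hx, dSL_inv hc]]
    group
  have hq : φ B * pBase hn φ d t * (φ B)⁻¹ = pBase hn φ d t := mul_inv_eq_iff_eq_mul.2 (R.base_fix hfix t).eq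
  have hq' := mul_inv_eq_iff_eq_mul.2 (R.base_A01 (dSL hc) (c * c' * t)).eq
  have hq'' := R.base_scale hx t
  rw [eA, map_mul, map_mul, map_mul]
  calc _ = φ W * (φ (emb2 (ix hn 0) (ix hn 1) (dSL hc)) * (φ (emb2 (ix hn 1) (ix hn 2) (dSL hx)) *
        (φ B * pBase hn φ d t * (φ B)⁻¹) * (φ (emb2 (ix hn 1) (ix hn 2) (dSL hx)))⁻¹) *
        (φ (emb2 (ix hn 0) (ix hn 1) (dSL hc)))⁻¹) * (φ W)⁻¹ := by group
    _ = _ := by rw [hq, hq'', hq']

theorem ORel.p_base (t : F) : pRad hn φ d (ix hn 0) (ix hn 1) t = pBase hn φ d t := by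
  have := R.p_move (A := 1) (col_one _) (col_one _) (ix_ne hn (show (0 : Fin 4) ≠ 1 by decide)) one_ne_zero
    one_ne_zero t
  rw [one_mul, one_mul, map_one, one_mul, inv_one, mul_one] at this
  exact this.symm

theorem ORel.p_add {i j : Fin n} (h : i ≠ j) (t u : F) :
    pRad hn φ d i j (t + u) = pRad hn φ d i j t * pRad hn φ d i j u := by
  simp only [pRad, dif_pos h, R.base_add]
  group

theorem ORel.p_zero {i j : Fin n} (h : i ≠ j) : pRad hn φ d i j 0 = 1 := by
  have := R.p_add h 0 0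
  rwa [add_zero, left_eq_mul] at this

theorem ORel.p_inv {i j : Fin n} (h : i ≠ j) (t : F) : (pRad hn φ d i j t)⁻¹ = pRad hn φ d i j (-t) :=
  inv_eq_of_mul_eq_one_right (by rw [← R.p_add h, add_neg_cancel, R.p_zero h])

/-- Monomial moves. -/
theorem ORel.p_conj {A : SpecialLinearGroup (Fin n) F} {i j i' j' : Fin n} {c c' : F} (h : i ≠ j) (h' : i' ≠ j')
    (hi : Col A.1 i i' c) (hj : Col A.1 j j' c') (hc : c ≠ 0) (hc' : c' ≠ 0) (t : F) :
    φ A * pRad hn φ d i j t * (φ A)⁻¹ = pRad hn φ d i' j' (c * c' * t) := by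
  have hm : 3 ≤ n := by omega
  obtain ⟨hσ0, hσ1⟩ := (exists_perm_two hn h).choose_spec
  set σ := (exists_perm_two hn h).choose with hσ
  have e : φ A * pRad hn φ d i j t * (φ A)⁻¹ =
      φ (A * monSL hm σ) * pBase hn φ d t * (φ (A * monSL hm σ))⁻¹ := by
    rw [pRad, dif_pos h, ← hσ, map_mul]; group
  have c0 : Col (monSL (F := F) hm σ).1 (ix hn 0) i 1 := by
    have := col_monSL (F := F) hn σ (ix hn 0)
    rwa [hσ0, monSgn_ix hn σ (by decide)] at this
  have c1 : Col (monSL (F := F) hm σ).1 (ix hn 1) j 1 := by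
    have := col_monSL (F := F) hn σ (ix hn 1)
    rwa [hσ1, monSgn_ix hn σ (by decide)] at this
  rw [e, R.p_move (c0.mul hi) (c1.mul hj) h' (by simpa using hc) (by simpa using hc'), one_mul, one_mul]

theorem ORel.p_anti {i j : Fin n} (h : i ≠ j) (t : F) : pRad hn φ d j i t = pRad hn φ d i j (-t) := by
  have h01 := ix_ne hn (show (0 : Fin 4) ≠ 1 by decide)
  have hm : 3 ≤ n := by omega
  obtain ⟨hσ0, hσ1⟩ := (exists_perm_two hn h).choose_spec
  set σ := (exists_perm_two hn h).choose with hσ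
  have c0 : Col (monSL (F := F) hm σ).1 (ix hn 0) i 1 := by
    have := col_monSL (F := F) hn σ (ix hn 0)
    rwa [hσ0, monSgn_ix hn σ (by decide)] at this
  have c1 : Col (monSL (F := F) hm σ).1 (ix hn 1) j 1 := by
    have := col_monSL (F := F) hn σ (ix hn 1)
    rwa [hσ1, monSgn_ix hn σ (by decide)] at this
  have j0 := (col_jSL (F := F) h01 (ix hn 0))
  have j1 := (col_jSL (F := F) h01 (ix hn 1))
  rw [Equiv.swap_apply_left, wSgn, if_pos rfl] at j0
  rw [Equiv.swap_apply_right, wSgn, if_neg h01.symm] at j1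
  have := R.p_move (A := monSL hm σ * emb2 (ix hn 0) (ix hn 1) jSL) (j0.mul c1) (j1.mul c0) h.symm
    (by simp) (by simp) (-t)
  rw [show (-1 : F) * 1 * (1 * 1) * -t = t by ring, map_mul] at this
  rw [← this, pRad, dif_pos h, ← hσ]
  have hq := mul_inv_eq_iff_eq_mul.2 (R.base_A01 jSL (-t)).eq
  calc φ (monSL hm σ) * φ (emb2 (ix hn 0) (ix hn 1) jSL) * pBase hn φ d (-t) *
      (φ (monSL hm σ) * φ (emb2 (ix hn 0) (ix hn 1) jSL))⁻¹ = φ (monSL hm σ) *
      (φ (emb2 (ix hn 0) (ix hn 1) jSL) * pBase hn φ d (-t) * (φ (emb2 (ix hn 0) (ix hn 1) jSL))⁻¹) *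
      (φ (monSL hm σ))⁻¹ := by group
    _ = _ := by rw [hq]

theorem ORel.p_T_away {i j a b : Fin n} (h : i ≠ j) (hab : a ≠ b) (hi : i ≠ b) (hj : j ≠ b) (s t : F) :
    Commute (yTr φ a b s) (pRad hn φ d i j t) := by
  have := R.p_conj (A := SpecialLinearGroup.transvection hab s) h h (col_transvection hi hab s)
    (col_transvection hj hab s) one_ne_zero one_ne_zero t
  rw [one_mul, one_mul, ← yTr_eq φ hab] at this
  exact mul_inv_eq_iff_eq_mul.1 this

theorem ORel.p_T_self {i j : Fin n} (h : i ≠ j) (s t : F) : Commute (yTr φ i j s) (pRad hn φ d i j t) := by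
  have h01 := ix_ne hn (show (0 : Fin 4) ≠ 1 by decide)
  have hm : 3 ≤ n := by omega
  obtain ⟨hσ0, hσ1⟩ := (exists_perm_two hn h).choose_spec
  set σ := (exists_perm_two hn h).choose with hσ
  have hq := (R.base_A01 (up s) t).map (MulAut.conj (φ (monSL hm σ)))
  rw [emb2_up h01] at hq
  simp only [MulAut.conj_apply, ← map_inv, ← map_mul] at hq
  rw [monSL_conj_transvection] at hq
  rw [pRad, dif_pos h, ← hσ, ← map_inv]
  convert hq using 1
  · rw [yTr_eq φ h]
    congr 1
    apply Subtype.ext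
    show Matrix.transvection _ _ _ = Matrix.transvection _ _ _
    rw [hσ0, hσ1, monSgn_ix hn σ (by decide), monSgn_ix hn σ (by decide), one_mul, one_mul]

/-- The exchange on the columns it moves. -/
theorem ORel.d_T_in {i b : Fin n} (hi : Out hn i) (hb : b = ix hn 1 ∨ b = ix hn 2) (t : F) :
    d * yTr φ i b t * d = pRad hn φ d i b t := by
  have h01 := ix_ne hn (show (0 : Fin 4) ≠ 1 by decide)
  have h12 := ix_ne hn (show (1 : Fin 4) ≠ 2 by decide)
  have key : ∀ i, Out hn i → ∀ t, d * yTr φ i (ix hn 1) t * d = pRad hn φ d i (ix hn 1) t := by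
    intro i hi t
    by_cases h0 : i = ix hn 0
    · subst h0; rw [R.p_base]; rfl
    have hK : Commute d (φ (emb2 (ix hn 0) i jSL)) := by
      rw [emb2_jSL (Ne.symm h0), map_mul, map_mul, ← yTr_eq φ, ← yTr_eq φ]
      exact ((R.cK _ _ (Ne.symm h0) (out_zero hn) hi _).mul_right (R.cK _ _ h0 hi (out_zero hn) _)).mul_right
        (R.cK _ _ (Ne.symm h0) (out_zero hn) hi _)
    have e := conj_transvection_jSL (F := F) (Ne.symm h0) h01 (-t)
    simp only [Equiv.swap_apply_left, Equiv.swap_apply_of_ne_of_ne h01.symm hi.1.symm, wSgn, if_pos,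
      if_neg h01.symm, neg_one_mul, mul_one, neg_neg] at e
    have c0 := col_jSL (F := F) (Ne.symm h0) (ix hn 0)
    have c1 := col_jSL (F := F) (Ne.symm h0) (ix hn 1)
    rw [Equiv.swap_apply_left, wSgn, if_pos rfl] at c0
    rw [Equiv.swap_apply_of_ne_of_ne h01.symm hi.1.symm, wSgn, if_neg h01.symm] at c1
    have hp := R.p_conj h01 hi.1 c0 c1 (by simp) one_ne_zero (-t)
    rw [show (-1 : F) * 1 * -t = t by ring, R.p_base, pBase] at hp
    rw [yTr_eq φ hi.1, ← hp, ← e, map_mul, map_mul, map_inv, ← yTr_eq φ]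
    rw [R.conj_d, R.conj_d, map_mul, map_mul, map_inv, MulAut.conj_apply d (φ _), hK.eq, mul_inv_cancel_right]
  rcases hb with rfl | rfl
  · exact key i hi t
  have hJ : Commute d (φ (emb2 (ix hn 1) (ix hn 2) jSL)) := by
    have h := R.flip jSL
    rw [cj_jSL, R.conj_d, MulAut.conj_apply,
      mul_inv_eq_iff_eq_mul] at h
    exact h
  have e := conj_transvection_jSL (F := F) h12 hi.1 (-t)
  simp only [Equiv.swap_apply_left, Equiv.swap_apply_of_ne_of_ne hi.1 hi.2, wSgn, if_pos,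
    if_neg hi.1, one_mul, neg_one_mul, neg_neg] at e
  have c0 := col_jSL (F := F) h12 i
  have c1 := col_jSL (F := F) h12 (ix hn 1)
  rw [Equiv.swap_apply_of_ne_of_ne hi.1 hi.2, wSgn, if_neg hi.1] at c0
  rw [Equiv.swap_apply_left, wSgn, if_pos rfl] at c1
  have hp := R.p_conj hi.1 hi.2 c0 c1 one_ne_zero (by simp) (-t)
  rw [show (1 : F) * -1 * -t = t by ring, ← key i hi] at hp
  rw [yTr_eq φ hi.2, ← hp, ← e, map_mul, map_mul, map_inv, ← yTr_eq φ]
  rw [R.conj_d, R.conj_d, map_mul, map_mul, map_inv, MulAut.conj_apply d (φ _), hJ.eq, mul_inv_cancel_right]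

/-- The commutator formula. -/
theorem ORel.formula {a b c : Fin n} (hab : a ≠ b) (hbc : b ≠ c) (hac : a ≠ c) (s u : F) :
    ⁅yTr φ a b s, pRad hn φ d b c u⁆ = pRad hn φ d a c (s * u) := by
  have h03 := ix_ne hn (show (0 : Fin 4) ≠ 3 by decide)
  have h31 := ix_ne hn (show (3 : Fin 4) ≠ 1 by decide)
  have h01 := ix_ne hn (show (0 : Fin 4) ≠ 1 by decide)
  have hm : 3 ≤ n := by omega
  have base : ⁅yTr φ (ix hn 0) (ix hn 3) s, pRad hn φ d (ix hn 3) (ix hn 1) u⁆ =
      pRad hn φ d (ix hn 0) (ix hn 1) (s * u) := by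
    rw [← R.d_T_in (out_three hn) (Or.inl rfl) u, R.p_base, pBase,
      ← (yTr_preSt φ).mix _ _ _ s u h03 h31 h01, R.conj_d, R.conj_d, map_commutatorElement,
      MulAut.conj_apply d (yTr φ (ix hn 0) (ix hn 3) s), (R.cK _ _ h03 (out_zero hn) (out_three hn) s).eq,
      mul_inv_cancel_right]
  obtain ⟨σ, hσ⟩ := exists_perm_ix hn ![0, 3, 1] (by decide) ![a, b, c] (by
    intro p q e; fin_cases p <;> fin_cases q <;> simp [hab, hbc, hac, hab.symm, hbc.symm, hac.symm] at e ⊢)
  have s0 : σ (ix hn 0) = a := hσ 0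
  have s3 : σ (ix hn 3) = b := hσ 1
  have s1 : σ (ix hn 1) = c := hσ 2
  have cc : ∀ k : Fin 4, k ≠ 2 → Col (monSL (F := F) hm σ).1 (ix hn k) (σ (ix hn k)) 1 := fun k hk => by
    have := col_monSL (F := F) hn σ (ix hn k)
    rwa [monSgn_ix hn σ hk] at this
  have c0 := cc 0 (by decide)
  have c3 := cc 3 (by decide)
  have c1 := cc 1 (by decide)
  rw [s0] at c0; rw [s3] at c3; rw [s1] at c1
  have := congrArg (MulAut.conj (φ (monSL hm σ))) base
  rw [map_commutatorElement, MulAut.conj_apply, MulAut.conj_apply, MulAut.conj_apply,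
    R.p_conj h31 hbc c3 c1 one_ne_zero one_ne_zero, R.p_conj h01 hac c0 c1 one_ne_zero one_ne_zero,
    one_mul, one_mul, one_mul] at this
  rw [← this]
  congr 1
  rw [yTr_eq φ h03, yTr_eq φ hab, ← map_inv, ← map_mul, ← map_mul, monSL_conj_transvection]
  congr 1
  apply Subtype.ext
  show Matrix.transvection _ _ _ = Matrix.transvection _ _ _
  rw [s0, s3, monSgn_ix hn σ (by decide), monSgn_ix hn σ (by decide), one_mul, one_mul]

theorem ORel.conj_formula {a b c : Fin n} (hab : a ≠ b) (hbc : b ≠ c) (hac : a ≠ c) (s u : F) :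
    yTr φ a b s * pRad hn φ d b c u * (yTr φ a b s)⁻¹ =
      pRad hn φ d a c (s * u) * pRad hn φ d b c u := by
  have := R.formula hab hbc hac s u
  rw [commutatorElement_def, mul_inv_eq_iff_eq_mul] at this
  exact this

theorem ORel.d_p_in {i b : Fin n} (hi : Out hn i) (hb : b = ix hn 1 ∨ b = ix hn 2) (t : F) :
    d * pRad hn φ d i b t * d = yTr φ i b t := by
  rw [← R.d_T_in hi hb, R.d_cancel]

/-- The exchange fixes the root elements away from it. -/
theorem ORel.d_p_out {i j : Fin n} (h : i ≠ j) (hi : Out hn i) (hj : Out hn j) (t : F) :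
    d * pRad hn φ d i j t * d = pRad hn φ d i j t := by
  have e := R.formula hi.1 hj.1.symm h t 1
  rw [mul_one] at e
  conv_lhs => rw [← e, R.p_anti hj.1 1, R.conj_d, map_commutatorElement, ← R.conj_d, ← R.conj_d,
    R.d_T_in hi (Or.inl rfl), R.d_p_in hj (Or.inl rfl), ← commutatorElement_inv, R.p_anti hi.1.symm t,
    R.formula hj.1 hi.1.symm h.symm (-1) (-t), R.p_inv h.symm, R.p_anti h]
  congr 1
  ring

theorem ORel.pp_base : ∀ t s, Commute (pRad hn φ d (ix hn 0) (ix hn 1) t) (pRad hn φ d (ix hn 0) (ix hn 2) s) ∧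
    Commute (pRad hn φ d (ix hn 0) (ix hn 1) t) (pRad hn φ d (ix hn 3) (ix hn 2) s) := by
  intro t s
  rw [← R.d_T_in (out_zero hn) (Or.inl rfl), ← R.d_T_in (out_zero hn) (Or.inr rfl),
    ← R.d_T_in (out_three hn) (Or.inr rfl), R.conj_d, R.conj_d, R.conj_d]
  exact ⟨((yTr_preSt φ).comm _ _ _ _ _ _ (ix_ne hn (by decide)) (ix_ne hn (by decide)) (ix_ne hn (by decide))
      (ix_ne hn (by decide))).map _,
    ((yTr_preSt φ).comm _ _ _ _ _ _ (ix_ne hn (by decide)) (ix_ne hn (by decide)) (ix_ne hn (by decide))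
      (ix_ne hn (by decide))).map _⟩

theorem ORel.p_comm_adj {i j l : Fin n} (hij : i ≠ j) (hil : i ≠ l) (hjl : j ≠ l) (t s : F) :
    Commute (pRad hn φ d i j t) (pRad hn φ d i l s) := by
  have hm : 3 ≤ n := by omega
  obtain ⟨σ, hσ⟩ := exists_perm_ix hn ![0, 1, 2] (by decide) ![i, j, l] (by
    intro p q e; fin_cases p <;> fin_cases q <;> simp [hij, hil, hjl, hij.symm, hil.symm, hjl.symm] at e ⊢)
  have c0 := col_monSL (F := F) hn σ (ix hn 0)
  have c1 := col_monSL (F := F) hn σ (ix hn 1)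
  have c2 := col_monSL (F := F) hn σ (ix hn 2)
  rw [show σ (ix hn 0) = i from hσ 0, monSgn_ix hn σ (by decide)] at c0
  rw [show σ (ix hn 1) = j from hσ 1, monSgn_ix hn σ (by decide)] at c1
  rw [show σ (ix hn 2) = l from hσ 2] at c2
  have hsq := monSgn_sq (F := F) σ (ix hn 2)
  set e := (monSgn σ (ix hn 2) : F)
  have := ((R.pp_base t (e * s)).1).map (MulAut.conj (φ (monSL hm σ)))
  rwa [MulAut.conj_apply, MulAut.conj_apply,
    R.p_conj (ix_ne hn (by decide)) hij c0 c1 one_ne_zero one_ne_zero,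
    R.p_conj (ix_ne hn (by decide)) hil c0 c2 one_ne_zero (left_ne_zero_of_mul_eq_one hsq),
    one_mul, one_mul, one_mul, ← mul_assoc, hsq, one_mul] at this

theorem ORel.p_comm_disj {i j k l : Fin n} (hij : i ≠ j) (hkl : k ≠ l) (hik : i ≠ k) (hil : i ≠ l) (hjk : j ≠ k)
    (hjl : j ≠ l) (t s : F) : Commute (pRad hn φ d i j t) (pRad hn φ d k l s) := by
  have hm : 3 ≤ n := by omega
  obtain ⟨σ, hσ⟩ := exists_perm_ix hn ![0, 1, 3, 2] (by decide) ![i, j, k, l] (by
    intro p q e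
    fin_cases p <;> fin_cases q <;>
      simp [hij, hkl, hik, hil, hjk, hjl, hij.symm, hkl.symm, hik.symm, hil.symm, hjk.symm, hjl.symm] at e ⊢)
  have c0 := col_monSL (F := F) hn σ (ix hn 0)
  have c1 := col_monSL (F := F) hn σ (ix hn 1)
  have c3 := col_monSL (F := F) hn σ (ix hn 3)
  have c2 := col_monSL (F := F) hn σ (ix hn 2)
  rw [show σ (ix hn 0) = i from hσ 0, monSgn_ix hn σ (by decide)] at c0
  rw [show σ (ix hn 1) = j from hσ 1, monSgn_ix hn σ (by decide)] at c1
  rw [show σ (ix hn 3) = k from hσ 2, monSgn_ix hn σ (by decide)] at c3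
  rw [show σ (ix hn 2) = l from hσ 3] at c2
  have hsq := monSgn_sq (F := F) σ (ix hn 2)
  set e := (monSgn σ (ix hn 2) : F)
  have := ((R.pp_base t (e * s)).2).map (MulAut.conj (φ (monSL hm σ)))
  rwa [MulAut.conj_apply, MulAut.conj_apply,
    R.p_conj (ix_ne hn (by decide)) hij c0 c1 one_ne_zero one_ne_zero,
    R.p_conj (ix_ne hn (by decide)) hkl c3 c2 one_ne_zero (left_ne_zero_of_mul_eq_one hsq),
    one_mul, one_mul, one_mul, ← mul_assoc, hsq, one_mul] at this

theorem ORel.p_comm {i j k l : Fin n} (hij : i ≠ j) (hkl : k ≠ l) (t s : F) :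
    Commute (pRad hn φ d i j t) (pRad hn φ d k l s) := by
  have same : ∀ i j, i ≠ j → ∀ t s, Commute (pRad hn φ d i j t) (pRad hn φ d i j s) := fun i j h t s => by
    show _ * _ = _ * _
    rw [← R.p_add h, ← R.p_add h, add_comm]
  by_cases hik : i = k
  · subst hik
    by_cases hjl : j = l
    · subst hjl; exact same i j hij t s
    · exact R.p_comm_adj hij hkl hjl t s
  by_cases hil : i = l
  · subst hil
    rw [R.p_anti hkl.symm]
    by_cases hjk : j = k
    · subst hjk; exact same i j hij t _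
    · exact R.p_comm_adj hij hkl.symm hjk t _
  by_cases hjk : j = k
  · subst hjk
    rw [R.p_anti hij.symm]
    exact R.p_comm_adj hij.symm hkl hil _ s
  by_cases hjl : j = l
  · subst hjl
    rw [R.p_anti hij.symm, R.p_anti hkl.symm]
    exact R.p_comm_adj hij.symm hkl.symm hik _ _
  exact R.p_comm_disj hij hkl hik hil hjk hjl t s

/-- The exchange on the root element of its two coordinates. -/
theorem ORel.d_p_both (t : F) :
    d * pRad hn φ d (ix hn 1) (ix hn 2) t * d = pRad hn (φ.comp invT) d (ix hn 1) (ix hn 2) t := by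
  have h10 := ix_ne hn (show (1 : Fin 4) ≠ 0 by decide)
  have h02 := ix_ne hn (show (0 : Fin 4) ≠ 2 by decide)
  have h12 := ix_ne hn (show (1 : Fin 4) ≠ 2 by decide)
  have e := R.formula h10 h02 h12 t 1
  rw [mul_one] at e
  have T1 : yTr φ (ix hn 1) (ix hn 0) t = yTr (φ.comp invT) (ix hn 0) (ix hn 1) (-t) := by
    rw [yTr_invT, neg_neg]
  have T2 : yTr φ (ix hn 0) (ix hn 2) 1 = yTr (φ.comp invT) (ix hn 2) (ix hn 0) (-1) := by
    rw [yTr_invT, neg_neg]
  conv_lhs => rw [← e, R.conj_d, map_commutatorElement, ← R.conj_d, ← R.conj_d, T1,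
    R.twist.d_T_in (out_zero hn) (Or.inl rfl), R.d_p_in (out_zero hn) (Or.inr rfl), T2, ← commutatorElement_inv,
    R.twist.formula h02.symm h10.symm h12.symm (-1) (-t), R.twist.p_inv h12.symm, R.twist.p_anti h12]
  congr 1
  ring

/-- The exchange fixes the central element of the first pair. -/
theorem ORel.zc (h : (-1 : F) ≠ 0) : Commute d (φ (emb2 (ix hn 0) (ix hn 1) (dSL h))) := by
  have hJ : (jSL : SL F) * jSL = dSL h := by apply ext2 <;> simp [mul_apply2, jSL_coe, dSL_coe]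
  have hj : Commute d (φ (emb2 (ix hn 1) (ix hn 2) jSL)) := by
    have e := R.flip jSL
    rw [cj_jSL, R.conj_d, MulAut.conj_apply, mul_inv_eq_iff_eq_mul] at e
    exact e
  set g := φ (emb2 (ix hn 1) (ix hn 2) jSL) with hg
  set W := φ (shiftW (F := F) hn) with hW
  have e : W⁻¹ * ((g * d) * (g * d)) * W = W⁻¹ * (g * g) * W := by
    rw [show g * d * (g * d) = g * (d * g) * d by group, hj.eq, show g * (g * d) * d = g * g * (d * d) by group, R.dd,
      mul_one]
  rw [show g * d = W * (d * φ (emb2 (ix hn 0) (ix hn 1) jSL) * d) * W⁻¹ from R.par] at e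
  have e2 : d * φ (emb2 (ix hn 0) (ix hn 1) (dSL h)) * d = W⁻¹ * (g * g) * W := by
    rw [← hJ, map_mul, map_mul, R.conj_d, map_mul, ← R.conj_d, ← e]
    group
  have e3 : W⁻¹ * (g * g) * W = φ (emb2 (ix hn 0) (ix hn 1) (dSL h)) := by
    rw [hg, hW, ← map_mul, ← map_mul, hJ, ← shiftW_conj_emb2 hn, map_mul, map_mul, map_inv]
    group
  rw [e3, R.conj_d, MulAut.conj_apply, mul_inv_eq_iff_eq_mul] at e2
  exact e2

end CfsgLib.OPlusPres
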