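import Cfsg.Agent.Lib.KnownB.OPlusPres.Cols
import Cfsg.Agent.Lib.KnownB.SpPres.Roots

/-!
# Roots of type D
-/

set_option autoImplicit false
set_option linter.unusedSectionVars false

open CfsgLib.SpPres

namespace CfsgLib.OPlusPres

variable {n : ℕ}

/-- The height of a signed coordinate. -/
def ohgt (a : Sgn n) : ℤ := if a.2 then (a.1.val : ℤ) + 1 else -((a.1.val : ℤ) + 1)

theorem ohgt_flipB (a : Sgn n) : ohgt (flipB a) = -ohgt a := by
  obtain ⟨i, b⟩ := a
  cases b <;> simp [ohgt, flipB]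

theorem ohgt_injective : Function.Injective (ohgt (n := n)) := by
  rintro ⟨i, b⟩ ⟨j, c⟩ h
  cases b <;> cases c <;> simp [ohgt] at h
  all_goals first
    | (exfalso; omega)
    | exact Prod.ext (Fin.ext (by omega)) rfl

/-- The roots: pairs of signed coordinates on different coordinates. -/
abbrev ORoot (n : ℕ) := {z : Sym2 (Sgn n) // ∀ i x y, z ≠ s((i, x), (i, y))}

theorem ne_iff_nondeg {a b : Sgn n} : (∀ i x y, s(a, b) ≠ s((i, x), (i, y))) ↔ a.1 ≠ b.1 := by
  refine ⟨fun h e => h a.1 a.2 b.2 ?_, fun h i x y e => ?_⟩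
  · obtain ⟨i, x⟩ := a
    obtain ⟨j, y⟩ := b
    simp only at e ⊢
    subst e; rfl
  · rcases Sym2.eq_iff.1 e with ⟨rfl, rfl⟩ | ⟨rfl, rfl⟩ <;> exact h rfl

/-- The root of two coordinates. -/
def mkO (a b : Sgn n) (h : a.1 ≠ b.1) : ORoot n := ⟨s(a, b), ne_iff_nondeg.2 h⟩

theorem mkO_comm (a b : Sgn n) (h : a.1 ≠ b.1) : mkO a b h = mkO b a h.symm := Subtype.ext Sym2.eq_swap

theorem ORoot.exists_mk (r : ORoot n) : ∃ a b, ∃ h : a.1 ≠ b.1, r = mkO a b h := by
  obtain ⟨z, hz⟩ := r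
  induction z using Sym2.ind with
  | h a b => exact ⟨a, b, ne_iff_nondeg.1 hz, rfl⟩

theorem fst_ne_of_flip {σ : Equiv.Perm (Sgn n)} (hσ : ∀ a, σ (flipB a) = flipB (σ a)) {a b : Sgn n}
    (h : a.1 ≠ b.1) : (σ a).1 ≠ (σ b).1 := by
  intro e
  by_cases e2 : (σ a).2 = (σ b).2
  · exact h (by rw [σ.injective (Prod.ext e e2)])
  · have : σ (flipB a) = σ b := by
      rw [hσ]
      refine Prod.ext e ?_
      show (!(σ a).2) = (σ b).2
      revert e2; cases (σ a).2 <;> cases (σ b).2 <;> simp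
    exact h ((congrArg Prod.fst (σ.injective this) : (flipB a).1 = b.1))

/-- The map induced by a permutation commuting with the flip. -/
def oPerm (σ : Equiv.Perm (Sgn n)) (hσ : ∀ a, σ (flipB a) = flipB (σ a)) : Equiv.Perm (ORoot n) where
  toFun r := ⟨r.1.map σ, by
    obtain ⟨a, b, h, rfl⟩ := r.exists_mk
    exact ne_iff_nondeg.2 (fst_ne_of_flip hσ h)⟩
  invFun r := ⟨r.1.map σ.symm, by
    obtain ⟨a, b, h, rfl⟩ := r.exists_mk
    refine ne_iff_nondeg.2 (fst_ne_of_flip (σ := σ.symm) (fun a => ?_) h)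
    rw [Equiv.symm_apply_eq, hσ, Equiv.apply_symm_apply]⟩
  left_inv r := Subtype.ext (by simp [Sym2.map_map])
  right_inv r := Subtype.ext (by simp [Sym2.map_map])

/-- Negation of roots. -/
def oNeg (r : ORoot n) : ORoot n :=
  ⟨r.1.map flipB, by
    obtain ⟨a, b, h, rfl⟩ := r.exists_mk
    exact ne_iff_nondeg.2 h⟩

theorem oNeg_mk (a b : Sgn n) (h : a.1 ≠ b.1) :
    oNeg (mkO a b h) = mkO (flipB a) (flipB b) (show (flipB a).1 ≠ (flipB b).1 from h) := rfl

theorem oNeg_oNeg (r : ORoot n) : oNeg (oNeg r) = r :=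
  Subtype.ext (by simp [oNeg, Sym2.map_map, Function.comp_def, flipB_flipB])

/-- Positivity. -/
def oPos (r : ORoot n) : Prop :=
  0 < Sym2.lift ⟨fun a b => ohgt a + ohgt b, fun a b => add_comm _ _⟩ r.1

theorem oPos_mk (a b : Sgn n) (h : a.1 ≠ b.1) : oPos (mkO a b h) ↔ 0 < ohgt a + ohgt b := Iff.rfl

theorem oPos_neg (r : ORoot n) : oPos (oNeg r) ↔ ¬ oPos r := by
  obtain ⟨a, b, h, rfl⟩ := r.exists_mk
  rw [oNeg_mk, oPos_mk, oPos_mk, ohgt_flipB, ohgt_flipB]
  have : ohgt a ≠ ohgt (flipB b) := ohgt_injective.ne fun e => h (congrArg Prod.fst e :)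
  rw [ohgt_flipB] at this
  omega

variable (hn : 4 ≤ n)

/-- The exchange on signed coordinates. -/
def dFun (a : Sgn n) : Sgn n := if a.1 = ix hn 1 ∨ a.1 = ix hn 2 then flipB a else a

theorem dFun_dFun (a : Sgn n) : dFun hn (dFun hn a) = a := by
  by_cases h : a.1 = ix hn 1 ∨ a.1 = ix hn 2
  · rw [dFun, dFun, if_pos h, if_pos (show (flipB a).1 = ix hn 1 ∨ (flipB a).1 = ix hn 2 from h), flipB_flipB]
  · rw [dFun, dFun, if_neg h, if_neg h]

/-- The exchange as a permutation. -/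
def dPerm : Equiv.Perm (Sgn n) := Function.Involutive.toPerm (dFun hn) (dFun_dFun hn)

theorem dPerm_flip (a : Sgn n) : dPerm hn (flipB a) = flipB (dPerm hn a) := by
  show dFun hn _ = flipB (dFun hn _)
  by_cases h : a.1 = ix hn 1 ∨ a.1 = ix hn 2
  · rw [dFun, dFun, if_pos h, if_pos (show (flipB a).1 = ix hn 1 ∨ (flipB a).1 = ix hn 2 from h)]
  · rw [dFun, dFun, if_neg h, if_neg (show ¬ ((flipB a).1 = ix hn 1 ∨ (flipB a).1 = ix hn 2) from h)]

/-- A transposition of coordinates. -/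
def swapPerm (k l : Fin n) : Equiv.Perm (Sgn n) := (Equiv.swap k l).prodCongr (Equiv.refl Bool)

theorem swapPerm_flip (k l : Fin n) (a : Sgn n) : swapPerm k l (flipB a) = flipB (swapPerm k l a) := rfl

/-- The simple reflections on signed coordinates. -/
def oSgnRefl (k : Fin n) : Equiv.Perm (Sgn n) :=
  if h : k.val + 1 < n then swapPerm ⟨k.val + 1, h⟩ k
  else dPerm hn * swapPerm (ix hn 0) (ix hn 1) * dPerm hn

theorem oSgnRefl_flip (k : Fin n) (a : Sgn n) : oSgnRefl hn k (flipB a) = flipB (oSgnRefl hn k a) := by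
  unfold oSgnRefl
  split_ifs with h
  · rfl
  · simp only [Equiv.Perm.mul_apply, dPerm_flip, swapPerm_flip]

theorem swapPerm_self (k l : Fin n) (a : Sgn n) : swapPerm k l (swapPerm k l a) = a := by
  simp [swapPerm, Prod.map]

theorem oSgnRefl_self (k : Fin n) (a : Sgn n) : oSgnRefl hn k (oSgnRefl hn k a) = a := by
  unfold oSgnRefl
  split_ifs with h
  · exact swapPerm_self _ _ a
  · have hd : ∀ a, dPerm hn (dPerm hn a) = a := dFun_dFun hn
    simp only [Equiv.Perm.mul_apply, hd, swapPerm_self]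

/-- The simple reflections on roots. -/
def oRefl (k : Fin n) : Equiv.Perm (ORoot n) := oPerm (oSgnRefl hn k) (oSgnRefl_flip hn k)

theorem oRefl_mk (k : Fin n) (a b : Sgn n) (h : a.1 ≠ b.1) :
    oRefl hn k (mkO a b h) = mkO (oSgnRefl hn k a) (oSgnRefl hn k b) (fst_ne_of_flip (oSgnRefl_flip hn k) h) :=
  rfl

theorem oRefl_self (k : Fin n) (r : ORoot n) : oRefl hn k (oRefl hn k r) = r :=
  Subtype.ext (by simp [oRefl, oPerm, Sym2.map_map, Function.comp_def, oSgnRefl_self])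

theorem oRefl_neg (k : Fin n) (r : ORoot n) : oRefl hn k (oNeg r) = oNeg (oRefl hn k r) :=
  Subtype.ext (by simp [oRefl, oNeg, oPerm, Sym2.map_map, Function.comp_def, oSgnRefl_flip])

theorem succ_ne {k : Fin n} (h : k.val + 1 < n) : (⟨k.val + 1, h⟩ : Fin n) ≠ k := by simp [Fin.ext_iff]

/-- The simple roots. -/
def oSimple (k : Fin n) : ORoot n :=
  if h : k.val + 1 < n then mkO (⟨k.val + 1, h⟩, true) (k, false) (succ_ne h)
  else mkO (ix hn 1, true) (ix hn 0, true) (ix_ne hn (by decide))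

theorem oSimple_pos (k : Fin n) : oPos (oSimple hn k) := by
  unfold oSimple
  split_ifs with h <;> rw [oPos_mk] <;> simp [ohgt]

theorem oSgnRefl_last {k : Fin n} (h : ¬ k.val + 1 < n) (a : Sgn n) :
    oSgnRefl hn k a = if a.1 = ix hn 0 then (ix hn 1, !a.2) else if a.1 = ix hn 1 then (ix hn 0, !a.2) else a := by
  rw [oSgnRefl, dif_neg h]
  obtain ⟨i, x⟩ := a
  have h01 := ix_ne hn (show (0 : Fin 4) ≠ 1 by decide)
  have h02 := ix_ne hn (show (0 : Fin 4) ≠ 2 by decide)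
  have h12 := ix_ne hn (show (1 : Fin 4) ≠ 2 by decide)
  show dFun hn (swapPerm _ _ (dFun hn (i, x))) = _
  by_cases h0 : i = ix hn 0
  · subst h0; simp [dFun, swapPerm, flipB, h01, h02]
  by_cases h1 : i = ix hn 1
  · subst h1; simp [dFun, swapPerm, flipB, h01, h01.symm, h02]
  by_cases h2 : i = ix hn 2
  · subst h2
    simp [dFun, swapPerm, flipB, h02.symm, h12.symm, Equiv.swap_apply_of_ne_of_ne h02.symm h12.symm]
  · simp [dFun, swapPerm, flipB, h0, h1, h2, Equiv.swap_apply_of_ne_of_ne h0 h1]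

theorem oRefl_simple (k : Fin n) : oRefl hn k (oSimple hn k) = oNeg (oSimple hn k) := by
  unfold oSimple
  split_ifs with h
  · rw [oRefl_mk, oNeg_mk]
    apply Subtype.ext
    simp [mkO, oSgnRefl, dif_pos h, swapPerm, flipB]
  · rw [oRefl_mk, oNeg_mk]
    apply Subtype.ext
    simp [mkO, oSgnRefl_last hn h, flipB]

theorem oRefl_pos (k : Fin n) (r : ORoot n) (hr : oPos r) (hne : r ≠ oSimple hn k) : oPos (oRefl hn k r) := by
  obtain ⟨⟨i, x⟩, ⟨j, y⟩, hab, rfl⟩ := r.exists_mk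
  rw [oRefl_mk, oPos_mk]
  rw [oPos_mk] at hr
  unfold oSimple at hne
  simp only [ne_eq, Fin.ext_iff] at hab
  have v0 : (ix hn 0).val = 0 := rfl
  have v1 : (ix hn 1).val = 1 := rfl
  by_cases h : k.val + 1 < n
  · rw [dif_pos h] at hne
    simp only [oSgnRefl, dif_pos h, swapPerm]
    obtain ⟨k', hk'⟩ : ∃ k' : Fin n, k' = ⟨k.val + 1, h⟩ := ⟨_, rfl⟩
    have hk'v : k'.val = k.val + 1 := by rw [hk']
    simp only [← hk'] at hne ⊢
    simp only [ne_eq, mkO, Subtype.mk.injEq, Sym2.eq_iff, Prod.mk.injEq, Fin.ext_iff] at hne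
    simp only [Equiv.prodCongr_apply, Prod.map, Equiv.refl_apply, Equiv.swap_apply_def, Fin.ext_iff]
    cases x <;> cases y <;> simp [ohgt] at hne hr ⊢ <;> split_ifs <;> simp at * <;> omega
  · rw [dif_neg h] at hne
    simp only [ne_eq, mkO, Subtype.mk.injEq, Sym2.eq_iff, Prod.mk.injEq, Fin.ext_iff] at hne
    simp only [oSgnRefl_last hn h, Fin.ext_iff]
    cases x <;> cases y <;> simp [ohgt] at hne hr ⊢ <;> split_ifs <;> simp at * <;> omega

end CfsgLib.OPlusPres
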