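import Cfsg.Agent.Lib.KnownB.OPlusPres.System
import Cfsg.Agent.Lib.KnownB.SpPres.BN

/-!
# The simple rank one subgroups of type D
-/

set_option autoImplicit false
set_option linter.unusedSectionVars false

open Matrix CfsgLib.Perm.Quad.SL2 CfsgLib.SL2Pres CfsgLib.SLPres CfsgLib.Classical CfsgLib.SpPres CfsgLib.KnownA.StSL
open scoped commutatorElement

namespace CfsgLib.OPlusPres

variable {F : Type*} [Field F] {n : ℕ} {P : Type*} [Group P]

theorem neg_one_ne : (-1 : F) ≠ 0 := neg_ne_zero.2 one_ne_zero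

/-- The sign change on the transvections. -/
def negHom : SL F →* SL F := scHom (neg_one_ne (F := F))

theorem negHom_up (t : F) : negHom (up t) = up (-t) := by
  apply ext2 <;> simp [negHom, scHom_val, up_val]

theorem negHom_low (t : F) : negHom (low t) = low (-t) := by
  apply ext2 <;> simp [negHom, scHom_val, low_val, inv_neg]

theorem negHom_jSL : negHom (jSL : SL F) = (jSL : SL F)⁻¹ := by
  rw [eq_inv_iff_mul_eq_one]
  apply ext2 <;> simp [negHom, scHom_val, jSL_coe, mul_apply2, inv_neg]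

theorem negHom_dg {c : F} (hc : c ≠ 0) : negHom (SLPres.dg c hc) = dSL hc := by
  apply ext2 <;> simp [negHom, scHom_val, dg_val, dSL_coe]

theorem dg_eq_dSL {c : F} (hc : c ≠ 0) : SLPres.dg c hc = dSL hc := by
  apply ext2 <;> simp [dg_val, dSL_coe]

/-- The exchanged rank one subgroup. -/
def topA (hn : 4 ≤ n) (φ : SpecialLinearGroup (Fin n) F →* P) (d : P) (hd : d⁻¹ = d) : SL F →* P :=
  ((MulAut.conj d).toMonoidHom.comp (φ.comp (emb2 (ix hn 0) (ix hn 1)))).comp negHom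

variable {hn : 4 ≤ n} {φ : SpecialLinearGroup (Fin n) F →* P} {d : P} (R : ORel hn φ d)
include R

theorem ORel.d_inv : d⁻¹ = d := inv_eq_of_mul_eq_one_right R.dd

/-- The simple rank one subgroups. -/
def ORel.oL (k : Fin n) : SL F →* P :=
  if h : k.val + 1 < n then φ.comp (emb2 (⟨k.val + 1, h⟩ : Fin n) k) else topA hn φ d R.d_inv

theorem ORel.topA_apply (z : SL F) :
    topA hn φ d R.d_inv z = d * φ (emb2 (ix hn 0) (ix hn 1) (negHom z)) * d := by
  rw [R.conj_d]; rfl

theorem ORel.L_up (k : Fin n) (t : F) : R.oL k (up t) = ox hn φ d (oSimple hn k) t := by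
  unfold ORel.oL oSimple
  split_ifs with h
  · rw [MonoidHom.comp_apply, emb2_up (succ_ne h), ox_mk_gt hn φ d _ (by simp [ohgt]; omega), ← yTr_eq φ]
    rfl
  · have h01 := ix_ne hn (show (0 : Fin 4) ≠ 1 by decide)
    rw [R.topA_apply, negHom_up, emb2_up h01, ox_mk_gt hn φ d _ (by simp [ohgt])]
    show _ = pRad hn φ d (ix hn 1) (ix hn 0) t
    rw [R.p_anti h01, R.p_base, pBase, yTr_eq φ h01]

theorem ORel.L_low (k : Fin n) (t : F) : R.oL k (low t) = ox hn φ d (oNeg (oSimple hn k)) t := by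
  unfold ORel.oL oSimple
  split_ifs with h
  · rw [MonoidHom.comp_apply, emb2_low (succ_ne h), oNeg_mk, mkO_comm,
      ox_mk_gt hn φ d _ (by simp [ohgt, flipB]; omega), ← yTr_eq φ]
    rfl
  · have h01 := ix_ne hn (show (0 : Fin 4) ≠ 1 by decide)
    rw [R.topA_apply, negHom_low, emb2_low h01, oNeg_mk, mkO_comm,
      ox_mk_gt hn φ d _ (by simp [ohgt, flipB]), ← yTr_eq φ]
    show _ = pRad hn (φ.comp invT) d (ix hn 0) (ix hn 1) t
    rw [R.twist.p_base, pBase, yTr_invT]

theorem ORel.L_n_moves (k : Fin n) : Moves hn φ d (R.oL k jSL) (oSgnRefl hn k) := by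
  unfold ORel.oL oSgnRefl
  split_ifs with h
  · exact R.moves_jSL (succ_ne h)
  · have h01 := ix_ne hn (show (0 : Fin 4) ≠ 1 by decide)
    rw [R.topA_apply, negHom_jSL, map_inv, map_inv]
    have hsq : φ (emb2 (ix hn 0) (ix hn 1) (jSL : SL F)) * φ (emb2 (ix hn 0) (ix hn 1) jSL) =
        φ (emb2 (ix hn 0) (ix hn 1) (dSL neg_one_ne)) := by
      rw [← map_mul, ← map_mul, jj_dg, dg_eq_dSL]
    have hinv : (φ (emb2 (ix hn 0) (ix hn 1) (jSL : SL F)))⁻¹ = φ (emb2 (ix hn 0) (ix hn 1) jSL) *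
        φ (emb2 (ix hn 0) (ix hn 1) (dSL (inv_ne_zero neg_one_ne))) := by
      rw [← dSL_inv neg_one_ne, map_inv, map_inv, ← hsq]; group
    rw [hinv]
    have hq : Moves hn φ d (φ (emb2 (ix hn 0) (ix hn 1) jSL) *
        φ (emb2 (ix hn 0) (ix hn 1) (dSL (inv_ne_zero (neg_one_ne (F := F))))))
        (swapPerm (ix hn 0) (ix hn 1)) := by
      have := Moves.mul (σ' := (1 : Equiv.Perm (Sgn n))) (fun _ => rfl) (R.moves_jSL h01)
        (R.moves_dSL h01 (inv_ne_zero (neg_one_ne (F := F))))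
      rwa [mul_one] at this
    have hm := Moves.mul (σ' := dPerm hn) (dPerm_flip hn)
      (Moves.mul (σ' := swapPerm (ix hn 0) (ix hn 1)) (swapPerm_flip _ _) R.moves_d hq) R.moves_d
    exact hm

theorem ORel.n_conj (k : Fin n) (r : ORoot n) (t : F) :
    ∃ t', R.oL k jSL * ox hn φ d r t * (R.oL k jSL)⁻¹ = ox hn φ d (oRefl hn k r) t' :=
  R.moves_ox (oSgnRefl_flip hn k) (R.L_n_moves k) r t

theorem ORel.T_dg (k : Fin n) (c : F) (hc : c ≠ 0) : R.oL k (SLPres.dg c hc) ∈ oTor hn φ d := by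
  unfold ORel.oL
  split_ifs with h
  · rw [MonoidHom.comp_apply, dg_eq_dSL]; exact dg_mem_oTor (succ_ne h) hc
  · rw [R.topA_apply, negHom_dg]; exact hPlus_mem_oTor hc

theorem ORel.d_tor {τ : P} (hτ : τ ∈ oTor hn φ d) : d * τ * d ∈ oTor hn φ d := by
  have h01 := ix_ne hn (show (0 : Fin 4) ≠ 1 by decide)
  have h12 := ix_ne hn (show (1 : Fin 4) ≠ 2 by decide)
  have h02 := ix_ne hn (show (0 : Fin 4) ≠ 2 by decide)
  have hle : oTor hn φ d ≤ (oTor hn φ d).comap (MulAut.conj d).toMonoidHom := by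
    refine oTor_le (fun k l h c hc => ?_) fun c hc => ?_
    swap
    · show MulAut.conj d (hPlus hn φ d hc) ∈ oTor hn φ d
      rw [← R.conj_d, hPlus, R.d_cancel]; exact dg_mem_oTor h01 hc
    show MulAut.conj d (φ (emb2 k l (dSL hc))) ∈ oTor hn φ d
    rw [← R.conj_d]
    let Q : Fin n → Fin n → Prop := fun k l => ∀ (e : F) (he : e ≠ 0), d * φ (emb2 k l (dSL he)) * d ∈ oTor hn φ d
    have sym : ∀ k l : Fin n, k ≠ l → Q k l → Q l k := fun k l h q e he => by
      have := inv_mem (q e he)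
      rw [_root_.mul_inv_rev, _root_.mul_inv_rev, R.d_inv, ← map_inv, ← map_inv, ← mul_assoc] at this
      rwa [emb2_swap h, swHom_dSL]
    have tri : ∀ k l m : Fin n, k ≠ l → l ≠ m → k ≠ m → Q k l → Q l m → Q k m :=
      fun k l m hkl hlm hkm q1 q2 e he => by
      have : emb2 k m (dSL he) = emb2 k l (dSL he) * (emb2 l m (dSL he) : SpecialLinearGroup (Fin n) F) := by
        apply Subtype.ext
        show _ = (emb2 k l (dSL he)).1 * (emb2 l m (dSL he)).1
        rw [emb2_dSL hkm, emb2_dSL hkl, emb2_dSL hlm, SpecialLinearGroup.diag2n_coe, SpecialLinearGroup.diag2n_coe,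
          SpecialLinearGroup.diag2n_coe, diagonal_mul_diagonal]
        congr 1; funext x
        by_cases hx : x = k <;> by_cases hx' : x = l <;> by_cases hx'' : x = m <;> simp_all
      rw [this, map_mul, R.conj_d, map_mul, ← R.conj_d, ← R.conj_d]
      exact mul_mem (q1 e he) (q2 e he)
    have q01 : Q (ix hn 0) (ix hn 1) := fun e he => hPlus_mem_oTor he
    have q12 : Q (ix hn 1) (ix hn 2) := fun e he => by
      rw [R.flip, cj_dSL, dSL_inv]; exact dg_mem_oTor h12 _
    have q0 : ∀ k, k ≠ ix hn 0 → Q (ix hn 0) k := fun k hk => by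
      by_cases h1 : k = ix hn 1
      · subst h1; exact q01
      by_cases h2 : k = ix hn 2
      · subst h2; exact tri _ _ _ h01 h12 h02 q01 q12
      intro e he
      have hK : Commute d (φ (emb2 (ix hn 0) k (dSL he))) := by
        have : (Subgroup.centralizer {d}).comap (φ.comp (emb2 (ix hn 0) k)) = ⊤ := eq_top_of_up_low
          (fun t => Subgroup.mem_comap.2 (Subgroup.mem_centralizer_singleton_iff.2 (by
            rw [MonoidHom.comp_apply, emb2_up (Ne.symm hk), ← yTr_eq φ]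
            exact (R.cK _ _ (Ne.symm hk) (out_zero hn) ⟨h1, h2⟩ t).eq.symm)))
          fun t => Subgroup.mem_comap.2 (Subgroup.mem_centralizer_singleton_iff.2 (by
            rw [MonoidHom.comp_apply, emb2_low (Ne.symm hk), ← yTr_eq φ]
            exact (R.cK _ _ hk ⟨h1, h2⟩ (out_zero hn) t).eq.symm))
        exact (Subgroup.mem_centralizer_singleton_iff.1
          (Subgroup.mem_comap.1 (this.ge (Subgroup.mem_top (dSL he))))).symm
      rw [hK.eq, mul_assoc, R.dd, mul_one]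
      exact dg_mem_oTor (Ne.symm hk) he
    by_cases hk : k = ix hn 0
    · subst hk; exact q0 l h.symm c hc
    by_cases hl : l = ix hn 0
    · subst hl; exact sym _ _ (Ne.symm hk) (q0 k hk) c hc
    exact tri k (ix hn 0) l hk (Ne.symm hl) h (sym _ _ (Ne.symm hk) (q0 k hk)) (q0 l hl) c hc
  rw [R.conj_d]
  exact hle hτ

omit R in
theorem jSL_conj_dSL {k l : Fin n} (h : k ≠ l) {a b : Fin n} (hab : a ≠ b) {c : F} (hc : c ≠ 0) :
    emb2 k l (jSL : SL F) * emb2 a b (dSL hc) * (emb2 k l (jSL : SL F))⁻¹ =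
      (emb2 (Equiv.swap k l a) (Equiv.swap k l b) (dSL hc) : SpecialLinearGroup (Fin n) F) := by
  have hab' := (Equiv.swap k l).injective.ne hab
  rw [mul_inv_eq_iff_eq_mul]
  apply Subtype.ext
  show (emb2 k l jSL).1 * (emb2 a b (dSL hc)).1 = (emb2 _ _ (dSL hc)).1 * (emb2 k l jSL).1
  rw [emb2_dSL hab, emb2_dSL hab', SpecialLinearGroup.diag2n_coe, SpecialLinearGroup.diag2n_coe]
  ext x y
  rw [Matrix.mul_diagonal, Matrix.diagonal_mul, col_jSL h y x]
  by_cases hx : x = Equiv.swap k l y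
  · subst hx
    simp only [(Equiv.swap k l).injective.eq_iff]
    ring
  · simp [hx]

theorem ORel.jSL_tor {k l : Fin n} (h : k ≠ l) (hcase : (k = ix hn 1 ∧ l = ix hn 0) ∨ (k = ix hn 2 ∧ l = ix hn 1) ∨
      (2 ≤ k.val ∧ 2 ≤ l.val) ∨ (k = ix hn 0 ∧ l = ix hn 1))
    {τ : P} (hτ : τ ∈ oTor hn φ d) :
    φ (emb2 k l jSL) * τ * (φ (emb2 k l jSL))⁻¹ ∈ oTor hn φ d := by
  have h01 := ix_ne hn (show (0 : Fin 4) ≠ 1 by decide)
  have h12 := ix_ne hn (show (1 : Fin 4) ≠ 2 by decide)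
  have hle : oTor hn φ d ≤ (oTor hn φ d).comap (MulAut.conj (φ (emb2 k l jSL))).toMonoidHom := by
    refine oTor_le (fun a b hab c hc => ?_) fun c hc => ?_
    · show φ (emb2 k l jSL) * φ (emb2 a b (dSL hc)) * (φ (emb2 k l jSL))⁻¹ ∈ oTor hn φ d
      rw [← map_inv, ← map_mul, ← map_mul, jSL_conj_dSL h hab hc]
      exact dg_mem_oTor ((Equiv.swap k l).injective.ne hab) hc
    show φ (emb2 k l jSL) * hPlus hn φ d hc * (φ (emb2 k l jSL))⁻¹ ∈ oTor hn φ d
    have hA : ∀ g, (g : P) = φ (emb2 k l jSL) → Commute (hPlus hn φ d hc) g →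
        g * hPlus hn φ d hc * g⁻¹ ∈ oTor hn φ d := fun g _ hg => by
      rw [← hg.eq, mul_inv_cancel_right]; exact hPlus_mem_oTor hc
    rcases hcase with ⟨rfl, rfl⟩ | ⟨rfl, rfl⟩ | ⟨hk, hl⟩ | ⟨rfl, rfl⟩
    · refine hA _ rfl ?_
      rw [emb2_swap h01]
      exact R.aA (dSL hc) (swHom jSL)
    · have hd : Commute d (φ (emb2 (ix hn 2) (ix hn 1) jSL)) := by
        have e := R.flip (swHom jSL)
        rw [← emb2_swap h12, show cj (swHom (jSL : SL F)) = swHom jSL by
          rw [show swHom (jSL : SL F) = (jSL : SL F)⁻¹ by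
            rw [eq_inv_iff_mul_eq_one]; apply ext2 <;> simp [swHom_val, mul_apply2, jSL_coe], map_inv, cj_jSL],
          ← emb2_swap h12, R.conj_d, MulAut.conj_apply, mul_inv_eq_iff_eq_mul] at e
        exact e
      have e : φ (emb2 (ix hn 2) (ix hn 1) jSL) * hPlus hn φ d hc * (φ (emb2 (ix hn 2) (ix hn 1) jSL))⁻¹ =
          d * φ (emb2 (ix hn 2) (ix hn 1) jSL * emb2 (ix hn 0) (ix hn 1) (dSL hc) *
            (emb2 (ix hn 2) (ix hn 1) jSL)⁻¹) * d := by
        rw [hPlus, map_mul, map_mul, map_inv, R.conj_d, R.conj_d, map_mul, map_mul, map_inv,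
          MulAut.conj_apply d (φ (emb2 (ix hn 2) (ix hn 1) jSL)), hd.eq, mul_inv_cancel_right]
      rw [e, jSL_conj_dSL h h01 hc]
      exact R.d_tor (dg_mem_oTor ((Equiv.swap _ _).injective.ne h01) hc)
    · refine hA _ rfl ?_
      have : (Subgroup.centralizer {hPlus hn φ d hc}).comap (φ.comp (emb2 k l)) = ⊤ := eq_top_of_up_low
        (fun t => Subgroup.mem_comap.2 (Subgroup.mem_centralizer_singleton_iff.2 (by
          rw [MonoidHom.comp_apply, emb2_up h, ← yTr_eq φ]; exact (R.aL _ k l h hk hl t).eq.symm)))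
        fun t => Subgroup.mem_comap.2 (Subgroup.mem_centralizer_singleton_iff.2 (by
          rw [MonoidHom.comp_apply, emb2_low h, ← yTr_eq φ]; exact (R.aL _ l k h.symm hl hk t).eq.symm))
      exact (Subgroup.mem_centralizer_singleton_iff.1 (Subgroup.mem_comap.1 (this.ge (Subgroup.mem_top jSL)))).symm
    · exact hA _ rfl (R.aA (dSL hc) jSL)
  exact hle hτ

theorem ORel.T_n (k : Fin n) : ∀ τ ∈ oTor hn φ d, R.oL k jSL * τ * (R.oL k jSL)⁻¹ ∈ oTor hn φ d := by
  intro τ hτ
  unfold ORel.oL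
  split_ifs with h
  · refine R.jSL_tor (succ_ne h) ?_ hτ
    rcases (show k.val = 0 ∨ k.val = 1 ∨ 2 ≤ k.val by omega) with e | e | e
    · exact Or.inl ⟨Fin.ext (show k.val + 1 = 1 by omega), Fin.ext (show k.val = 0 by omega)⟩
    · exact Or.inr (Or.inl ⟨Fin.ext (show k.val + 1 = 2 by omega), Fin.ext (show k.val = 1 by omega)⟩)
    · exact Or.inr (Or.inr (Or.inl ⟨by show 2 ≤ k.val + 1; omega, e⟩))
  · have h01 := ix_ne hn (show (0 : Fin 4) ≠ 1 by decide)
    rw [R.topA_apply, negHom_jSL, map_inv, map_inv]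
    set g := φ (emb2 (ix hn 0) (ix hn 1) (jSL : SL F))
    have e : d * g⁻¹ * d * τ * (d * g⁻¹ * d)⁻¹ = d * (g⁻¹ * (d * τ * d) * g) * d := by
      simp only [_root_.mul_inv_rev, R.d_inv, inv_inv, mul_assoc]
    rw [e]
    refine R.d_tor ?_
    have hgg : g * g ∈ oTor hn φ d := by
      have : g * g = φ (emb2 (ix hn 0) (ix hn 1) (dSL neg_one_ne)) := by
        simp only [g]; rw [← map_mul, ← map_mul, jj_dg, dg_eq_dSL]
      rw [this]; exact dg_mem_oTor h01 _
    have := R.jSL_tor h01 (Or.inr (Or.inr (Or.inr ⟨rfl, rfl⟩)))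
      (mul_mem (mul_mem (inv_mem hgg) (R.d_tor hτ)) hgg)
    convert this using 1
    show _ = g * _ * g⁻¹
    group

theorem ORel.simple_conj (k : Fin n) (r : ORoot n) (t u : F) (hr : oPos r) (hne : r ≠ oSimple hn k) :
    ox hn φ d (oSimple hn k) t * ox hn φ d r u * (ox hn φ d (oSimple hn k) t)⁻¹ ∈
      Subgroup.closure {z | ∃ r' u', oPos r' ∧ r' ≠ oSimple hn k ∧ z = ox hn φ d r' u'} := by
  set H := Subgroup.closure {z | ∃ r' u', oPos r' ∧ r' ≠ oSimple hn k ∧ z = ox hn φ d r' u'}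
  have mem : ∀ (a b : Sgn n) (h : a.1 ≠ b.1) (v : F), 0 < ohgt a + ohgt b → mkO a b h ≠ oSimple hn k →
      ry hn φ d a b v ∈ H := fun a b h v hp hne => by
    obtain ⟨s, e⟩ := R.ry_mk h v
    exact Subgroup.subset_closure ⟨mkO a b h, s, hp, hne, e⟩
  obtain ⟨⟨i, x⟩, ⟨j, y⟩, hab, rfl⟩ := r.exists_mk
  obtain ⟨s, -, es⟩ := R.ox_mk hab u
  have hy0 : ry hn φ d (i, x) (j, y) s ∈ H := mem _ _ hab s hr hne
  rw [es]
  rw [oPos_mk] at hr
  have hij : i ≠ j := hab
  have hi := i.2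
  have hj := j.2
  have hk := k.2
  by_cases h : k.val + 1 < n
  · set K : Fin n := ⟨k.val + 1, h⟩
    have hKv : K.val = k.val + 1 := rfl
    have hKk : K ≠ k := succ_ne h
    have hS : oSimple hn k = mkO (K, true) (k, false) hKk := dif_pos h
    rw [hS] at mem hne ⊢
    rw [ox_mk_gt hn φ d _ (by simp [ohgt]; omega)]
    show yTr φ K k t * _ * (yTr φ K k t)⁻¹ ∈ H
    have hp : ∀ p q : Fin n, p ≠ q → ∀ v, pRad hn φ d p q v ∈ H := fun p q hpq v =>
      mem (p, true) (q, true) hpq v (by simp [ohgt]; omega) (by simp [mkO, Prod.ext_iff])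
    have hT : ∀ p q : Fin n, q < p → (p ≠ K ∨ q ≠ k) → ∀ v, yTr φ p q v ∈ H := fun p q hpq hn' v =>
      mem (p, true) (q, false) hpq.ne' v (by simp [ohgt]; omega) (by simp [mkO, Prod.ext_iff]; tauto)
    have key : ∀ p q : Fin n, q < p → (p ≠ K ∨ q ≠ k) → ∀ v, yTr φ K k t * yTr φ p q v * (yTr φ K k t)⁻¹ ∈ H :=
      fun p q hpq hn' v => by
        by_cases h1 : p = k
        · subst h1
          rw [(yTr_preSt φ).conj_right hKk hpq.ne' (by intro e; subst e; omega)]
          exact mul_mem (hT K q (by omega) (Or.inr hpq.ne) _) (hT _ _ hpq hn' _)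
        by_cases h2 : q = K
        · subst h2
          rw [(yTr_preSt φ).conj_left hpq.ne' hKk h1]
          exact mul_mem (hT p k (by omega) (Or.inl hpq.ne') _) (hT _ _ hpq hn' _)
        rw [mul_inv_eq_iff_eq_mul.2 ((yTr_preSt φ).comm K k p q t v hKk hpq.ne' (Ne.symm h2) (Ne.symm h1)).eq]
        exact hT _ _ hpq hn' _
    have keyp : ∀ p q : Fin n, p ≠ q → ∀ v, yTr φ K k t * pRad hn φ d p q v * (yTr φ K k t)⁻¹ ∈ H := by
      intro p q hpq v
      wlog hpk : q ≠ k generalizing p q v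
      · rw [R.p_anti hpq.symm]
        exact this q p hpq.symm _ (fun e => hpq (e.trans (not_not.1 hpk).symm))
      by_cases hp' : p = k
      · subst hp'
        by_cases hq : q = K
        · subst hq
          rw [R.p_anti hpq.symm, mul_inv_eq_iff_eq_mul.2 (R.p_T_self hKk t (-v)).eq]
          exact hp _ _ hKk _
        rw [R.conj_formula hKk hpq (Ne.symm hq) t v]
        exact mul_mem (hp _ _ (Ne.symm hq) _) (hp _ _ hpq _)
      · rw [mul_inv_eq_iff_eq_mul.2 (R.p_T_away hpq hKk hp' hpk t v).eq]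
        exact hp _ _ hpq _
    simp [mkO, Prod.ext_iff] at hne
    cases x <;> cases y <;> simp only [ry]
    · simp [ohgt] at hr; omega
    · simp [ohgt] at hr; simp at hne
      exact key j i (by omega) (by tauto) _
    · simp [ohgt] at hr; simp at hne
      exact key i j (by omega) (by tauto) _
    · exact keyp i j hij _
  · set i₀ := ix hn 0
    set i₁ := ix hn 1
    have v0 : i₀.val = 0 := rfl
    have v1 : i₁.val = 1 := rfl
    have h10 : i₁ ≠ i₀ := ix_ne hn (by decide)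
    have hS : oSimple hn k = mkO (i₁, true) (i₀, true) h10 := dif_neg h
    rw [hS] at mem hne ⊢
    rw [ox_mk_gt hn φ d _ (by simp [ohgt]; omega)]
    show pRad hn φ d i₁ i₀ t * _ * (pRad hn φ d i₁ i₀ t)⁻¹ ∈ H
    have hT : ∀ p q : Fin n, q < p → ∀ v, yTr φ p q v ∈ H := fun p q hpq v =>
      mem (p, true) (q, false) hpq.ne' v (by simp [ohgt]; omega) (by simp [mkO, Prod.ext_iff])
    have key : ∀ p q : Fin n, q < p → ∀ v, pRad hn φ d i₁ i₀ t * yTr φ p q v * (pRad hn φ d i₁ i₀ t)⁻¹ ∈ H := by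
      intro p q hpq v
      by_cases h1 : q = i₁
      · subst h1
        have hp0 : p ≠ i₀ := fun e => by subst e; omega
        have e := R.conj_formula hpq.ne' h10 hp0 v t
        rw [show pRad hn φ d i₁ i₀ t * yTr φ p i₁ v * (pRad hn φ d i₁ i₀ t)⁻¹ =
          (pRad hn φ d p i₀ (v * t))⁻¹ * yTr φ p i₁ v by
            rw [eq_inv_mul_iff_mul_eq, ← mul_assoc, ← mul_assoc, ← e]; group]
        exact mul_mem (inv_mem (mem (p, true) (i₀, true) hp0 _ (by simp [ohgt]; omega)
          (by simp [mkO, Prod.ext_iff, hpq.ne']; tauto))) (hT _ _ hpq _)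
      by_cases h0 : q = i₀
      · subst h0
        rw [R.p_anti h10.symm]
        by_cases hp1 : p = i₁
        · subst hp1
          rw [R.p_anti h10 (-t), neg_neg, ← (R.p_T_self h10 v t).eq, mul_inv_cancel_right]
          exact hT _ _ hpq _
        have e := R.conj_formula hpq.ne' h10.symm hp1 v (-t)
        rw [show pRad hn φ d i₀ i₁ (-t) * yTr φ p i₀ v * (pRad hn φ d i₀ i₁ (-t))⁻¹ =
          (pRad hn φ d p i₁ (v * -t))⁻¹ * yTr φ p i₀ v by
            rw [eq_inv_mul_iff_mul_eq, ← mul_assoc, ← mul_assoc, ← e]; group]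
        exact mul_mem (inv_mem (mem (p, true) (i₁, true) hp1 _ (by simp [ohgt]; omega)
          (by simp [mkO, Prod.ext_iff, hpq.ne']; tauto))) (hT _ _ hpq _)
      rw [← (R.p_T_away h10 hpq.ne' (Ne.symm h1) (Ne.symm h0) v t).eq, mul_inv_cancel_right]
      exact hT _ _ hpq _
    cases x <;> cases y <;> simp only [ry] at hy0 ⊢
    · simp [ohgt] at hr; omega
    · simp [ohgt] at hr; exact key j i (by omega) _
    · simp [ohgt] at hr; exact key i j (by omega) _
    · rw [(R.p_comm h10 hij t _).eq, mul_inv_cancel_right]; exact hy0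

end CfsgLib.OPlusPres
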