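import Cfsg.Agent.Lib.KnownB.OPlusPres.ORel
import Cfsg.Agent.Lib.KnownB.OPlusPres.Roots

/-!
# Root groups, the torus and their moves
-/

set_option autoImplicit false
set_option linter.unusedSectionVars false

open Matrix CfsgLib.Perm.Quad.SL2 CfsgLib.SL2Pres CfsgLib.SLPres CfsgLib.Classical CfsgLib.SpPres CfsgLib.KnownA.StSL
open scoped commutatorElement

namespace CfsgLib.OPlusPres

variable {F : Type*} [Field F] {n : ℕ} {P : Type*} [Group P]

/-- The root element of two signed coordinates. -/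
noncomputable def ry (hn : 4 ≤ n) (φ : SpecialLinearGroup (Fin n) F →* P) (d : P) : Sgn n → Sgn n → F → P
  | (i, true), (j, true) => pRad hn φ d i j
  | (i, false), (j, false) => pRad hn (φ.comp invT) d i j
  | (i, true), (j, false) => yTr φ i j
  | (i, false), (j, true) => fun t => yTr φ j i (-t)

theorem comp_invT_invT (φ : SpecialLinearGroup (Fin n) F →* P) : (φ.comp invT).comp invT = φ :=
  MonoidHom.ext fun A => by rw [MonoidHom.comp_apply, MonoidHom.comp_apply, invT_invT]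

theorem ry_twist (hn : 4 ≤ n) (φ : SpecialLinearGroup (Fin n) F →* P) (d : P) (a b : Sgn n) (t : F) :
    ry hn (φ.comp invT) d (flipB a) (flipB b) t = ry hn φ d a b t := by
  obtain ⟨i, x⟩ := a
  obtain ⟨j, y⟩ := b
  cases x <;> cases y <;> simp [ry, flipB, comp_invT_invT, yTr_invT]

open Classical in
/-- The root element of a root. -/
noncomputable def ox (hn : 4 ≤ n) (φ : SpecialLinearGroup (Fin n) F →* P) (d : P) (r : ORoot n) : F → P :=
  Sym2.lift ⟨fun a b => if ohgt b < ohgt a then ry hn φ d a b else ry hn φ d b a, fun a b => by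
    by_cases h : ohgt b < ohgt a
    · simp [h, not_lt.2 h.le]
    · by_cases h' : ohgt a < ohgt b
      · simp [h, h']
      · have e : a = b := ohgt_injective (le_antisymm (not_lt.1 h) (not_lt.1 h'))
        subst e; rfl⟩ r.1

theorem ox_mk_gt (hn : 4 ≤ n) (φ : SpecialLinearGroup (Fin n) F →* P) (d : P) {a b : Sgn n} (h : a.1 ≠ b.1)
    (hlt : ohgt b < ohgt a) : ox hn φ d (mkO a b h) = ry hn φ d a b := if_pos hlt

variable {hn : 4 ≤ n} {φ : SpecialLinearGroup (Fin n) F →* P} {d : P} (R : ORel hn φ d)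
include R

theorem ORel.ry_swap {a b : Sgn n} (h : a.1 ≠ b.1) (t : F) : ry hn φ d b a t = ry hn φ d a b (-t) := by
  obtain ⟨i, x⟩ := a
  obtain ⟨j, y⟩ := b
  cases x <;> cases y <;> simp only [ry]
  · exact R.twist.p_anti h t
  · rw [neg_neg]
  · exact R.p_anti h t

theorem ORel.ry_add {a b : Sgn n} (h : a.1 ≠ b.1) (t u : F) :
    ry hn φ d a b (t + u) = ry hn φ d a b t * ry hn φ d a b u := by
  obtain ⟨i, x⟩ := a
  obtain ⟨j, y⟩ := b
  cases x <;> cases y <;> simp only [ry]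
  · exact R.twist.p_add h t u
  · rw [neg_add]; exact ((yTr_preSt φ).add j i _ _ (Ne.symm h)).symm
  · exact ((yTr_preSt φ).add i j _ _ h).symm
  · exact R.p_add h t u

theorem ORel.ox_mk {a b : Sgn n} (h : a.1 ≠ b.1) (t : F) :
    ∃ s, (s = t ∨ s = -t) ∧ ox hn φ d (mkO a b h) t = ry hn φ d a b s := by
  by_cases hlt : ohgt b < ohgt a
  · exact ⟨t, Or.inl rfl, by rw [ox_mk_gt hn φ d h hlt]⟩
  · have hlt' : ohgt a < ohgt b := lt_of_le_of_ne (not_lt.1 hlt) (ohgt_injective.ne fun e => h (congrArg Prod.fst e))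
    exact ⟨-t, Or.inr rfl, by rw [mkO_comm, ox_mk_gt hn φ d h.symm hlt', R.ry_swap h]⟩

theorem ORel.ry_mk {a b : Sgn n} (h : a.1 ≠ b.1) (t : F) :
    ∃ s, ry hn φ d a b t = ox hn φ d (mkO a b h) s := by
  by_cases hlt : ohgt b < ohgt a
  · exact ⟨t, by rw [ox_mk_gt hn φ d h hlt]⟩
  · have hlt' : ohgt a < ohgt b := lt_of_le_of_ne (not_lt.1 hlt) (ohgt_injective.ne fun e => h (congrArg Prod.fst e))
    exact ⟨-t, by rw [mkO_comm, ox_mk_gt hn φ d h.symm hlt', R.ry_swap h, neg_neg]⟩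

theorem ORel.ox_add (r : ORoot n) (t u : F) : ox hn φ d r (t + u) = ox hn φ d r t * ox hn φ d r u := by
  obtain ⟨a, b, h, rfl⟩ := r.exists_mk
  rcases lt_or_gt_of_ne (ohgt_injective.ne fun e => h (congrArg Prod.fst e)) with hlt | hlt
  · rw [mkO_comm, ox_mk_gt hn φ d h.symm hlt]; exact R.ry_add h.symm t u
  · rw [ox_mk_gt hn φ d h hlt]; exact R.ry_add h t u

omit R in
/-- An element permuting the root groups. -/
def Moves (hn : 4 ≤ n) (φ : SpecialLinearGroup (Fin n) F →* P) (d : P) (c : P) (σ : Equiv.Perm (Sgn n)) : Prop :=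
  ∀ a b, a.1 ≠ b.1 → ∀ t, ∃ t', c * ry hn φ d a b t * c⁻¹ = ry hn φ d (σ a) (σ b) t'

omit R in
theorem Moves.mul {c c' : P} {σ σ' : Equiv.Perm (Sgn n)} (hσ : ∀ a, σ' (flipB a) = flipB (σ' a))
    (hc : Moves hn φ d c σ) (hc' : Moves hn φ d c' σ') : Moves hn φ d (c * c') (σ * σ') := by
  intro a b h t
  obtain ⟨t₁, h₁⟩ := hc' a b h t
  obtain ⟨t₂, h₂⟩ := hc _ _ (fst_ne_of_flip hσ h) t₁
  refine ⟨t₂, ?_⟩
  rw [Equiv.Perm.mul_apply, Equiv.Perm.mul_apply, ← h₂, ← h₁]
  group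

theorem ORel.moves_ox {c : P} {σ : Equiv.Perm (Sgn n)} (hσ : ∀ a, σ (flipB a) = flipB (σ a))
    (hc : Moves hn φ d c σ) (r : ORoot n) (t : F) :
    ∃ t', c * ox hn φ d r t * c⁻¹ = ox hn φ d (oPerm σ hσ r) t' := by
  obtain ⟨a, b, h, rfl⟩ := r.exists_mk
  obtain ⟨s, -, e⟩ := R.ox_mk h t
  obtain ⟨s', e'⟩ := hc a b h s
  obtain ⟨s'', e''⟩ := R.ry_mk (fst_ne_of_flip hσ h) s'
  exact ⟨s'', by rw [e, e', e'']; rfl⟩

/-- The exchange permutes the root groups. -/
theorem ORel.moves_d : Moves hn φ d d (dPerm hn) := by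
  have hdi : d⁻¹ = d := inv_eq_of_mul_eq_one_right R.dd
  have h12 := ix_ne hn (show (1 : Fin 4) ≠ 2 by decide)
  -- the first coordinate carries a plus sign
  have key : ∀ (ψ : SpecialLinearGroup (Fin n) F →* P), ORel hn ψ d → ∀ i j : Fin n, i ≠ j → ∀ y t,
      ∃ t', d * ry hn ψ d (i, true) (j, y) t * d⁻¹ = ry hn ψ d (dPerm hn (i, true)) (dPerm hn (j, y)) t' := by
    intro ψ S i j h y t
    rw [hdi]
    have din : ∀ i : Fin n, (i = ix hn 1 ∨ i = ix hn 2) → ∀ y, dPerm hn (i, y) = (i, !y) := fun i hi y => if_pos hi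
    have dout : ∀ i : Fin n, Out hn i → ∀ y, dPerm hn (i, y) = (i, y) := fun i hi y =>
      if_neg (not_or.2 hi)
    have io : ∀ i : Fin n, (i = ix hn 1 ∨ i = ix hn 2) ∨ Out hn i := fun i => by
      by_cases hi : i = ix hn 1 ∨ i = ix hn 2
      · exact Or.inl hi
      · exact Or.inr (not_or.1 hi)
    rcases io i with hi | hi <;> rcases io j with hj | hj
    · rw [din i hi, din j hj]
      cases y <;> simp only [Bool.not_true, Bool.not_false, ry]
      · refine ⟨t, ?_⟩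
        rcases hi with rfl | rfl <;> rcases hj with rfl | rfl
        · exact absurd rfl h
        · have e := S.flip (up t)
          rw [cj_up, emb2_up h12, emb2_low h12] at e
          rw [yTr_eq ψ h12, yTr_eq ψ h12.symm]; exact e
        · have e := S.flip (low t)
          rw [cj_low, emb2_up h12, emb2_low h12] at e
          rw [yTr_eq ψ h12.symm, yTr_eq ψ h12]; exact e
        · exact absurd rfl h
      · refine ⟨t, ?_⟩
        rcases hi with rfl | rfl <;> rcases hj with rfl | rfl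
        · exact absurd rfl h
        · exact S.d_p_both t
        · rw [S.p_anti h12, S.d_p_both, S.twist.p_anti h12 t]
        · exact absurd rfl h
    · rw [din i hi, dout j hj]
      cases y <;> simp only [Bool.not_true, ry]
      · refine ⟨t, ?_⟩
        rw [show yTr ψ i j t = yTr (ψ.comp invT) j i (-t) by rw [yTr_invT, neg_neg],
          S.twist.d_T_in hj hi, S.twist.p_anti h, neg_neg]
      · exact ⟨t, by rw [S.p_anti h.symm, S.d_p_in hj hi]⟩
    · rw [dout i hi, din j hj]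
      cases y <;> simp only [Bool.not_true, Bool.not_false, ry]
      · exact ⟨t, S.d_T_in hi hj t⟩
      · exact ⟨t, S.d_p_in hi hj t⟩
    · rw [dout i hi, dout j hj]
      cases y <;> simp only [ry]
      · refine ⟨t, ?_⟩
        rw [(S.cK i j h hi hj t).eq, mul_assoc, S.dd, mul_one]
      · exact ⟨t, S.d_p_out h hi hj t⟩
  rintro ⟨i, x⟩ ⟨j, y⟩ h t
  cases x
  · obtain ⟨t', e⟩ := key _ R.twist i j h (!y) t
    refine ⟨t', ?_⟩
    rw [← ry_twist hn φ d (i, false) (j, y), ← ry_twist hn φ d (dPerm hn (i, false)), ← dPerm_flip, ← dPerm_flip]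
    exact e
  · exact key φ R i j h y t

/-- Monomial elements permute the root groups. -/
theorem ORel.moves_mono (A : SpecialLinearGroup (Fin n) F) (π : Equiv.Perm (Fin n)) (e e' : Fin n → F)
    (he : ∀ a, e a ≠ 0) (he' : ∀ a, e' a ≠ 0) (hA : ∀ a, Col A.1 a (π a) (e a))
    (hA' : ∀ a, Col (invT A).1 a (π a) (e' a))
    (hT : ∀ a b (h : a ≠ b) t, ∃ t', A * SpecialLinearGroup.transvection h t * A⁻¹ =
      SpecialLinearGroup.transvection (π.injective.ne h) t') :
    Moves hn φ d (φ A) (π.prodCongr (Equiv.refl Bool)) := by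
  have hy : ∀ a b, a ≠ b → ∀ t, ∃ t', φ A * yTr φ a b t * (φ A)⁻¹ = yTr φ (π a) (π b) t' := fun a b h t => by
    obtain ⟨t', ht⟩ := hT a b h t
    exact ⟨t', by rw [yTr_eq φ h, yTr_eq φ (π.injective.ne h), ← map_inv, ← map_mul, ← map_mul, ht]⟩
  rintro ⟨i, x⟩ ⟨j, y⟩ h t
  cases x <;> cases y <;> simp only [Equiv.prodCongr_apply, Prod.map, Equiv.refl_apply, ry]
  · refine ⟨e' i * e' j * t, ?_⟩
    have := R.twist.p_conj (A := invT A) h (π.injective.ne h) (hA' i) (hA' j) (he' i) (he' j) t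
    rwa [MonoidHom.comp_apply, invT_invT] at this
  · obtain ⟨t', ht⟩ := hy j i (Ne.symm h) (-t)
    exact ⟨-t', by rw [ht, neg_neg]⟩
  · exact hy i j h t
  · exact ⟨e i * e j * t, R.p_conj h (π.injective.ne h) (hA i) (hA j) (he i) (he j) t⟩

theorem ORel.moves_jSL {k l : Fin n} (h : k ≠ l) :
    Moves hn φ d (φ (emb2 k l jSL)) (swapPerm k l) := by
  have hw : ∀ a : Fin n, (wSgn k a : F) ≠ 0 := fun a => left_ne_zero_of_mul_eq_one (wSgn_sq k a)
  refine R.moves_mono _ _ (wSgn k) (wSgn k) hw hw (col_jSL h) (fun a => ?_) fun a b hab t =>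
    ⟨_, conj_transvection_jSL h hab t⟩
  rw [invT_emb2 h, cj_jSL]
  exact col_jSL h a

theorem ORel.moves_dSL {k l : Fin n} (h : k ≠ l) {c : F} (hc : c ≠ 0) :
    Moves hn φ d (φ (emb2 k l (dSL hc))) 1 := by
  have hne : ∀ {c : F}, c ≠ 0 → ∀ a : Fin n, (if a = k then c else if a = l then c⁻¹ else 1) ≠ 0 := fun hc a => by
    split_ifs
    exacts [hc, inv_ne_zero hc, one_ne_zero]
  have := R.moves_mono (emb2 k l (dSL hc)) 1 _ _ (hne hc) (hne (inv_ne_zero hc)) (col_dSL h hc) (fun a => by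
      rw [invT_emb2 h, cj_dSL, dSL_inv]
      exact col_dSL h (inv_ne_zero hc) a)
    fun a b hab t => ⟨_, by rw [emb2_dSL h, diag2n_scale h hc hab]; rfl⟩
  rwa [show (1 : Equiv.Perm (Fin n)).prodCongr (Equiv.refl Bool) = 1 from Equiv.ext fun a => rfl] at this

omit R in
/-- The torus of the exchanged first pair. -/
def hPlus (hn : 4 ≤ n) (φ : SpecialLinearGroup (Fin n) F →* P) (d : P) {c : F} (hc : c ≠ 0) : P :=
  d * φ (emb2 (ix hn 0) (ix hn 1) (dSL hc)) * d

omit R in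
/-- The diagonal subgroup. -/
def diagGen (F : Type*) [Field F] (n : ℕ) : Subgroup (SpecialLinearGroup (Fin n) F) :=
  Subgroup.closure {g | ∃ k l, k ≠ l ∧ ∃ (c : F) (hc : c ≠ 0), g = emb2 k l (dSL hc)}

omit R in
/-- The torus. -/
def oTor (hn : 4 ≤ n) (φ : SpecialLinearGroup (Fin n) F →* P) (d : P) : Subgroup P :=
  (diagGen F n).map φ ⊔ Subgroup.closure {z | ∃ (c : F) (hc : c ≠ 0), z = hPlus hn φ d hc}

omit R in
theorem dg_mem_oTor {k l : Fin n} (h : k ≠ l) {c : F} (hc : c ≠ 0) : φ (emb2 k l (dSL hc)) ∈ oTor hn φ d :=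
  Subgroup.mem_sup_left (Subgroup.mem_map_of_mem φ (Subgroup.subset_closure ⟨k, l, h, c, hc, rfl⟩))

omit R in
theorem hPlus_mem_oTor {c : F} (hc : c ≠ 0) : hPlus hn φ d hc ∈ oTor hn φ d :=
  Subgroup.mem_sup_right (Subgroup.subset_closure ⟨c, hc, rfl⟩)

omit R in
theorem oTor_le {H : Subgroup P} (h1 : ∀ k l : Fin n, k ≠ l → ∀ (c : F) (hc : c ≠ 0), φ (emb2 k l (dSL hc)) ∈ H)
    (h2 : ∀ (c : F) (hc : c ≠ 0), hPlus hn φ d hc ∈ H) : oTor hn φ d ≤ H := by
  refine sup_le ?_ ((Subgroup.closure_le _).2 fun z ⟨c, hc, e⟩ => e ▸ h2 c hc)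
  rw [Subgroup.map_le_iff_le_comap, diagGen, Subgroup.closure_le]
  rintro g ⟨k, l, h, c, hc, rfl⟩
  exact h1 k l h c hc

theorem ORel.moves_hPlus {c : F} (hc : c ≠ 0) : Moves hn φ d (hPlus hn φ d hc) 1 := by
  have h := Moves.mul (σ' := dPerm hn) (dPerm_flip hn)
    (Moves.mul (σ' := 1) (fun _ => rfl) R.moves_d (R.moves_dSL (ix_ne hn (show (0 : Fin 4) ≠ 1 by decide)) hc))
    R.moves_d
  rwa [mul_one, show dPerm hn * dPerm hn = 1 from Equiv.ext fun a => dFun_dFun hn a] at h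

theorem ORel.T_conj : ∀ τ ∈ oTor hn φ d, ∀ r t, ∃ t', τ * ox hn φ d r t * τ⁻¹ = ox hn φ d r t' := by
  let H : Subgroup P :=
    { carrier := {c | Moves hn φ d c 1 ∧ Moves hn φ d c⁻¹ 1}
      one_mem' := ⟨fun a b _ t => ⟨t, by simp⟩, fun a b _ t => ⟨t, by simp⟩⟩
      mul_mem' := fun {a b} ha hb => ⟨by simpa using Moves.mul (fun _ => rfl) ha.1 hb.1, by
        rw [_root_.mul_inv_rev]; simpa using Moves.mul (fun _ => rfl) hb.2 ha.2⟩
      inv_mem' := fun {a} ha => ⟨ha.2, by rw [inv_inv]; exact ha.1⟩ }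
  have hdi : d⁻¹ = d := inv_eq_of_mul_eq_one_right R.dd
  have hle : oTor hn φ d ≤ H := oTor_le (fun k l h c hc => ⟨R.moves_dSL h hc, by
      rw [← map_inv, ← map_inv, dSL_inv]; exact R.moves_dSL h _⟩)
    fun c hc => ⟨R.moves_hPlus hc, by
      rw [show (hPlus hn φ d hc)⁻¹ = hPlus hn φ d (inv_ne_zero hc) by
        simp only [hPlus, _root_.mul_inv_rev, hdi, ← map_inv, dSL_inv, mul_assoc]]
      exact R.moves_hPlus _⟩
  intro τ hτ r t
  obtain ⟨t', e⟩ := R.moves_ox (σ := 1) (fun _ => rfl) (hle hτ).1 r t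
  refine ⟨t', e.trans ?_⟩
  have h1 : ∀ h, oPerm (1 : Equiv.Perm (Sgn n)) h r = r := fun h => Subtype.ext (by simp [oPerm])
  exact congrFun (congrArg (ox hn φ d) (h1 fun _ => rfl)) t'

/-- Diagonal elements commute with the second torus. -/
theorem ORel.hPlus_comm {c : F} (hc : c ≠ 0) {A : SpecialLinearGroup (Fin n) F} (hA : A ∈ diagGen F n) :
    Commute (hPlus hn φ d hc) (φ A) := by
  have h01 := ix_ne hn (show (0 : Fin 4) ≠ 1 by decide)
  have h12 := ix_ne hn (show (1 : Fin 4) ≠ 2 by decide)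
  have h02 := ix_ne hn (show (0 : Fin 4) ≠ 2 by decide)
  let Q : Fin n → Fin n → Prop := fun k l => ∀ (e : F) (he : e ≠ 0), Commute (hPlus hn φ d hc) (φ (emb2 k l (dSL he)))
  have tri : ∀ k l m : Fin n, k ≠ l → l ≠ m → k ≠ m → Q k l → Q l m → Q k m := fun k l m hkl hlm hkm q1 q2 e he => by
    have : emb2 k m (dSL he) = emb2 k l (dSL he) * (emb2 l m (dSL he) : SpecialLinearGroup (Fin n) F) := by
      apply Subtype.ext
      show _ = (emb2 k l (dSL he)).1 * (emb2 l m (dSL he)).1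
      rw [emb2_dSL hkm, emb2_dSL hkl, emb2_dSL hlm, SpecialLinearGroup.diag2n_coe, SpecialLinearGroup.diag2n_coe,
        SpecialLinearGroup.diag2n_coe, diagonal_mul_diagonal]
      congr 1; funext x
      by_cases hx : x = k <;> by_cases hx' : x = l <;> by_cases hx'' : x = m <;> simp_all
    rw [this, map_mul]
    exact (q1 e he).mul_right (q2 e he)
  have sym : ∀ k l : Fin n, k ≠ l → Q k l → Q l k := fun k l h q e he => by
    rw [emb2_swap h, swHom_dSL, map_inv, map_inv]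
    exact (q e he).inv_right
  have q01 : Q (ix hn 0) (ix hn 1) := fun e he => R.aA (dSL hc) (dSL he)
  have q12 : Q (ix hn 1) (ix hn 2) := fun e he => by
    have e1 : d * (φ (emb2 (ix hn 1) (ix hn 2) (dSL he)))⁻¹ * d = φ (emb2 (ix hn 1) (ix hn 2) (dSL he)) := by
      rw [← map_inv, ← map_inv, R.flip, map_inv, cj_dSL, inv_inv]
    rw [← e1, hPlus, R.conj_d, R.conj_d, Commute, SemiconjBy, ← map_mul, ← map_mul]
    congr 1
    have hd : ∀ (z : SpecialLinearGroup (Fin n) F) (z' : SpecialLinearGroup (Fin n) F), Commute z z' →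
        φ z * (φ z')⁻¹ = (φ z')⁻¹ * φ z := fun z z' hz => (hz.map φ).inv_right.eq
    refine hd _ _ (Subtype.ext ?_)
    show (emb2 _ _ (dSL hc)).1 * (emb2 _ _ (dSL he)).1 = (emb2 _ _ (dSL he)).1 * (emb2 _ _ (dSL hc)).1
    rw [emb2_dSL h01, emb2_dSL h12, SpecialLinearGroup.diag2n_coe, SpecialLinearGroup.diag2n_coe,
      diagonal_mul_diagonal, diagonal_mul_diagonal]
    congr 1; funext x; ring
  have qout : ∀ k l, k ≠ l → Out hn k → Out hn l → Q k l := fun k l h hk hl e he => by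
    have hK : ∀ z : SL F, Commute d (φ (emb2 k l z)) := fun z => by
      have : (Subgroup.centralizer {d}).comap (φ.comp (emb2 k l)) = ⊤ := eq_top_of_up_low
        (fun t => Subgroup.mem_comap.2 (Subgroup.mem_centralizer_singleton_iff.2 (by
          rw [MonoidHom.comp_apply, emb2_up h, ← yTr_eq φ]; exact (R.cK k l h hk hl t).eq.symm)))
        fun t => Subgroup.mem_comap.2 (Subgroup.mem_centralizer_singleton_iff.2 (by
          rw [MonoidHom.comp_apply, emb2_low h, ← yTr_eq φ]; exact (R.cK l k h.symm hl hk t).eq.symm))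
      exact (Subgroup.mem_centralizer_singleton_iff.1 (Subgroup.mem_comap.1 (this.ge (Subgroup.mem_top z)))).symm
    have hz := (hK (dSL he)).eq
    have hcm : Commute (emb2 (ix hn 0) (ix hn 1) (dSL hc)) (emb2 k l (dSL he) : SpecialLinearGroup (Fin n) F) := by
      refine Subtype.ext ?_
      show (emb2 _ _ (dSL hc)).1 * (emb2 k l (dSL he)).1 = (emb2 k l (dSL he)).1 * (emb2 _ _ (dSL hc)).1
      rw [emb2_dSL h01, emb2_dSL h, SpecialLinearGroup.diag2n_coe, SpecialLinearGroup.diag2n_coe,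
        diagonal_mul_diagonal, diagonal_mul_diagonal]
      congr 1; funext x; ring
    exact ((hK (dSL he)).mul_left (hcm.map φ)).mul_left (hK (dSL he))
  have q0 : ∀ k, k ≠ ix hn 0 → Q (ix hn 0) k := fun k hk => by
    by_cases h1 : k = ix hn 1
    · subst h1; exact q01
    by_cases h2 : k = ix hn 2
    · subst h2; exact tri _ _ _ h01 h12 h02 q01 q12
    exact qout _ _ (Ne.symm hk) (out_zero hn) ⟨h1, h2⟩
  induction hA using Subgroup.closure_induction with
  | mem g hg =>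
    obtain ⟨k, l, h, e, he, rfl⟩ := hg
    by_cases hk : k = ix hn 0
    · subst hk; exact q0 l h.symm e he
    by_cases hl : l = ix hn 0
    · subst hl; exact sym _ _ (Ne.symm hk) (q0 k hk) e he
    exact tri k (ix hn 0) l hk (Ne.symm hl) h (sym _ _ (Ne.symm hk) (q0 k hk)) (q0 l hl) e he
  | one => rw [map_one]; exact Commute.one_right _
  | mul x y _ _ hx hy => rw [map_mul]; exact hx.mul_right hy
  | inv x _ hx => rw [map_inv]; exact hx.inv_right

end CfsgLib.OPlusPres
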